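import Cfsg.Agent.Comp.Cox
import Cfsg.Agent.Comp.OutSub
import Cfsg.Prelude.Def_Spor_Th

set_option autoImplicit false
set_option maxRecDepth 100000

namespace Cfsg.Agent.DCE.Th
open Cfsg.Agent.Comp

/-- the group -/
abbrev G : Type := Cfsg.Spor.Th

def R : List (List Nat) :=
  [[0, 1],
   [1, 0],
   [2, 3],
   [3, 2],
   [4, 5],
   [5, 4],
   [6, 7],
   [7, 6],
   [8, 9],
   [9, 8],
   [10, 11],
   [11, 10],
   [12, 13],
   [13, 12],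
   [14, 15],
   [15, 14],
   [0, 0],
   [2, 2],
   [4, 4],
   [6, 6],
   [8, 8],
   [0, 2, 0, 2, 0, 2],
   [0, 8, 0, 8],
   [2, 4, 2, 4, 2, 4],
   [2, 6, 2, 6],
   [2, 8, 2, 8],
   [0, 7, 5, 7, 5, 7, 5, 7, 5],
   [4, 8, 4, 8],
   [6, 8, 6, 8, 6, 8],
   [2, 4, 6, 8, 2, 4, 6, 8, 2, 4, 6, 8, 2, 4, 6, 8, 2, 4, 6, 8, 2, 4, 6, 8, 2, 4, 6, 8, 2, 4, 6, 8],
   [10, 10, 10, 10, 10, 10, 10],
   [11, 1, 10, 0],
   [11, 3, 10, 2],
   [11, 5, 10, 4],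
   [10, 6, 10, 6],
   [9, 11, 8, 11, 11, 9, 10, 10, 10],
   [12, 12, 12],
   [13, 1, 12, 0],
   [13, 3, 12, 2],
   [13, 5, 12, 4],
   [13, 7, 12, 6],
   [13, 9, 12, 8],
   [13, 10, 12, 11, 11],
   [14, 14, 5, 1],
   [15, 1, 14, 0],
   [15, 5, 14, 4],
   [15, 9, 14, 8],
   [6, 8, 15, 6, 14, 6, 8, 15, 6, 14],
   [15, 3, 5, 1, 2, 14, 3, 0, 4, 2, 9],
   [7, 15, 6, 3, 5, 1, 2, 7, 14, 6, 3, 0, 4, 2, 5, 9, 7, 15, 6, 3, 5, 1, 2, 9, 15],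
   [15, 12, 14, 12],
   [9, 11, 11, 15, 10, 10, 8, 11, 11, 14, 10, 10],
   [0, 4, 11, 15, 11, 15, 11, 15],
   [0, 4, 11, 15, 10, 14, 11, 15, 10, 14, 11, 15, 10, 14, 11, 15, 10, 14],
   [6, 11, 11, 14, 10, 10, 6, 11, 11, 14, 10, 10, 6, 11, 11, 14, 10, 10, 6, 11, 11, 14, 9, 7, 5, 6, 8, 10, 10, 10, 9, 7, 5, 6, 8, 11, 7, 5, 6, 5, 1]]

def lt : List (Cfsg.Spor.Th.Gen × Bool) := [(.a, true), (.a, false), (.b, true), (.b, false), (.c, true), (.c, false), (.d, true), (.d, false), (.e, true), (.e, false), (.s, true), (.s, false), (.t, true), (.t, false), (.u, true), (.u, false)]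

def all : List Cfsg.Spor.Th.Gen := [.a, .b, .c, .d, .e, .s, .t, .u]

def e : Cfsg.Spor.Th.Gen → Nat
  | .a => 0
  | .b => 2
  | .c => 4
  | .d => 6
  | .e => 8
  | .s => 10
  | .t => 12
  | .u => 14

def iv : Nat := 677545530987386281747614721

/-- the letters -/
noncomputable def s : ℕ → Cfsg.Spor.Th := coxS Cfsg.Spor.Th.edges Cfsg.Spor.Th.extra lt

theorem presAll : IsPres s 16 R ∧ (∀ x, s (e x) = PresentedGroup.of x) ∧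
    ∀ r, PresentedGroup.mk _ r = ev s (freeWord e iv r) :=
  isPres_cox (all := all) (by intro x; cases x <;> decide) (by decide +kernel)

theorem pres : IsPres s 16 R := presAll.1

theorem hR : ∀ w ∈ R, ∀ x ∈ w, x < 16 := by decide +kernel

def RH : List (List Nat) :=
  [[0, 1],
   [1, 0],
   [2, 3],
   [3, 2],
   [4, 5],
   [5, 4],
   [6, 7],
   [7, 6],
   [8, 9],
   [9, 8],
   [10, 11],
   [11, 10],
   [12, 13],
   [13, 12],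
   [0, 0],
   [2, 2],
   [4, 4],
   [6, 6],
   [8, 8],
   [0, 2, 0, 2, 0, 2],
   [0, 8, 0, 8],
   [2, 4, 2, 4, 2, 4],
   [2, 6, 2, 6],
   [2, 8, 2, 8],
   [0, 7, 5, 7, 5, 7, 5, 7, 5],
   [4, 8, 4, 8],
   [6, 8, 6, 8, 6, 8],
   [2, 4, 6, 8, 2, 4, 6, 8, 2, 4, 6, 8, 2, 4, 6, 8, 2, 4, 6, 8, 2, 4, 6, 8, 2, 4, 6, 8, 2, 4, 6, 8],
   [10, 10, 10, 10, 10, 10, 10],
   [11, 1, 10, 0],
   [11, 3, 10, 2],
   [11, 5, 10, 4],
   [10, 6, 10, 6],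
   [9, 11, 8, 11, 11, 9, 10, 10, 10],
   [12, 12, 12],
   [13, 1, 12, 0],
   [13, 3, 12, 2],
   [13, 5, 12, 4],
   [13, 7, 12, 6],
   [13, 9, 12, 8],
   [13, 10, 12, 11, 11]]

theorem hRH : ∀ w ∈ RH, ∀ x ∈ w, x < 14 := by decide +kernel

/-- the group of the relators without `u` -/
abbrev H : Type := Pres 14 RH

/-- its letters -/
def h : ℕ → H := presS 14 RH

theorem presH : IsPres h 14 RH := isPres_pres hRH

end Cfsg.Agent.DCE.Th
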