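import Cfsg.Agent.DCE.Th.TcA
import Cfsg.Agent.DCE.Th.Pres
import Cfsg.Agent.H2.Carm

set_option autoImplicit false
set_option maxRecDepth 100000
set_option Elab.async false

namespace Cfsg.Agent.DCE.Th
open Cfsg.Agent.Comp

def RU : List (List Nat) :=
  [[0, 1],
   [1, 0],
   [2, 3],
   [3, 2],
   [4, 5],
   [5, 4],
   [6, 7],
   [7, 6],
   [8, 9],
   [9, 8],
   [10, 11],
   [11, 10],
   [12, 13],
   [13, 12],
   [0, 0],
   [2, 2],
   [4, 4],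
   [6, 6],
   [0, 6, 0, 6],
   [0, 5, 3, 5, 3, 5, 3, 5, 3],
   [2, 6, 2, 6],
   [4, 6, 4, 6, 4, 6],
   [8, 8, 8, 8, 8, 8, 8],
   [9, 1, 8, 0],
   [9, 3, 8, 2],
   [8, 4, 8, 4],
   [7, 9, 6, 9, 9, 7, 8, 8, 8],
   [10, 10, 10],
   [11, 1, 10, 0],
   [11, 3, 10, 2],
   [11, 5, 10, 4],
   [11, 7, 10, 6],
   [11, 8, 10, 9, 9],
   [12, 12, 3, 1],
   [13, 1, 12, 0],
   [13, 3, 12, 2],
   [13, 7, 12, 6],
   [4, 6, 13, 4, 12, 4, 6, 13, 4, 12],
   [13, 10, 12, 10],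
   [7, 9, 9, 13, 8, 8, 6, 9, 9, 12, 8, 8],
   [0, 2, 9, 13, 9, 13, 9, 13],
   [0, 2, 9, 13, 8, 12, 9, 13, 8, 12, 9, 13, 8, 12, 9, 13, 8, 12],
   [4, 9, 9, 12, 8, 8, 4, 9, 9, 12, 8, 8, 4, 9, 9, 12, 8, 8, 4, 9, 9, 12, 7, 5, 3, 4, 6, 8, 8, 8, 7, 5, 3, 4, 6, 9, 5, 3, 4, 3, 1],
   [0],
   [2]]

theorem hRU : ∀ w ∈ RU, ∀ x ∈ w, x < 14 := by decide +kernel

/-- the group of the relators without `b`, with `a = c = 1` -/
abbrev UU : Type := Pres 14 RU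

/-- its letters -/
def uu : ℕ → UU := presS 14 RU

theorem presU : IsPres uu 14 RU := isPres_pres hRU

theorem upK {X : Type} [Group X] {s : ℕ → X} {R : List (List ℕ)} (hs : Sat s R) {a b c d e f g h : ℕ}
    (h1 : ∀ w ∈ TK.R, w.map (nth 0 [a, b, c, d, e, f, g, h]) ∈ R)
    (h2 : ∀ w ∈ TS.R, w.map (nth 0 [e, f, g, h]) ∈ R) :
    CardLe (genW s [[a], [b], [c], [d], [e], [f], [g], [h]]) (72 * (21 * 1)) :=
  CardLe.tc (V' := [[e], [f], [g], [h]]) [a, b, c, d, e, f, g, h] TK.index hs h1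
    (by simp [letters, List.range_succ, nth_eq]) (by simp [TK.W, nth_eq])
    (CardLe.tc (V' := []) [e, f, g, h] TS.index hs h2 (by simp [letters, List.range_succ, nth_eq])
      (by simp [TS.W]) (cardLe_nil s))

theorem upU : CardLe (genW uu (letters 14)) (120 * (72 * (21 * 1))) :=
  CardLe.tc (V' := [[4], [5], [6], [7], [8], [9], [10], [11]]) (List.range 14) TU.index presU.sat
    (by decide +kernel) (by decide +kernel) (by decide +kernel)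
    (upK presU.sat (by decide +kernel) (by decide +kernel))

theorem h01 : (0 : Fin 9) ≠ 1 := by decide

/-- the three-cycles -/
def cy (j : ℕ) : alternatingGroup (Fin 9) :=
  H2.Carm.cyc h01 ⟨Fin.ofNat 9 (j % 7 + 2), (by decide : ∀ j < 7,
    0 ≠ Fin.ofNat 9 (j + 2) ∧ 1 ≠ Fin.ofNat 9 (j + 2)) _ (Nat.mod_lt _ (by norm_num))⟩

def twA : List (List Nat) := [[], [], [], [], [1, 2, 2, 1, 3, 4, 5, 6, 3, 4], [1, 2, 2, 1, 3, 4, 5, 6, 3, 4], [1, 0, 2, 1, 4, 5, 2, 6, 3, 5, 1], [1, 0, 2, 1, 4, 5, 2, 6, 3, 5, 1], [0, 5, 1, 6, 4, 2, 3, 0, 5], [0, 3, 2, 4, 6, 1, 5, 0, 3], [1, 2, 4, 6, 5, 3, 1, 2], [1, 2, 5, 3, 4, 6, 1, 2], [1, 2, 4, 3, 1, 2], [1, 2, 4, 3, 1, 2]]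

def twC : List (List Nat) := [[4, 6, 4, 12, 4, 12], [4, 8, 6, 4, 12, 4, 12, 8], [4, 9, 6, 4, 12, 4, 12, 9], [4, 10, 9, 6, 4, 12, 4, 12, 9, 11], [4, 8, 8, 6, 4, 12, 4, 12, 8, 8], [4, 10, 8, 6, 4, 12, 4, 12, 8, 11], [4, 9, 9, 6, 4, 12, 4, 12, 9, 9]]

/-- the images of the letters -/
def pa (x : ℕ) : alternatingGroup (Fin 9) := ev cy (twA.getD x [])

/-- the images as permutations -/
def pp (x : ℕ) : Equiv.Perm (Fin 9) := (pa x).1

theorem coe_ev (w : List ℕ) : (ev pa w).1 = ev pp w :=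
  map_ev _ (alternatingGroup (Fin 9)).subtype w

theorem satA : Sat pa RU := fun w hw => Subtype.ext ((coe_ev w).trans
  (Equiv.ext ((by decide +kernel : ∀ w ∈ RU, ∀ i, ev pp w i = i) w hw)))

theorem card_A9 : Nat.card (alternatingGroup (Fin 9)) = 181440 := by
  have := two_mul_nat_card_alternatingGroup (α := Fin 9)
  rw [Nat.card_perm, Nat.card_fin] at this
  norm_num [Nat.factorial] at this ⊢
  omega

theorem isoU : ∃ e : UU ≃* alternatingGroup (Fin 9), ∀ x < 14, e (uu x) = pa x := by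
  obtain ⟨ψ, hψ⟩ := presU.univ _ pa satA
  have h1 := upU
  rw [show genW uu (letters 14) = ⊤ from presU.top] at h1
  have := h1.1
  have : Finite UU := Finite.of_equiv _ Subgroup.topEquiv.toEquiv
  have hs : Function.Surjective ψ := by
    rw [← MonoidHom.range_eq_top, eq_top_iff, ← H2.Carm.closure_cyc h01, Subgroup.closure_le]
    rintro _ ⟨⟨c, hc⟩, rfl⟩
    obtain ⟨h2, h3⟩ := (by decide +kernel : ∀ c : Fin 9, 0 ≠ c ∧ 1 ≠ c →
      (∀ x ∈ twC.getD (c.1 - 2) [], x < 14) ∧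
      ∀ i, ev pp (twC.getD (c.1 - 2) []) i = (Equiv.swap 0 c * Equiv.swap 0 1 : Equiv.Perm _) i) c hc
    refine ⟨ev uu (twC.getD (c.1 - 2) []), ?_⟩
    rw [map_ev, ev_congr fun x hx => hψ x (h2 x hx)]
    exact Subtype.ext ((coe_ev _).trans (Equiv.ext h3))
  refine ⟨MulEquiv.ofBijective ψ ((Nat.bijective_iff_surjective_and_card ψ).2 ⟨hs, le_antisymm ?_
    (Nat.card_le_card_of_surjective ψ hs)⟩), hψ⟩
  rw [card_A9, ← Subgroup.card_top]
  exact h1.2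

instance : IsSimpleGroup UU :=
  have := alternatingGroup.isSimpleGroup (α := Fin 9) (by simp)
  isoU.choose.isSimpleGroup

theorem cardU : Nat.card UU = 181440 := (Nat.card_congr isoU.choose.toEquiv).trans card_A9

end Cfsg.Agent.DCE.Th
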