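import Cfsg.Agent.DCE.Th.Pres
import Cfsg.Agent.DCE.Th.Q0
import Cfsg.Agent.DCE.Th.Q1
import Cfsg.Agent.DCE.Th.Q2

set_option autoImplicit false
set_option maxRecDepth 100000
set_option Elab.async false

namespace Cfsg.Agent.DCE.Th
open Cfsg.Agent.Comp

noncomputable def T2 : List Net := [q0, q0, q2, q2, q4, q4, q6, q6, q8, q8, q10, q11, q12, q13, q14, q15, q16, q17, q18, q19, q20, q21]

theorem ok2 : TOK 17199 T2 :=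
  (TOK.cons q0_ok (TOK.cons q0_ok (TOK.cons q2_ok (TOK.cons q2_ok (TOK.cons q4_ok (TOK.cons q4_ok (TOK.cons q6_ok (TOK.cons q6_ok (TOK.cons q8_ok (TOK.cons q8_ok (TOK.cons q10_ok (TOK.cons q11_ok (TOK.cons q12_ok (TOK.cons q13_ok (TOK.cons q14_ok (TOK.cons q15_ok (TOK.cons q16_ok (TOK.cons q17_ok (TOK.cons q18_ok (TOK.cons q19_ok (TOK.cons q20_ok (TOK.cons q21_ok (TOK.nil _)))))))))))))))))))))))

def E2 : List (List Nat × List Nat) :=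
  [([14], [12, 4, 12, 8, 4, 4, 12, 6, 2, 12, 6, 10, 10, 6, 10, 8]),
   ([15], [9, 11, 7, 11, 11, 7, 13, 3, 7, 13, 5, 5, 9, 13, 5, 13]),
   ([16], [2, 6, 4, 6, 8, 8, 12, 12, 4, 10, 6, 6, 4, 8, 10, 8]),
   ([17], [9, 11, 9, 5, 7, 7, 11, 5, 13, 13, 9, 9, 7, 5, 7, 3]),
   ([18], [10, 6, 6, 10, 2, 4, 12, 10, 12, 2, 8, 4, 12, 6, 4, 4]),
   ([19], [5, 5, 7, 13, 5, 9, 3, 13, 11, 13, 5, 3, 11, 7, 7, 11]),
   ([20], [12, 10, 12, 8, 8, 8, 8, 10, 8, 8, 6, 4, 10, 2, 6, 8]),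
   ([21], [9, 7, 3, 11, 5, 7, 9, 9, 11, 9, 9, 9, 9, 13, 11, 13])]

def sat2_0L : List (List Nat) :=
  [[0, 1],
   [1, 0],
   [2, 3],
   [3, 2],
   [4, 5],
   [5, 4],
   [6, 7],
   [7, 6],
   [8, 9],
   [9, 8],
   [10, 11],
   [11, 10],
   [12, 13],
   [13, 12],
   [0, 0],
   [2, 2],
   [4, 4],
   [6, 6],
   [8, 8],
   [0, 2, 0, 2, 0, 2],
   [0, 8, 0, 8],
   [2, 4, 2, 4, 2, 4],
   [2, 6, 2, 6],
   [2, 8, 2, 8],
   [0, 7, 5, 7, 5, 7, 5, 7, 5],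
   [4, 8, 4, 8],
   [6, 8, 6, 8, 6, 8]]

def sat2_1L : List (List Nat) :=
  [[2, 4, 6, 8, 2, 4, 6, 8, 2, 4, 6, 8, 2, 4, 6, 8, 2, 4, 6, 8, 2, 4, 6, 8, 2, 4, 6, 8, 2, 4, 6, 8],
   [10, 10, 10, 10, 10, 10, 10],
   [11, 1, 10, 0],
   [11, 3, 10, 2],
   [11, 5, 10, 4],
   [10, 6, 10, 6],
   [9, 11, 8, 11, 11, 9, 10, 10, 10],
   [12, 12, 12],
   [13, 1, 12, 0],
   [13, 3, 12, 2],
   [13, 5, 12, 4],
   [13, 7, 12, 6],
   [13, 9, 12, 8],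
   [13, 10, 12, 11, 11]]

def eqs2_0L : List (List Nat × List Nat) :=
  [([14], [12, 4, 12, 8, 4, 4, 12, 6, 2, 12, 6, 10, 10, 6, 10, 8]),
   ([15], [9, 11, 7, 11, 11, 7, 13, 3, 7, 13, 5, 5, 9, 13, 5, 13]),
   ([16], [2, 6, 4, 6, 8, 8, 12, 12, 4, 10, 6, 6, 4, 8, 10, 8]),
   ([17], [9, 11, 9, 5, 7, 7, 11, 5, 13, 13, 9, 9, 7, 5, 7, 3]),
   ([18], [10, 6, 6, 10, 2, 4, 12, 10, 12, 2, 8, 4, 12, 6, 4, 4]),
   ([19], [5, 5, 7, 13, 5, 9, 3, 13, 11, 13, 5, 3, 11, 7, 7, 11])]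

def eqs2_1L : List (List Nat × List Nat) :=
  [([20], [12, 10, 12, 8, 8, 8, 8, 10, 8, 8, 6, 4, 10, 2, 6, 8]),
   ([21], [9, 7, 3, 11, 5, 7, 9, 9, 11, 9, 9, 9, 9, 13, 11, 13])]

theorem sat2_0_0 : SatP 17199 0 15 T2 sat2_0L :=
  satP_of_relsP ok2 (by norm_num) (by norm_num) (by norm_num) (show relsP (nat_lit 17199) (nat_lit 15) (nat_lit 0) (nat_lit 15) T2 sat2_0L = true by decide +kernel)

theorem sat2_1_0 : SatP 17199 0 15 T2 sat2_1L :=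
  satP_of_relsP ok2 (by norm_num) (by norm_num) (by norm_num) (show relsP (nat_lit 17199) (nat_lit 15) (nat_lit 0) (nat_lit 15) T2 sat2_1L = true by decide +kernel)

theorem eqs2_0_0 : EqsP 17199 0 15 T2 eqs2_0L :=
  eqsP_of ok2 (by norm_num) (by norm_num) (by norm_num) (show eqsP (nat_lit 17199) (nat_lit 15) (nat_lit 0) (nat_lit 15) T2 eqs2_0L = true by decide +kernel)

theorem eqs2_1_0 : EqsP 17199 0 15 T2 eqs2_1L :=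
  eqsP_of ok2 (by norm_num) (by norm_num) (by norm_num) (show eqsP (nat_lit 17199) (nat_lit 15) (nat_lit 0) (nat_lit 15) T2 eqs2_1L = true by decide +kernel)

theorem tr2 : Nat.beq (grow T2 (letters 22) [14, 16, 18, 20, 14, 16, 18, 20, 14, 16, 18, 20, 14, 16, 18, 20, 14, 16, 14] (pt (nat_lit 0))) (ivl 0 17199) = true := by
  decide +kernel

theorem fix2 : invS T2 [[2, 0, 4, 2], [8], [14, 19, 15, 15, 21, 17, 18, 21, 16]] (pt (nat_lit 0)) = true := by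
  decide +kernel

theorem sat2_0 : Sat (sig T2) sat2_0L := SatP.sat sat2_0_0 ok2 (by norm_num)

theorem sat2_1 : Sat (sig T2) sat2_1L := SatP.sat sat2_1_0 ok2 (by norm_num)

theorem sat2 : Sat (sig T2) RH :=
  (show (sat2_0L ++ sat2_1L) = RH by decide +kernel) ▸ (Sat.append sat2_0 sat2_1)

theorem eqs2_0 : ∀ e ∈ eqs2_0L, ev (sig T2) e.1 = ev (sig T2) e.2 := EqsP.eqs eqs2_0_0 ok2 (by norm_num)

theorem eqs2_1 : ∀ e ∈ eqs2_1L, ev (sig T2) e.1 = ev (sig T2) e.2 := EqsP.eqs eqs2_1_0 ok2 (by norm_num)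

theorem eqs2 : ∀ e ∈ E2, ev (sig T2) e.1 = ev (sig T2) e.2 :=
  (show (eqs2_0L ++ eqs2_1L) = E2 by decide +kernel) ▸ (eqs_append eqs2_0 eqs2_1)


end Cfsg.Agent.DCE.Th
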