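import Cfsg.Agent.DCE.Th.Up
import Cfsg.Agent.DCE.Th.Nets
import Cfsg.Agent.DCE.Th.QS
import Cfsg.Agent.DCE.Tw

set_option autoImplicit false
set_option maxRecDepth 100000
set_option Elab.async false

namespace Cfsg.Agent.DCE.Th
open Cfsg.Agent.Comp Cfsg.Agent.DCE

noncomputable def phi : H →* Equiv.Perm ℕ := (presH.rep ok sat).choose

theorem rep : Rep h 14 819 T phi := (presH.rep ok sat).choose_spec

theorem cardH : Finite H ∧ Nat.card H = 634023936 ∧ Function.Injective phi := rep.card_eq upH low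

theorem st0 {bs : List ℕ} {m : ℕ} (h : BaseGe (genW (sig T) lowW1) bs m) :
    BaseGe (genW (sig T) (letters 14)) (0 :: bs) (819 * m) :=
  BaseGe.step (W' := lowW1) (b := 0) (n := 819) ok (le_of_subOK eqs (show subOK (letters 14) lowW1 E = true by decide +kernel)) (by decide +kernel)
    (le_ncard_of_ivl (a := 0) ok (by norm_num) (show Nat.beq (grow T (letters 14) [2, 0, 4, 6, 2, 4, 8, 2, 10, 6, 8, 12, 0, 4, 6, 2, 10, 12, 8, 0, 10, 6] (pt (nat_lit 0))) (ivl (nat_lit 0) (nat_lit 819)) = true by decide +kernel)) h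

theorem st1 {bs : List ℕ} {m : ℕ} (h : BaseGe (genW (sig T) lowW2) bs m) :
    BaseGe (genW (sig T) lowW1) (58 :: bs) (288 * m) :=
  BaseGe.step (W' := lowW2) (b := 58) (n := 288) ok (le_of_subOK eqs (show subOK lowW1 lowW2 E = true by decide +kernel)) (by decide +kernel)
    (le_ncard_of_orbGe ok (by norm_num) (show orbGe (nat_lit 819) (nat_lit 10) T lowW1 [0, 4, 2, 6, 4, 8, 6, 8, 4, 2, 6, 8, 4, 10, 8] (nat_lit 58) (nat_lit 288) = true by decide +kernel)) h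

theorem st2 {bs : List ℕ} {m : ℕ} (h : BaseGe (genW (sig T) lowW3) bs m) :
    BaseGe (genW (sig T) lowW2) (94 :: bs) (224 * m) :=
  BaseGe.step (W' := lowW3) (b := 94) (n := 224) ok (le_of_subOK eqs (show subOK lowW2 lowW3 E = true by decide +kernel)) (by decide +kernel)
    (le_ncard_of_orbGe ok (by norm_num) (show orbGe (nat_lit 819) (nat_lit 10) T lowW2 [0, 2, 6, 7, 0, 2, 7, 4, 6, 7, 0] (nat_lit 94) (nat_lit 224) = true by decide +kernel)) h

theorem st3 {bs : List ℕ} {m : ℕ} (h : BaseGe (genW (sig T) []) bs m) :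
    BaseGe (genW (sig T) lowW3) (87 :: bs) (12 * m) :=
  BaseGe.step (W' := []) (b := 87) (n := 12) ok (le_of_subOK eqs (show subOK lowW3 [] E = true by decide +kernel)) (by decide +kernel)
    (le_ncard_of_orbGe ok (by norm_num) (show orbGe (nat_lit 819) (nat_lit 10) T lowW3 [0, 1, 0, 1, 0] (nat_lit 87) (nat_lit 12) = true by decide +kernel)) h

theorem cardR : Nat.card phi.range = 634023936 := by
  rw [rep.range, rep.card_gen cardH.2.2, cardH.2.1]

theorem base : IsBase phi.range [0, 58, 94, 87] :=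
  BaseGe.isBase (st0 (st1 (st2 (st3 (BaseGe.nil _))))) rep.range.ge (by rw [cardR]) (by norm_num)

theorem satH : Sat s RH := pres.sat.mono (by decide +kernel)

/-- the map of `H` to `G` -/
noncomputable def io : H →* G := (presH.univ G s satH).choose

theorem io_h : ∀ x < 14, io (h x) = s x := (presH.univ G s satH).choose_spec

def tw1 : List (List Nat) :=
  [[0],
   [1],
   [2],
   [3],
   [4],
   [5],
   [6],
   [7],
   [8],
   [9],
   [10],
   [11],
   [12],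
   [13],
   [12, 4, 12, 8, 4, 4, 12, 6, 2, 12, 6, 10, 10, 6, 10, 8],
   [9, 11, 7, 11, 11, 7, 13, 3, 7, 13, 5, 5, 9, 13, 5, 13],
   [2, 6, 4, 6, 8, 8, 12, 12, 4, 10, 6, 6, 4, 8, 10, 8],
   [9, 11, 9, 5, 7, 7, 11, 5, 13, 13, 9, 9, 7, 5, 7, 3],
   [10, 6, 6, 10, 2, 4, 12, 10, 12, 2, 8, 4, 12, 6, 4, 4],
   [5, 5, 7, 13, 5, 9, 3, 13, 11, 13, 5, 3, 11, 7, 7, 11],
   [12, 10, 12, 8, 8, 8, 8, 10, 8, 8, 6, 4, 10, 2, 6, 8],
   [9, 7, 3, 11, 5, 7, 9, 9, 11, 9, 9, 9, 9, 13, 11, 13]]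

def tw2 : List (List Nat) :=
  [[0],
   [1],
   [2],
   [3],
   [4],
   [5],
   [6],
   [7],
   [8],
   [9],
   [10],
   [11],
   [12],
   [13],
   [14],
   [15],
   [16],
   [17],
   [18],
   [19],
   [20],
   [21],
   [10, 10, 8, 11, 11],
   [10, 10, 9, 11, 11],
   [2, 0, 4, 2],
   [3, 5, 1, 3],
   [14, 19, 15, 15, 21, 17, 18, 21, 16],
   [17, 20, 19, 16, 20, 14, 14, 18, 15],
   [8, 2, 0, 4, 2],
   [3, 5, 1, 3, 9],
   [20, 19, 16, 21, 21, 21, 21, 16, 15, 15, 19],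
   [18, 14, 14, 17, 20, 20, 20, 20, 17, 18, 21],
   [14, 19, 20, 14, 14, 20, 15, 17, 19, 15, 19],
   [18, 14, 18, 16, 14, 21, 15, 15, 21, 18, 15],
   [20, 15, 21, 19, 19, 14, 19],
   [18, 15, 18, 18, 20, 14, 21],
   [14, 19, 15, 15, 21, 17, 18, 21, 16],
   [17, 20, 19, 16, 20, 14, 14, 18, 15],
   [19, 17, 19, 19, 19, 20, 16, 19],
   [18, 17, 21, 18, 18, 18, 16, 18],
   [19, 17, 19, 19, 19, 20, 16, 19],
   [18, 17, 21, 18, 18, 18, 16, 18],
   [15, 15, 15, 17, 20, 14, 19, 19, 20, 14],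
   [15, 21, 18, 18, 15, 21, 16, 14, 14, 14],
   [19, 17, 19, 19, 19, 20, 16, 19],
   [18, 17, 21, 18, 18, 18, 16, 18],
   [19, 17, 19, 19, 19, 20, 16, 19],
   [18, 17, 21, 18, 18, 18, 16, 18],
   [17, 21, 18, 21, 15, 19, 21, 17, 21, 21],
   [20, 20, 16, 20, 18, 14, 20, 19, 20, 16],
   [20, 15, 21, 19, 19, 14, 19],
   [18, 15, 18, 18, 20, 14, 21],
   [20, 19, 16, 21, 21, 21, 21, 16, 15, 15, 19],
   [18, 14, 14, 17, 20, 20, 20, 20, 17, 18, 21],
   [17, 17, 19, 14, 19, 20, 18, 21, 17, 19],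
   [18, 16, 20, 19, 21, 18, 15, 18, 16, 16],
   [17, 17, 19, 14, 19, 20, 18, 21, 17, 19],
   [18, 16, 20, 19, 21, 18, 15, 18, 16, 16],
   [15, 18, 14, 19, 21, 16, 15, 18, 15, 20, 15],
   [14, 21, 14, 19, 14, 17, 20, 18, 15, 19, 14],
   [17, 17, 19, 14, 19, 20, 18, 21, 17, 19],
   [18, 16, 20, 19, 21, 18, 15, 18, 16, 16],
   [17, 17, 19, 14, 19, 20, 18, 21, 17, 19],
   [18, 16, 20, 19, 21, 18, 15, 18, 16, 16]]

/-- more letters -/
def a1 (x : ℕ) : H := ev h (tw1.getD x [])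

/-- the alphabet of the checks -/
def ax (x : ℕ) : H := ev a1 (tw2.getD x [])

theorem ax_a1 : ∀ x < 22, ax x = a1 x := fun x hx => by
  rw [ax, (by decide +kernel : ∀ x < 22, tw2.getD x [] = [x]) x hx, ev_single]

theorem ax_h : ∀ x < 14, ax x = h x := fun x hx => by
  rw [ax_a1 x (by omega), a1, (by decide +kernel : ∀ x < 14, tw1.getD x [] = [x]) x hx, ev_single]

theorem ax_eq : ∀ x < 64, ax x = ev ax (tw2.getD x []) := fun x hx =>
  ev_congr fun y hy =>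
    (ax_a1 y ((by decide +kernel : ∀ x < 64, ∀ y ∈ tw2.getD x [], y < 22) x hx y hy)).symm

theorem io_ev {w : List ℕ} (hw : ltB 14 w = true) : io (ev ax w) = ev s w :=
  (map_ev _ io w).trans (ev_congr fun x hx => by
    rw [ax_h x (ltB_spec hw x hx), io_h x (ltB_spec hw x hx)])

theorem rep_lift {n : ℕ} {T : List Net} {φ : H →* Equiv.Perm ℕ} (hr : Rep h 14 n T φ)
    (hE : ∀ e ∈ E2, ev (sig T) e.1 = ev (sig T) e.2) : Rep ax 22 n T φ := by
  refine ⟨?_, hr.ok, fun x hx => ?_⟩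
  · rw [eq_top_iff, ← presH.top, gen_le]
    exact fun x hx => ax_h x hx ▸ letter_mem_gen (by omega)
  · by_cases c : x < 14
    · rw [ax_h x c, hr.map x c]
    · obtain ⟨h1, h2⟩ := (by decide +kernel : ∀ x < 22, ¬ x < 14 → ([x], tw1.getD x []) ∈ E2 ∧
        ∀ y ∈ tw1.getD x [], y < 14) x hx c
      rw [ax_a1 x hx, a1, hr.ev_eq h2, ← hE _ h1, ev_single]

theorem repx : Rep ax 22 819 T phi :=
  rep_lift rep fun e he => eqs e ((by decide +kernel : ∀ e ∈ E2, e ∈ E) e he)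

noncomputable def phi2 : H →* Equiv.Perm ℕ := (presH.rep ok2 sat2).choose

theorem rep2 : Rep ax 22 17199 T2 phi2 := rep_lift (presH.rep ok2 sat2).choose_spec eqs2

theorem trans2 : ∀ i < 17199, ∃ g, phi2 g 0 = i := rep2.trans tr2

def W0 : List (List Nat) := [[2, 0, 4, 2], [8], [14, 19, 15, 15, 21, 17, 18, 21, 16]]

theorem stab2 : (genW ax W0).index = 17199 ∧ ∀ g, g ∈ genW ax W0 ↔ phi2 g 0 = 0 := by
  have := cardH.1
  have h1 : 36864 ≤ Nat.card (genW ax W0) := by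
    rw [repx.card_genW cardH.2.2 (by decide +kernel)]
    have := ok.finite W0
    refine lowK.trans (Subgroup.card_le_of_le (genW_le.mpr ?_))
    simp only [lowKW0, List.forall_mem_cons]
    exact ⟨eqs ([26], [2, 0, 4, 2]) (by decide +kernel) ▸ ev_mem_genW (by decide), ev_mem_genW (by decide),
      eqs ([27], [14, 19, 15, 15, 21, 17, 18, 21, 16]) (by decide +kernel) ▸ ev_mem_genW (by decide), by simp⟩
  have h2 := (genW ax W0).index_mul_card
  rw [cardH.2.1] at h2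
  refine rep2.stab_eq (by decide +kernel) (by norm_num) trans2 fix2 ?_
  rw [rep2.top, Subgroup.relIndex_top_right]
  exact ⟨Subgroup.index_ne_zero_of_finite, by nlinarith⟩

end Cfsg.Agent.DCE.Th
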