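import Cfsg.Agent.DCE.Th.Cen
import Cfsg.Agent.DCE.Th.A9
import Cfsg.Agent.H3x.Cx

set_option autoImplicit false
set_option maxRecDepth 100000
set_option Elab.async false

namespace Cfsg.Agent.DCE.Th
open Cfsg.Agent.Comp Cfsg.Agent.DCE

def tq : List (List Nat) := [[0], [4], [6, 4, 6], [12, 22, 43], [12, 26, 31], [8, 59, 31, 31], [13, 26, 12, 30], [26, 43, 43, 26], [27, 30, 22, 58], [0], [1], [4], [5], [6], [7], [8], [9], [10], [11], [12], [13]]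

def E1 : List (List Nat × List Nat) :=
  [([0, 0], []),
   ([1, 1], []),
   ([2, 2], []),
   ([3, 3], []),
   ([4, 4], []),
   ([5, 5], [0]),
   ([6, 6], []),
   ([7, 7], [0]),
   ([8, 8], []),
   ([1, 0], [0, 1]),
   ([2, 0], [0, 2]),
   ([2, 1], [1, 2, 0]),
   ([3, 0], [0, 3]),
   ([3, 1], [1, 3]),
   ([3, 2], [2, 3]),
   ([4, 0], [0, 4]),
   ([4, 1], [1, 4]),
   ([4, 2], [2, 4]),
   ([4, 3], [3, 4, 0]),
   ([5, 0], [0, 5]),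
   ([5, 1], [1, 5]),
   ([5, 2], [2, 5]),
   ([5, 3], [3, 5]),
   ([5, 4], [4, 5]),
   ([6, 0], [0, 6]),
   ([6, 1], [1, 6]),
   ([6, 2], [2, 6]),
   ([6, 3], [3, 6]),
   ([6, 4], [4, 6]),
   ([6, 5], [5, 6, 0]),
   ([7, 0], [0, 7]),
   ([7, 1], [1, 7]),
   ([7, 2], [2, 7]),
   ([7, 3], [3, 7]),
   ([7, 4], [4, 7]),
   ([7, 5], [5, 7]),
   ([7, 6], [6, 7]),
   ([8, 0], [0, 8]),
   ([8, 1], [1, 8]),
   ([8, 2], [2, 8]),
   ([8, 3], [3, 8]),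
   ([8, 4], [4, 8]),
   ([8, 5], [5, 8]),
   ([8, 6], [6, 8]),
   ([8, 7], [7, 8, 0]),
   ([9, 0], [0, 9]),
   ([9, 1], [1, 9]),
   ([9, 2], [2, 9]),
   ([9, 3], [3, 9]),
   ([9, 4], [4, 9]),
   ([9, 5], [5, 9]),
   ([9, 6], [6, 9]),
   ([9, 7], [7, 9]),
   ([9, 8], [8, 9]),
   ([10, 0], [0, 10]),
   ([10, 1], [1, 10]),
   ([10, 2], [2, 10]),
   ([10, 3], [3, 10]),
   ([10, 4], [4, 10]),
   ([10, 5], [5, 10]),
   ([10, 6], [6, 10]),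
   ([10, 7], [7, 10]),
   ([10, 8], [8, 10]),
   ([11, 0], [0, 11]),
   ([11, 1], [1, 11]),
   ([11, 2], [0, 2, 11]),
   ([11, 3], [3, 11]),
   ([11, 4], [4, 11]),
   ([11, 5], [5, 11]),
   ([11, 6], [6, 11]),
   ([11, 7], [7, 11]),
   ([11, 8], [8, 11]),
   ([12, 0], [0, 12]),
   ([12, 1], [1, 12]),
   ([12, 2], [0, 2, 12]),
   ([12, 3], [3, 12]),
   ([12, 4], [4, 12]),
   ([12, 5], [5, 12]),
   ([12, 6], [6, 12]),
   ([12, 7], [7, 12]),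
   ([12, 8], [8, 12]),
   ([13, 0], [0, 13]),
   ([13, 1], [2, 13]),
   ([13, 2], [1, 13]),
   ([13, 3], [3, 4, 7, 13]),
   ([13, 4], [3, 4, 5, 7, 8, 13]),
   ([13, 5], [0, 6, 7, 13]),
   ([13, 6], [3, 8, 13]),
   ([13, 7], [0, 3, 5, 8, 13]),
   ([13, 8], [3, 4, 6, 7, 13]),
   ([14, 0], [0, 14]),
   ([14, 1], [2, 14]),
   ([14, 2], [1, 14]),
   ([14, 3], [3, 4, 7, 14]),
   ([14, 4], [3, 4, 5, 7, 8, 14]),
   ([14, 5], [0, 6, 7, 14]),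
   ([14, 6], [3, 8, 14]),
   ([14, 7], [0, 3, 5, 8, 14]),
   ([14, 8], [3, 4, 6, 7, 14]),
   ([15, 0], [0, 15]),
   ([15, 1], [1, 15]),
   ([15, 2], [1, 2, 3, 4, 6, 7, 8, 15]),
   ([15, 3], [0, 1, 3, 15]),
   ([15, 4], [1, 4, 15]),
   ([15, 5], [0, 1, 7, 15]),
   ([15, 6], [7, 8, 15]),
   ([15, 7], [0, 1, 5, 15]),
   ([15, 8], [1, 5, 6, 15]),
   ([16, 0], [0, 16]),
   ([16, 1], [1, 16]),
   ([16, 2], [1, 2, 3, 4, 6, 7, 8, 16]),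
   ([16, 3], [0, 1, 3, 16]),
   ([16, 4], [1, 4, 16]),
   ([16, 5], [0, 1, 7, 16]),
   ([16, 6], [7, 8, 16]),
   ([16, 7], [0, 1, 5, 16]),
   ([16, 8], [1, 5, 6, 16]),
   ([17, 0], [0, 17]),
   ([17, 1], [1, 17]),
   ([17, 2], [2, 17]),
   ([17, 3], [3, 5, 7, 17]),
   ([17, 4], [0, 3, 4, 5, 17]),
   ([17, 5], [4, 6, 7, 17]),
   ([17, 6], [3, 4, 5, 8, 17]),
   ([17, 7], [0, 3, 4, 8, 17]),
   ([17, 8], [0, 3, 6, 8, 17]),
   ([18, 0], [0, 18]),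
   ([18, 1], [1, 18]),
   ([18, 2], [2, 18]),
   ([18, 3], [0, 3, 5, 6, 8, 18]),
   ([18, 4], [3, 4, 5, 7, 8, 18]),
   ([18, 5], [6, 7, 18]),
   ([18, 6], [0, 3, 4, 5, 18]),
   ([18, 7], [0, 5, 7, 8, 18]),
   ([18, 8], [0, 4, 6, 18]),
   ([19, 0], [0, 19]),
   ([19, 1], [1, 19]),
   ([19, 2], [2, 19]),
   ([19, 3], [3, 6, 7, 8, 19]),
   ([19, 4], [4, 5, 7, 19]),
   ([19, 5], [0, 3, 4, 5, 6, 19]),
   ([19, 6], [4, 5, 6, 7, 8, 19]),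
   ([19, 7], [0, 3, 4, 8, 19]),
   ([19, 8], [3, 6, 19]),
   ([20, 0], [0, 20]),
   ([20, 1], [1, 20]),
   ([20, 2], [2, 20]),
   ([20, 3], [0, 3, 5, 6, 8, 20]),
   ([20, 4], [4, 6, 7, 8, 20]),
   ([20, 5], [0, 4, 5, 6, 7, 20]),
   ([20, 6], [0, 3, 5, 6, 20]),
   ([20, 7], [0, 4, 5, 8, 20]),
   ([20, 8], [0, 3, 4, 5, 20]),
   ([9], [0]),
   ([11], [1])]

def EA : List (Nat × List Nat × List Nat) :=
  [(0, [2, 4, 4, 4, 4, 4, 4, 2], [0]),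
   (1, [4, 4, 4, 4, 4, 4], [1]),
   (2, [0, 4, 0, 2, 5, 2, 4, 0, 5, 2], [2, 4, 5, 6, 8]),
   (3, [0, 5, 0, 2, 5, 0, 4, 2, 4], [1, 3, 6, 7, 8]),
   (4, [0, 2, 5, 2, 4, 0, 5, 2, 4, 0, 2], [0, 4, 6, 7, 8]),
   (5, [4, 2, 4, 4, 2, 5, 5, 5], [1, 3, 4, 8]),
   (6, [0, 5, 2, 5, 0, 5, 2, 4, 4, 4], [0, 1, 7, 8]),
   (7, [0, 2, 4, 4, 4, 2, 4, 2, 5, 0], [1, 3, 4, 5, 6]),
   (8, [0, 4, 2, 4, 4, 4, 0, 4, 2, 4], [3, 4, 5])]

def EB : List (Nat × List Nat × List Nat) :=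
  [(0, [2, 4, 4, 4, 4, 4, 4, 2], [0]),
   (1, [4, 4, 4, 4, 4, 4], [1]),
   (2, [5, 0, 4, 4, 2, 5, 5, 0, 4], [0, 2, 4, 5, 6, 8]),
   (3, [0, 2, 4, 0, 5, 0, 2, 5, 0, 4, 0], [1, 3, 6, 7, 8]),
   (4, [0, 2, 4, 4, 0, 5, 5, 2, 5, 0, 4], [0, 4, 6, 7, 8]),
   (5, [0, 4, 2, 5, 5, 2, 4, 0], [1, 3, 4, 8]),
   (6, [0, 2, 4, 4, 4, 2, 5, 5, 0, 4, 2, 4], [0, 1, 7, 8]),
   (7, [4, 2, 4, 4, 4, 4, 2, 4], [1, 3, 4, 5, 6]),
   (8, [0, 4, 2, 4, 0, 4, 2, 5, 5, 5], [3, 4, 5])]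

/-- the letters: `a`, a basis of `Q`, the generators of the centraliser -/
noncomputable def sq (x : ℕ) : G := if x < 21 then io (ev ax (tq.getD x [])) else s (x - 7)

theorem sq_ev {u : List ℕ} (hu : ltB 21 u = true) : ev sq u = io (ev ax (subst tq u)) := by
  rw [ev_subst, map_ev]
  exact ev_congr fun x hx => if_pos (ltB_spec hu x hx)

theorem sq_eq {u v : List ℕ} (h : (ltB 21 u && ltB 21 v && eqH (subst tq u) (subst tq v)) = true) :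
    ev sq u = ev sq v := by
  simp only [Bool.and_eq_true] at h
  rw [sq_ev h.1.1, sq_ev h.1.2, eqH_spec h.2]

theorem sq_gen : ∀ x < 14, sq (9 + x) = s (nth 0 [0, 1, 4, 5, 6, 7, 8, 9, 10, 11, 12, 13, 14, 15] x) := fun x hx => by
  by_cases c : x < 12
  · obtain ⟨h1, h2⟩ := (by decide +kernel : ∀ x < 12, tq.getD (9 + x) [] = [nth 0 [0, 1, 4, 5, 6, 7, 8, 9, 10, 11, 12, 13, 14, 15] x] ∧
      nth 0 [0, 1, 4, 5, 6, 7, 8, 9, 10, 11, 12, 13, 14, 15] x < 14) x c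
    rw [sq, if_pos (by omega), h1, ev_single, ax_h _ h2, io_h _ h2]
  · obtain rfl | rfl : x = 12 ∨ x = 13 := by omega
    all_goals rfl

theorem sq0 : sq 0 = s 0 := by
  rw [sq, if_pos (by norm_num), show tq.getD 0 [] = [0] from rfl, ev_single, ax_h 0 (by norm_num),
    io_h 0 (by norm_num)]

/-- the equations -/
def EQ : List (List ℕ × List ℕ) := E1 ++ (EA.map fun e => ([21, e.1], e.2.2 ++ [21])) ++
  (EB.map fun e => ([22, e.1], e.2.2 ++ [22])) ++ TC.R.map fun r => (r.map (9 + ·), [])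

theorem eqs_sq : ∀ e ∈ EQ, ev sq e.1 = ev sq e.2 := by
  simp only [EQ, List.forall_mem_append, List.forall_mem_map]
  refine ⟨⟨⟨fun e he => sq_eq ((by decide +kernel : ∀ e ∈ E1, (ltB 21 e.1 && ltB 21 e.2 &&
    eqH (subst tq e.1) (subst tq e.2)) = true) e he), fun e he => ?_⟩, fun e he => ?_⟩, fun r hr => ?_⟩
  · obtain ⟨h1, h2, h3, h4⟩ := (by decide +kernel : ∀ e ∈ EA, ltB 21 [e.1] = true ∧ ltB 21 e.2.2 = true ∧
      eqH (subst tq [e.1]) (subst V1 e.2.1) = true ∧ eqH (subst tq e.2.2) (subst L1 e.2.1) = true) e he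
    rw [ev_cons, ev_append, sq_ev h1, sq_ev h2, eqH_spec h3, eqH_spec h4, ev_single,
      show sq 21 = w 1 from w1.symm]
    exact tw_1 _
  · obtain ⟨h1, h2, h3, h4⟩ := (by decide +kernel : ∀ e ∈ EB, ltB 21 [e.1] = true ∧ ltB 21 e.2.2 = true ∧
      eqH (subst tq [e.1]) (subst L1 e.2.1) = true ∧ eqH (subst tq e.2.2) (subst V1 e.2.1) = true) e he
    rw [ev_cons, ev_append, sq_ev h1, sq_ev h2, eqH_spec h3, eqH_spec h4, ev_single,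
      show sq 22 = _ from s15, inv_mul_eq_iff_eq_mul, ← mul_assoc, eq_mul_inv_iff_mul_eq]
    exact (w1 ▸ tw_1 _).symm
  · obtain ⟨h1, h2⟩ := (by decide +kernel : ∀ r ∈ TC.R, (∀ x ∈ r, x < 14) ∧ r.map (nth 0 [0, 1, 4, 5, 6, 7, 8, 9, 10, 11, 12, 13, 14, 15]) ∈ R) r hr
    rw [ev_map, ev_congr fun x hx => sq_gen x (h1 x hx), ← ev_map, pres.sat _ h2, ev_nil]

/-- the normal subgroup -/
noncomputable abbrev QG : Subgroup G := gen sq 9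

/-- the centraliser -/
noncomputable abbrev CC : Subgroup G := Subgroup.centralizer {sq 0}

theorem sq_ne : sq 0 ≠ 1 := by rw [sq0]; exact a_ne

theorem s4_ne : ev sq ([8].map (2 * 4 + 1 + ·)) ^ 4 ≠ 1 := fun e => by
  have : ev ax [10, 10, 10, 10] = ev ax [] := io_inj (by
    rw [ev_nil, map_one, ← e, sq_ev (by decide +kernel), ← map_pow]
    simp [pow_succ, mul_assoc, show subst tq [17] = [10] from rfl])
  exact absurd ((eqH_iff rfl rfl).mpr this) (by decide +kernel)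

theorem cardC_lt : Nat.card CC < 2 * (2 ^ (2 * 4 + 1) * Nat.card UU) := by
  rw [CC, sq0, cen_eq, cardU]
  exact upC.2.trans_lt (by norm_num)

theorem cxT : Fischer.ES QG (sq 0) ∧ Nat.card QG = 2 ^ 9 ∧ CC = gen sq 23 ∧
    ∃ (_ : (QG.subgroupOf CC).Normal) (e : UU ≃* CC ⧸ QG.subgroupOf CC),
      ∀ x < 14, ∃ h, e (uu x) = QuotientGroup.mk ⟨sq (9 + x), h⟩ := by
  have := H3x.cx eqs_sq presU hRU (by decide +kernel : H3x.cxB 4 14 RU [8] EQ = true) (by norm_num)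
    sq_ne s4_ne cardC_lt
  simpa only [Nat.reduceMul, Nat.reduceAdd] using this

theorem QG_le : QG ≤ CC := fun x hx =>
  Subgroup.mem_centralizer_singleton_iff.mpr (cxT.1.central x hx).eq.symm

end Cfsg.Agent.DCE.Th
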