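import Cfsg.Agent.DCE.Th.C0
import Cfsg.Agent.DCE.Th.C1
import Cfsg.Agent.DCE.Th.C2
import Cfsg.Agent.DCE.Th.C3

set_option autoImplicit false
set_option maxRecDepth 100000
set_option Elab.async false

namespace Cfsg.Agent.DCE.Th
open Cfsg.Agent.Comp Cfsg.Agent.DCE

theorem f0 : Facts io (s 14) ax P2 98 := env2.chunk D0 Facts.zero (by decide +kernel) c0

theorem f1 : Facts io (s 14) ax P2 165 := env2.chunk D1 f0 (by decide +kernel) c1

theorem f2 : Facts io (s 14) ax P2 239 := env2.chunk D2 f1 (by decide +kernel) c2

theorem f3 : Facts io (s 14) ax P2 314 := env2.chunk D3 f2 (by decide +kernel) c3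

theorem f4 : Facts io (s 14) ax P2 387 := env2.chunk D4 f3 (by decide +kernel) c4

theorem f5 : Facts io (s 14) ax P2 460 := env2.chunk D5 f4 (by decide +kernel) c5

theorem f6 : Facts io (s 14) ax P2 529 := env2.chunk D6 f5 (by decide +kernel) c6

theorem f7 : Facts io (s 14) ax P2 604 := env2.chunk D7 f6 (by decide +kernel) c7

theorem f8 : Facts io (s 14) ax P2 673 := env2.chunk D8 f7 (by decide +kernel) c8

theorem f9 : Facts io (s 14) ax P2 742 := env2.chunk D9 f8 (by decide +kernel) c9

theorem f10 : Facts io (s 14) ax P2 811 := env2.chunk D10 f9 (by decide +kernel) c10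

theorem f11 : Facts io (s 14) ax P2 882 := env2.chunk D11 f10 (by decide +kernel) c11

theorem f12 : Facts io (s 14) ax P2 953 := env2.chunk D12 f11 (by decide +kernel) c12

theorem f13 : Facts io (s 14) ax P2 1026 := env2.chunk D13 f12 (by decide +kernel) c13

theorem f14 : Facts io (s 14) ax P2 1097 := env2.chunk D14 f13 (by decide +kernel) c14

theorem f15 : Facts io (s 14) ax P2 1169 := env2.chunk D15 f14 (by decide +kernel) c15

theorem f16 : Facts io (s 14) ax P2 1242 := env2.chunk D16 f15 (by decide +kernel) c16

theorem f17 : Facts io (s 14) ax P2 1313 := env2.chunk D17 f16 (by decide +kernel) c17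

theorem f18 : Facts io (s 14) ax P2 1376 := env2.chunk D18 f17 (by decide +kernel) c18

theorem f19 : Facts io (s 14) ax P2 1444 := env2.chunk D19 f18 (by decide +kernel) c19

theorem f20 : Facts io (s 14) ax P2 1514 := env2.chunk D20 f19 (by decide +kernel) c20

theorem f21 : Facts io (s 14) ax P2 1586 := env2.chunk D21 f20 (by decide +kernel) c21

theorem f22 : Facts io (s 14) ax P2 1653 := env2.chunk D22 f21 (by decide +kernel) c22

theorem f23 : Facts io (s 14) ax P2 1715 := env2.chunk D23 f22 (by decide +kernel) c23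

theorem f24 : Facts io (s 14) ax P2 1772 := env2.chunk D24 f23 (by decide +kernel) c24

theorem f25 : Facts io (s 14) ax P2 1832 := env2.chunk D25 f24 (by decide +kernel) c25

theorem f26 : Facts io (s 14) ax P2 1897 := env2.chunk D26 f25 (by decide +kernel) c26

theorem f27 : Facts io (s 14) ax P2 1962 := env2.chunk D27 f26 (by decide +kernel) c27

theorem f28 : Facts io (s 14) ax P2 2022 := env2.chunk D28 f27 (by decide +kernel) c28

theorem f29 : Facts io (s 14) ax P2 2075 := env2.chunk D29 f28 (by decide +kernel) c29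

theorem f30 : Facts io (s 14) ax P2 2139 := env2.chunk D30 f29 (by decide +kernel) c30

theorem f31 : Facts io (s 14) ax P2 2190 := env2.chunk D31 f30 (by decide +kernel) c31

theorem facts : Facts io (s 14) ax P2 2190 := f31

end Cfsg.Agent.DCE.Th
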