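import Cfsg.Agent.DCE.Th.MT

set_option autoImplicit false
set_option maxRecDepth 100000
set_option Elab.async false

namespace Cfsg.Agent.DCE.Th
open Cfsg.Agent.Comp

def satM_R0 : List (List Nat) :=
  [[0, 1],
   [1, 0],
   [2, 3],
   [3, 2]]

theorem satM_0 : Sat Mm satM_R0 := mnum.sat menum mchar Mok (by decide +kernel)

def satM_R4 : List (List Nat) :=
  [[0, 0],
   [2, 2],
   [4, 4],
   [6, 6]]

theorem satM_4 : Sat Mm satM_R4 := mnum.sat menum mchar Mok (by decide +kernel)

def satM_R8 : List (List Nat) :=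
  [[0, 7, 5, 7, 5, 7, 5, 7, 5]]

theorem satM_8 : Sat Mm satM_R8 := mnum.sat menum mchar Mok (by decide +kernel)

def satM_R12 : List (List Nat) :=
  [[11, 1, 10, 0],
   [11, 3, 10, 2]]

theorem satM_12 : Sat Mm satM_R12 := mnum.sat menum mchar Mok (by decide +kernel)

def satM_R16 : List (List Nat) :=
  [[13, 3, 12, 2],
   [13, 5, 12, 4]]

theorem satM_16 : Sat Mm satM_R16 := mnum.sat menum mchar Mok (by decide +kernel)

def satM_R20 : List (List Nat) :=
  [[15, 9, 14, 8]]

theorem satM_20 : Sat Mm satM_R20 := mnum.sat menum mchar Mok (by decide +kernel)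

def satM_R24 : List (List Nat) :=
  [[15, 12, 14, 12]]

theorem satM_24 : Sat Mm satM_R24 := mnum.sat menum mchar Mok (by decide +kernel)

def satM_R28 : List (List Nat) :=
  [[17, 17, 17, 6, 11, 11, 14, 21, 10, 10, 10, 21, 11, 7, 5, 6, 5, 1]]

theorem satM_28 : Sat Mm satM_R28 := mnum.sat menum mchar Mok (by decide +kernel)

def eqsM_R3 : List (List Nat × List Nat) :=
  [([19], [3, 0, 4, 2])]

theorem eqsM_3 : ∀ e ∈ eqsM_R3, ev Mm e.1 = ev Mm e.2 := mnum.eqs menum mchar Mok (by decide +kernel)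


end Cfsg.Agent.DCE.Th
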