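import Cfsg.Agent.DCE.Th.MT

set_option autoImplicit false
set_option maxRecDepth 100000
set_option Elab.async false

namespace Cfsg.Agent.DCE.Th
open Cfsg.Agent.Comp

def satM_R1 : List (List Nat) :=
  [[4, 5],
   [5, 4],
   [6, 7],
   [7, 6]]

theorem satM_1 : Sat Mm satM_R1 := mnum.sat menum mchar Mok (by decide +kernel)

def satM_R5 : List (List Nat) :=
  [[8, 8],
   [0, 2, 0, 2, 0, 2]]

theorem satM_5 : Sat Mm satM_R5 := mnum.sat menum mchar Mok (by decide +kernel)

def satM_R9 : List (List Nat) :=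
  [[4, 8, 4, 8],
   [6, 8, 6, 8, 6, 8]]

theorem satM_9 : Sat Mm satM_R9 := mnum.sat menum mchar Mok (by decide +kernel)

def satM_R13 : List (List Nat) :=
  [[11, 5, 10, 4],
   [10, 6, 10, 6]]

theorem satM_13 : Sat Mm satM_R13 := mnum.sat menum mchar Mok (by decide +kernel)

def satM_R17 : List (List Nat) :=
  [[13, 7, 12, 6],
   [13, 9, 12, 8]]

theorem satM_17 : Sat Mm satM_R17 := mnum.sat menum mchar Mok (by decide +kernel)

def satM_R21 : List (List Nat) :=
  [[6, 8, 15, 6, 14, 6, 8, 15, 6, 14]]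

theorem satM_21 : Sat Mm satM_R21 := mnum.sat menum mchar Mok (by decide +kernel)

def satM_R25 : List (List Nat) :=
  [[9, 11, 11, 15, 10, 10, 8, 11, 11, 14, 10, 10]]

theorem satM_25 : Sat Mm satM_R25 := mnum.sat menum mchar Mok (by decide +kernel)

def eqsM_R0 : List (List Nat × List Nat) :=
  [([16], [2, 4, 6, 8])]

theorem eqsM_0 : ∀ e ∈ eqsM_R0, ev Mm e.1 = ev Mm e.2 := mnum.eqs menum mchar Mok (by decide +kernel)

def eqsM_R4 : List (List Nat × List Nat) :=
  [([20], [7, 14, 6])]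

theorem eqsM_4 : ∀ e ∈ eqsM_R4, ev Mm e.1 = ev Mm e.2 := mnum.eqs menum mchar Mok (by decide +kernel)


end Cfsg.Agent.DCE.Th
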