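import Cfsg.Agent.DCE.Th.MT

set_option autoImplicit false
set_option maxRecDepth 100000
set_option Elab.async false

namespace Cfsg.Agent.DCE.Th
open Cfsg.Agent.Comp

def satM_R2 : List (List Nat) :=
  [[8, 9],
   [9, 8],
   [10, 11],
   [11, 10]]

theorem satM_2 : Sat Mm satM_R2 := mnum.sat menum mchar Mok (by decide +kernel)

def satM_R6 : List (List Nat) :=
  [[0, 8, 0, 8],
   [2, 4, 2, 4, 2, 4]]

theorem satM_6 : Sat Mm satM_R6 := mnum.sat menum mchar Mok (by decide +kernel)

def satM_R10 : List (List Nat) :=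
  [[16, 16, 16, 16, 16, 16, 16, 16]]

theorem satM_10 : Sat Mm satM_R10 := mnum.sat menum mchar Mok (by decide +kernel)

def satM_R14 : List (List Nat) :=
  [[9, 11, 8, 11, 11, 9, 10, 10, 10]]

theorem satM_14 : Sat Mm satM_R14 := mnum.sat menum mchar Mok (by decide +kernel)

def satM_R18 : List (List Nat) :=
  [[13, 10, 12, 11, 11],
   [14, 14, 5, 1]]

theorem satM_18 : Sat Mm satM_R18 := mnum.sat menum mchar Mok (by decide +kernel)

def satM_R22 : List (List Nat) :=
  [[15, 3, 5, 1, 2, 14, 19, 9]]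

theorem satM_22 : Sat Mm satM_R22 := mnum.sat menum mchar Mok (by decide +kernel)

def satM_R26 : List (List Nat) :=
  [[0, 4, 11, 15, 11, 15, 11, 15]]

theorem satM_26 : Sat Mm satM_R26 := mnum.sat menum mchar Mok (by decide +kernel)

def eqsM_R1 : List (List Nat × List Nat) :=
  [([17], [6, 11, 11, 14, 10, 10])]

theorem eqsM_1 : ∀ e ∈ eqsM_R1, ev Mm e.1 = ev Mm e.2 := mnum.eqs menum mchar Mok (by decide +kernel)

def eqsM_R5 : List (List Nat × List Nat) :=
  [([21], [9, 7, 5, 6, 8])]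

theorem eqsM_5 : ∀ e ∈ eqsM_R5, ev Mm e.1 = ev Mm e.2 := mnum.eqs menum mchar Mok (by decide +kernel)


end Cfsg.Agent.DCE.Th
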