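import Cfsg.Agent.DCE.Th.MT

set_option autoImplicit false
set_option maxRecDepth 100000
set_option Elab.async false

namespace Cfsg.Agent.DCE.Th
open Cfsg.Agent.Comp

def satM_R3 : List (List Nat) :=
  [[12, 13],
   [13, 12],
   [14, 15],
   [15, 14]]

theorem satM_3 : Sat Mm satM_R3 := mnum.sat menum mchar Mok (by decide +kernel)

def satM_R7 : List (List Nat) :=
  [[2, 6, 2, 6],
   [2, 8, 2, 8]]

theorem satM_7 : Sat Mm satM_R7 := mnum.sat menum mchar Mok (by decide +kernel)

def satM_R11 : List (List Nat) :=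
  [[10, 10, 10, 10, 10, 10, 10]]

theorem satM_11 : Sat Mm satM_R11 := mnum.sat menum mchar Mok (by decide +kernel)

def satM_R15 : List (List Nat) :=
  [[12, 12, 12],
   [13, 1, 12, 0]]

theorem satM_15 : Sat Mm satM_R15 := mnum.sat menum mchar Mok (by decide +kernel)

def satM_R19 : List (List Nat) :=
  [[15, 1, 14, 0],
   [15, 5, 14, 4]]

theorem satM_19 : Sat Mm satM_R19 := mnum.sat menum mchar Mok (by decide +kernel)

def satM_R23 : List (List Nat) :=
  [[7, 15, 6, 3, 5, 1, 2, 20, 19, 5, 9, 7, 15, 6, 3, 5, 1, 2, 9, 15]]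

theorem satM_23 : Sat Mm satM_R23 := mnum.sat menum mchar Mok (by decide +kernel)

def satM_R27 : List (List Nat) :=
  [[0, 4, 18, 18, 18, 18]]

theorem satM_27 : Sat Mm satM_R27 := mnum.sat menum mchar Mok (by decide +kernel)

def eqsM_R2 : List (List Nat × List Nat) :=
  [([18], [11, 15, 10, 14])]

theorem eqsM_2 : ∀ e ∈ eqsM_R2, ev Mm e.1 = ev Mm e.2 := mnum.eqs menum mchar Mok (by decide +kernel)


end Cfsg.Agent.DCE.Th
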