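import Cfsg.Agent.DCE.Th.MS0
import Cfsg.Agent.DCE.Th.MS1
import Cfsg.Agent.DCE.Th.MS2
import Cfsg.Agent.DCE.Th.MS3

set_option autoImplicit false
set_option maxRecDepth 100000

namespace Cfsg.Agent.DCE.Th
open Cfsg.Agent.Comp

def R2 : List (List Nat) :=
  [[0, 1],
   [1, 0],
   [2, 3],
   [3, 2],
   [4, 5],
   [5, 4],
   [6, 7],
   [7, 6],
   [8, 9],
   [9, 8],
   [10, 11],
   [11, 10],
   [12, 13],
   [13, 12],
   [14, 15],
   [15, 14],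
   [0, 0],
   [2, 2],
   [4, 4],
   [6, 6],
   [8, 8],
   [0, 2, 0, 2, 0, 2],
   [0, 8, 0, 8],
   [2, 4, 2, 4, 2, 4],
   [2, 6, 2, 6],
   [2, 8, 2, 8],
   [0, 7, 5, 7, 5, 7, 5, 7, 5],
   [4, 8, 4, 8],
   [6, 8, 6, 8, 6, 8],
   [16, 16, 16, 16, 16, 16, 16, 16],
   [10, 10, 10, 10, 10, 10, 10],
   [11, 1, 10, 0],
   [11, 3, 10, 2],
   [11, 5, 10, 4],
   [10, 6, 10, 6],
   [9, 11, 8, 11, 11, 9, 10, 10, 10],
   [12, 12, 12],
   [13, 1, 12, 0],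
   [13, 3, 12, 2],
   [13, 5, 12, 4],
   [13, 7, 12, 6],
   [13, 9, 12, 8],
   [13, 10, 12, 11, 11],
   [14, 14, 5, 1],
   [15, 1, 14, 0],
   [15, 5, 14, 4],
   [15, 9, 14, 8],
   [6, 8, 15, 6, 14, 6, 8, 15, 6, 14],
   [15, 3, 5, 1, 2, 14, 19, 9],
   [7, 15, 6, 3, 5, 1, 2, 20, 19, 5, 9, 7, 15, 6, 3, 5, 1, 2, 9, 15],
   [15, 12, 14, 12],
   [9, 11, 11, 15, 10, 10, 8, 11, 11, 14, 10, 10],
   [0, 4, 11, 15, 11, 15, 11, 15],
   [0, 4, 18, 18, 18, 18],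
   [17, 17, 17, 6, 11, 11, 14, 21, 10, 10, 10, 21, 11, 7, 5, 6, 5, 1]]

def EM : List (List Nat × List Nat) :=
  [([16], [2, 4, 6, 8]),
   ([17], [6, 11, 11, 14, 10, 10]),
   ([18], [11, 15, 10, 14]),
   ([19], [3, 0, 4, 2]),
   ([20], [7, 14, 6]),
   ([21], [9, 7, 5, 6, 8])]

theorem satM : Sat Mm R2 := by
  rw [show R2 = (satM_R0 ++ (satM_R1 ++ (satM_R2 ++ (satM_R3 ++ (satM_R4 ++ (satM_R5 ++ (satM_R6 ++ (satM_R7 ++ (satM_R8 ++ (satM_R9 ++ (satM_R10 ++ (satM_R11 ++ (satM_R12 ++ (satM_R13 ++ (satM_R14 ++ (satM_R15 ++ (satM_R16 ++ (satM_R17 ++ (satM_R18 ++ (satM_R19 ++ (satM_R20 ++ (satM_R21 ++ (satM_R22 ++ (satM_R23 ++ (satM_R24 ++ (satM_R25 ++ (satM_R26 ++ (satM_R27 ++ satM_R28)))))))))))))))))))))))))))) by decide +kernel]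
  exact (satM_0.appendM (satM_1.appendM (satM_2.appendM (satM_3.appendM (satM_4.appendM (satM_5.appendM (satM_6.appendM (satM_7.appendM (satM_8.appendM (satM_9.appendM (satM_10.appendM (satM_11.appendM (satM_12.appendM (satM_13.appendM (satM_14.appendM (satM_15.appendM (satM_16.appendM (satM_17.appendM (satM_18.appendM (satM_19.appendM (satM_20.appendM (satM_21.appendM (satM_22.appendM (satM_23.appendM (satM_24.appendM (satM_25.appendM (satM_26.appendM (satM_27.appendM satM_28))))))))))))))))))))))))))))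

theorem eqsM : ∀ e ∈ EM, ev Mm e.1 = ev Mm e.2 := by
  rw [show EM = (eqsM_R0 ++ (eqsM_R1 ++ (eqsM_R2 ++ (eqsM_R3 ++ (eqsM_R4 ++ eqsM_R5))))) by decide +kernel]
  exact (List.forall_mem_append.mpr ⟨eqsM_0, (List.forall_mem_append.mpr ⟨eqsM_1, (List.forall_mem_append.mpr ⟨eqsM_2, (List.forall_mem_append.mpr ⟨eqsM_3, (List.forall_mem_append.mpr ⟨eqsM_4, eqsM_5⟩)⟩)⟩)⟩)⟩)

def tw : List (List Nat) := [[0],
[1],
[2],
[3],
[4],
[5],
[6],
[7],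
[8],
[9],
[10],
[11],
[12],
[13],
[14],
[15],
[2, 4, 6, 8],
[6, 11, 11, 14, 10, 10],
[11, 15, 10, 14],
[3, 0, 4, 2],
[7, 14, 6],
[9, 7, 5, 6, 8]]

theorem satR : Sat Mm R := fun w hw => by
  obtain ⟨v, hv, h, rfl⟩ := (by decide +kernel : ∀ w ∈ R, ∃ v ∈ R2, (∀ x ∈ v, x < 22) ∧ subst tw v = w) w hw
  rw [← satM v hv, ev_subst]
  refine ev_congr fun x hx => ?_
  have := h x hx
  by_cases c : x < 16
  · rw [(by decide +kernel : ∀ x < 16, tw.getD x [] = [x]) x c]; simp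
  · rw [← eqsM ([x], tw.getD x []) ((by decide +kernel : ∀ x < 22, ¬ x < 16 → ([x], tw.getD x []) ∈ EM) x this c)]
    simp

theorem units : ∀ x < 16, IsUnit (Mm x) := isUnit_of_sat satR (by decide +kernel)

/-- the representation of degree 248 -/
noncomputable def rho : G →* GL (Fin 248) (ZMod 3) :=
  (pres.univ _ (glS Mm) (sat_glS units hR satR)).choose

theorem rho_s : ∀ x < 16, (rho (s x) : Matrix (Fin 248) (Fin 248) (ZMod 3)) = Mm x := fun x hx => by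
  rw [rho, (pres.univ _ (glS Mm) (sat_glS units hR satR)).choose_spec x hx, glS_val (units x hx)]

end Cfsg.Agent.DCE.Th
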