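import Cfsg.Agent.DCE.Th.Base
import Cfsg.Agent.DCE.Th.ColF
import Cfsg.Agent.Comp.Simple2

set_option autoImplicit false
set_option maxRecDepth 100000
set_option Elab.async false

namespace Cfsg.Agent.DCE.Th
open Cfsg.Agent.Comp Cfsg.Agent.DCE

def WP : List (List Nat) := [[0],
[4],
[6],
[8],
[10]]

def primT : List (List Nat × List Nat) :=
  [([2], [0, 1, 2, 3, 0, 2, 4, 0, 5, 3, 4, 1, 5, 3, 2, 0, 3, 4, 1, 5, 5, 2, 0]),
   ([2, 0, 4, 2], [0, 3, 2, 4, 5, 3, 4, 3, 0, 3, 2, 4, 5, 3, 4, 3, 0, 3, 2]),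
   ([2, 4, 6, 4, 2], [0, 1, 3, 4, 2, 3, 5, 3, 4, 2, 3, 5, 3, 4, 2, 0, 1, 3, 2, 4, 0, 3])]

theorem prim_0 : Nat.beq (grow T ([2] :: WP) [0, 1, 2, 3, 0, 2, 4, 0, 5, 3, 4, 1, 5, 3, 2, 0, 3, 4, 1, 5, 5, 2, 0] (pt (nat_lit 0))) (ivl (nat_lit 0) (nat_lit 819)) = true := by
  decide +kernel

theorem prim_1 : Nat.beq (grow T ([2, 0, 4, 2] :: WP) [0, 3, 2, 4, 5, 3, 4, 3, 0, 3, 2, 4, 5, 3, 4, 3, 0, 3, 2] (pt (nat_lit 0))) (ivl (nat_lit 0) (nat_lit 819)) = true := by
  decide +kernel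

theorem prim_2 : Nat.beq (grow T ([2, 4, 6, 4, 2] :: WP) [0, 1, 3, 4, 2, 3, 5, 3, 4, 2, 3, 5, 3, 4, 2, 0, 1, 3, 2, 4, 0, 3] (pt (nat_lit 0))) (ivl (nat_lit 0) (nat_lit 819)) = true := by
  decide +kernel

theorem prim : Prim (gen (sig T) 12) 0 :=
  prim_of_cert (W := WP) (ts := primT) (sch := [0, 2, 1, 3, 2, 4, 3, 4, 2, 1, 3, 4, 2, 3, 1, 4, 2, 3, 1, 2, 4, 3, 1, 4, 2, 1, 2]) ok (ok.genW_le _) (by norm_num) (genW_le_gen (by decide +kernel)) (by decide +kernel)
    (fun t ht => ev_mem fun x hx => letter_mem_gen ((by decide +kernel : ∀ t ∈ primT, ∀ x ∈ t.1, x < 12) t ht x hx)) (by decide +kernel)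
    (by simp only [primT, List.forall_mem_cons]; exact ⟨prim_0, prim_1, prim_2, by simp⟩)

def XP : List (List Nat) := [[0, 9, 6, 2, 4, 10, 0, 9, 6, 2, 4, 10, 0, 9, 6, 2, 4, 10, 0, 9, 6, 2, 4, 10, 0, 9, 6, 2, 4, 10, 0, 9, 6, 2, 4, 10, 0, 9, 6, 2, 4, 10, 0, 9, 6, 2, 4, 10, 0, 9, 6, 2, 4, 10, 0, 9, 6, 2, 4, 10, 0, 9, 6, 2, 4, 10, 0, 9, 6, 2, 4, 10, 0, 9, 6, 2, 4, 10]]

theorem satX : Sat (sig T) XP :=
  sat_of_relsP ok (by norm_num) (show relsP (nat_lit 819) (nat_lit 10) (nat_lit 0) (nat_lit 10) T XP = true by decide +kernel)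

theorem tr12 : Nat.beq (grow T (letters 12) [2, 0, 4, 6, 2, 4, 8, 2, 10, 6, 8, 0, 10, 6, 4, 2, 6, 8, 0, 10, 10, 4, 2] (pt 0)) (ivl 0 819) = true := by decide +kernel

/-- the images of the letters in the group of order three -/
def e3 (x : ℕ) : Multiplicative (ZMod 3) :=
  if x = 12 then Multiplicative.ofAdd 1 else if x = 13 then Multiplicative.ofAdd 2 else 1

theorem sat3 : Sat e3 RH := by unfold Sat; decide +kernel

/-- the map of `H` onto the group of order three -/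
noncomputable def eps : H →* Multiplicative (ZMod 3) := (presH.univ _ e3 sat3).choose

theorem eps_h : ∀ x < 14, eps (h x) = e3 x := (presH.univ _ e3 sat3).choose_spec

theorem ker_index : eps.ker.index = 3 := by
  have : eps.range = ⊤ := by
    rw [eq_top_iff]
    intro y _
    obtain rfl | rfl | rfl := (by decide : ∀ y : Multiplicative (ZMod 3), y = 1 ∨ y = e3 12 ∨ y = e3 13) y
    exacts [one_mem _, ⟨_, eps_h 12 (by norm_num)⟩, ⟨_, eps_h 13 (by norm_num)⟩]
  rw [Subgroup.index_ker, this, Subgroup.card_top]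
  simp

theorem ker_card : Nat.card eps.ker = 819 * 258048 := by
  have := eps.ker.index_mul_card
  rw [ker_index, cardH.2.1] at this
  omega

theorem gen_ker : gen h 12 ≤ eps.ker := gen_le.mpr fun x hx => by
  rw [MonoidHom.mem_ker, eps_h x (by omega), e3, if_neg (by omega), if_neg (by omega)]

theorem ker_simple : IsSimpleGroup eps.ker :=
  rep.simple_normal (p := 13) (X := [[0, 9, 6, 2, 4, 10]]) cardH.2.2 (by norm_num) (by norm_num) ker_index
    (by decide +kernel) gen_ker tr12 prim ker_card (by norm_num) (by norm_num) presH.sat Col.index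
    (by decide +kernel) (by decide +kernel) (satX.mono (by decide +kernel))

theorem trans1 : ∀ i < 819, ∃ g, phi g 0 = i := fun i hi => by
  have h1 := grow_orbit ok (le_refl (genW (sig T) (letters 12))) [2, 0, 4, 6, 2, 4, 8, 2, 10, 6, 8, 0, 10, 6, 4, 2, 6, 8, 0, 10, 10, 4, 2] (pt 0) i
    (by rw [Nat.eq_of_beq_eq_true tr12, bset_ivl (by norm_num)]; simpa using hi)
  obtain ⟨p, hp, g, hg, e⟩ := h1
  obtain rfl : 0 = p := by simpa [testBit_pt] using hp.2
  rw [← rep.map_genW (by decide +kernel)] at hg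
  obtain ⟨k, -, rfl⟩ := hg
  exact ⟨k, e⟩

theorem a_mem (N : Subgroup H) [N.Normal] (hN : N ≠ ⊥) : h 0 ∈ N := by
  have := ker_simple
  have := cardH.1
  rcases (Subgroup.Normal.subgroupOf ‹N.Normal› eps.ker).eq_bot_or_eq_top with c | c
  · exfalso
    have h1 : N ⊓ eps.ker = ⊥ := by rwa [Subgroup.subgroupOf_eq_bot, disjoint_iff] at c
    let S := (MulAction.stabilizer (Equiv.Perm ℕ) 0).comap phi
    have hS : ∀ g, g ∈ S ↔ phi g 0 = 0 := fun g => Iff.rfl
    have hp : Prim phi.range 0 := prim.of_le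
      (by rw [rep.range]; exact gen_le.mpr fun x hx => letter_mem_gen (by omega)) (by
        rintro _ ⟨g, rfl⟩
        have h1 := grow_orbit ok (le_refl (genW (sig T) (letters 12))) [2, 0, 4, 6, 2, 4, 8, 2, 10, 6, 8, 0, 10, 6, 4, 2, 6, 8, 0, 10, 10, 4, 2] (pt 0) (phi g 0)
          (by rw [Nat.eq_of_beq_eq_true tr12, bset_ivl (by norm_num)]
              simpa using Bd.lt (rep.bd g) (by norm_num))
        obtain ⟨p, hp, k, hk, e⟩ := h1
        obtain rfl : 0 = p := by simpa [testBit_pt] using hp.2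
        exact ⟨k, hk, e⟩)
    have hc := isCoatom_of_prim hS hp (by
      obtain ⟨g, e⟩ := trans1 1 (by norm_num); exact ⟨g, by rw [e]; norm_num⟩)
    have hn : ¬ N ≤ S := fun e => hN (le_bot_iff.mp (by
      rw [← normalCore_eq_bot hS rep.bd trans1 cardH.2.2]; exact Subgroup.normal_le_normalCore.mpr e))
    have hs : Nat.card S = 774144 := by
      have := S.index_mul_card
      rw [index_comap_stab rep.bd (by norm_num) trans1, cardH.2.1] at this
      omega
    have h2 : ev h [0, 9, 6, 2, 4, 10] ∈ N := mem_normal_of_coprime hc hn (p := 13) (by rw [hs]; norm_num) (by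
      rw [← ev_wpow]
      exact rep.sat_of_inj cardH.2.2 (by decide +kernel) satX _ (by decide +kernel))
    have h3 : ev h [0, 9, 6, 2, 4, 10] ∈ N ⊓ eps.ker := ⟨h2, gen_ker (ev_mem_of_letters (by decide +kernel))⟩
    rw [h1, Subgroup.mem_bot] at h3
    refine ne_one_of_moves ok (w := [0, 9, 6, 2, 4, 10]) (p := 0) (by norm_num) (by decide +kernel) ?_
    rw [← rep.ev_eq (by decide +kernel), h3, map_one]; rfl
  · exact Subgroup.subgroupOf_eq_top.mp c (gen_ker (letter_mem_gen (by norm_num)))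

end Cfsg.Agent.DCE.Th
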