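import Cfsg.Agent.DCE.Th.Rows
import Cfsg.Agent.DCE.Th.Sim
import Cfsg.Agent.DCE.Th.Rho

set_option autoImplicit false
set_option maxRecDepth 100000
set_option Elab.async false

namespace Cfsg.Agent.DCE.Th
open Cfsg.Agent.Comp Cfsg.Agent.DCE

def DZ : List (List Nat × List (Nat × Nat × Nat × Nat)) :=
  [([2, 2, 2], [(0, 21, 1, 1), (4, 55, 0, 0), (2, 55, 0, 0), (0, 55, 0, 0)]),
   ([2], [(0, 17, 1, 0), (0, 56, 0, 0), (0, 17, 1, 0)]),
   ([4, 4, 4], [(0, 23, 1, 1), (4, 57, 0, 0), (2, 57, 0, 0), (0, 57, 0, 0)]),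
   ([4], [(0, 18, 1, 0), (0, 58, 0, 0), (0, 18, 1, 0)]),
   ([9], [(0, 48, 1, 1), (1, 59, 0, 0), (1, 55, 0, 0), (1, 57, 0, 0), (2, 59, 1, 0), (2, 57, 1, 0), (1, 55, 1, 0)]),
   ([6, 6, 6], [(2, 28, 1, 0), (2, 60, 1, 0), (1, 60, 1, 0), (0, 60, 1, 0)]),
   ([6], [(0, 19, 1, 0), (0, 61, 0, 0), (0, 19, 1, 0)]),
   ([10, 10], [(0, 34, 1, 0), (2, 62, 0, 0), (0, 62, 0, 0)]),
   ([10], [(0, 63, 1, 0), (0, 30, 0, 0), (0, 63, 1, 0), (0, 63, 1, 0), (0, 63, 1, 0)]),
   ([14, 14], [(0, 43, 1, 0), (1, 59, 1, 0), (0, 55, 1, 0)]),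
   ([15, 15, 15], [(0, 52, 1, 5), (6, 64, 1, 0), (4, 64, 1, 0), (0, 64, 1, 0), (0, 59, 0, 0), (0, 55, 0, 0)]),
   ([14], [(0, 65, 1, 0), (0, 66, 1, 0), (0, 65, 1, 0)]),
   ([12, 12], [(1, 50, 1, 3), (1, 67, 1, 0), (0, 67, 0, 0)]),
   ([12], [(0, 68, 1, 0), (0, 36, 0, 0), (0, 68, 1, 0)]),
   ([1], [(0, 55, 0, 0)]),
   ([3], [(0, 57, 0, 0)]),
   ([5], [(0, 59, 0, 0)]),
   ([8], [(0, 60, 0, 0)]),
   ([7], [(0, 62, 0, 0)]),
   ([11], [(0, 64, 0, 0)]),
   ([15], [(0, 67, 0, 0)]),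
   ([13], [(0, 69, 0, 0)])]

theorem top_of_a (N : Subgroup G) [N.Normal] (h6 : s 0 ∈ N) : N = ⊤ := by
  have h1 : Sat (fun x => QuotientGroup.mk' N (s x)) (R ++ [[0]]) :=
    (pres.sat.map _).append fun w hw => by
      rw [List.mem_singleton.mp hw, ev_single]; exact (QuotientGroup.eq_one_iff _).mpr h6
  have h2 := h1.append (sat_der (L := 16) (iv := iv) h1 DZ (by decide +kernel))
  rw [eq_top_iff, ← pres.top, gen_le]
  intro x hx
  have := h2 [x] ((by decide +kernel : ∀ x < 16, [x] ∈ R ++ [[0]] ++ DZ.map Prod.fst) x hx)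
  rw [ev_single] at this
  exact (QuotientGroup.eq_one_iff _).mp this

theorem top_of_x (N : Subgroup G) [N.Normal] (hN : N.comap io ≠ ⊥) : N = ⊤ :=
  top_of_a N (io_h 0 (by norm_num) ▸ a_mem _ hN)

theorem top_of_mem (N : Subgroup G) [N.Normal] (ht : s 14 ∈ io.range ⊔ N) : N = ⊤ := by
  refine top_of_x N fun c => ?_
  rw [← SetLike.mem_coe, Subgroup.mul_normal] at ht
  obtain ⟨_, ⟨g, rfl⟩, n, hn, e⟩ := ht
  have h1 := pres.sat [15, 12, 14, 12] (by decide +kernel)
  simp only [ev_cons, ev_nil, s15, ← e, ← io_h 12 (by norm_num), mul_one] at h1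
  have h2 : g⁻¹ * h 12 * g * h 12 ∈ N.comap io := by
    have k : (QuotientGroup.mk' N) n = 1 := (QuotientGroup.eq_one_iff _).mpr hn
    have := congrArg (QuotientGroup.mk' N) h1
    simp only [map_mul, map_inv, k, mul_one, map_one] at this
    rw [Subgroup.mem_comap, ← QuotientGroup.eq_one_iff]
    change QuotientGroup.mk' N _ = 1
    simpa only [map_mul, map_inv, mul_assoc] using this
  rw [c, Subgroup.mem_bot] at h2
  have h3 := congrArg eps h2
  rw [map_mul, map_mul, map_mul, map_inv, mul_comm (eps g)⁻¹, inv_mul_cancel_right,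
    eps_h 12 (by norm_num), map_one] at h3
  exact absurd h3 (by decide)

theorem m0_ne : Mm 0 ≠ 1 := fun e => by
  have := congrFun (congrFun e 0) 0
  rw [Mfast] at this
  revert this
  decide +kernel

theorem a_ne : s 0 ≠ 1 := fun e => m0_ne (by rw [← rho_s 0 (by norm_num), e, map_one, Units.val_one])

theorem bot_ne : (⊥ : Subgroup G) ≠ ⊤ := fun e => a_ne (Subgroup.mem_bot.mp (e ▸ Subgroup.mem_top _))

theorem u_not : s 14 ∉ io.range := fun e => bot_ne (top_of_mem ⊥ (by simpa using e))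

theorem io_inj : Function.Injective io := by
  rw [← MonoidHom.ker_eq_bot_iff]
  by_contra e
  exact bot_ne (top_of_x ⊥ e)

theorem index : io.range.index = 143127000 := index_of u_not

theorem coatom : IsCoatom io.range := closed.coatom u_not above

theorem card_range : Nat.card io.range = 634023936 := by
  rw [← Nat.card_congr (MonoidHom.ofInjective io_inj).toEquiv, cardH.2.1]

theorem card : Nat.card G = 90745943887872000 := by
  rw [← io.range.index_mul_card, index, card_range]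

instance : Finite G := Nat.finite_of_card_ne_zero (by rw [card]; norm_num)

theorem simple : IsSimpleGroup G := by
  have : Nontrivial G := ⟨_, _, a_ne⟩
  refine ⟨fun N hN => ?_⟩
  by_cases c : N ≤ io.range
  · refine or_iff_not_imp_left.mpr fun h0 => top_of_x N fun e => h0 ?_
    rw [← Subgroup.map_comap_eq_self c, e, Subgroup.map_bot]
  · refine .inr (top_of_mem N ?_)
    rw [coatom.2 _ (left_lt_sup.mpr c)]
    exact Subgroup.mem_top _

theorem rho_inj : Function.Injective rho := by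
  have := simple
  rw [← MonoidHom.ker_eq_bot_iff]
  refine (rho.normal_ker.eq_bot_or_eq_top).resolve_right fun e => m0_ne ?_
  rw [← rho_s 0 (by norm_num), show rho (s 0) = 1 from
    (e ▸ Subgroup.mem_top _ : s 0 ∈ rho.ker), Units.val_one]

theorem range_eq : io.range = genW s [[0], [2], [4], [6], [8], [10], [12]] := by
  refine le_antisymm ?_ (genW_le.mpr fun w hw => ⟨_, io_ev ((by decide +kernel :
    ∀ w ∈ [[0], [2], [4], [6], [8], [10], [12]], ltB 14 w = true) w hw)⟩)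
  rw [MonoidHom.range_eq_map, ← presH.top, Subgroup.map_le_iff_le_comap, gen_le]
  intro x hx
  rw [Subgroup.mem_comap, io_h x hx]
  rcases (by decide +kernel : ∀ x < 14, [x] ∈ [[0], [2], [4], [6], [8], [10], [12]] ∨
    ∃ y < 16, [y] ∈ [[0], [2], [4], [6], [8], [10], [12]] ∧ x = invL iv y) x hx with c | ⟨y, hy, c, rfl⟩
  · exact letter_mem_genW c
  · rw [(s_inv y hy).2]; exact inv_mem (letter_mem_genW c)

end Cfsg.Agent.DCE.Th
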