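import Cfsg.Agent.DCE.Th.CQ
import Cfsg.Agent.S2119
import Cfsg.Agent.Leech.OutAbs

set_option autoImplicit false
set_option maxRecDepth 100000
set_option Elab.async false

namespace Cfsg.Agent.DCE.Th
open Cfsg.Agent.Comp Cfsg.Agent.DCE Cfsg.Agent.Fischer Subgroup

section general
variable {X C Y : Type*} [Group X] [Group C] [Group Y]

/-- the restriction of an automorphism to an invariant subgroup -/
def resA (α : MulAut X) (K : Subgroup X) (h : ∀ g, g ∈ K ↔ α g ∈ K) : MulAut K :=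
  { α.toEquiv.subtypeEquiv h with map_mul' := fun a b => Subtype.ext (map_mul α a.1 b.1) }

theorem cen_iff {α : MulAut X} {t : X} (h : α t = t) (g : X) :
    g ∈ centralizer ({t} : Set X) ↔ α g ∈ centralizer ({t} : Set X) := by
  rw [mem_centralizer_singleton_iff, mem_centralizer_singleton_iff]
  nth_rw 3 4 [← h]
  rw [← map_mul, ← map_mul, α.apply_eq_iff_eq]

theorem exists_ind {π : C →* Y} (hs : Function.Surjective π) [hk : π.ker.Characteristic]
    (β : MulAut C) : ∃ γ : MulAut Y, ∀ g, π (β g) = γ (π g) := by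
  have h : ∀ β : MulAut C, π.ker ≤ (π.comp β.toMonoidHom).ker := fun β g hg =>
    characteristic_iff_le_comap.mp hk β hg
  have e : ∀ (β : MulAut C) g, π.liftOfSurjective hs ⟨_, h β⟩ (π g) = π (β g) := fun β g =>
    π.liftOfRightInverse_comp_apply _ _ _ g
  refine ⟨MonoidHom.toMulEquiv (π.liftOfSurjective hs ⟨_, h β⟩) (π.liftOfSurjective hs ⟨_, h β⁻¹⟩)
    (MonoidHom.ext fun q => ?_) (MonoidHom.ext fun q => ?_), fun g => (e β g).symm⟩ <;>
  · obtain ⟨g, rfl⟩ := hs q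
    simp

theorem inn_of {α : MulAut X} (g : X) (h : MulAut.conj g * α ∈ Inn X) : α ∈ Inn X :=
  (mul_mem_cancel_left (show MulAut.conj g ∈ Inn X from ⟨g, rfl⟩)).mp h

theorem inner_aut [Finite X] {Q : Subgroup X} {z : X} (h : ES Q z) {α : MulAut X} (hz : α z = z)
    (hg : ∀ a ∈ Q, α a = a ∨ α a = a * z) : ∃ q ∈ Q, ∀ a ∈ Q, α a = q * a * q⁻¹ := by
  by_cases h0 : ∀ a ∈ Q, α a = a
  · exact ⟨1, one_mem _, by simpa using h0⟩
  push Not at h0
  obtain ⟨x, hx, hgx⟩ := h0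
  obtain ⟨q, hq, h1, h2⟩ := h.dual_conj (A := Q ⊓ α.toMonoidHom.eqLocus (MonoidHom.id X))
    inf_le_left ⟨h.mem, hz⟩ hx fun h' => hgx h'.2
  refine ⟨q, hq, fun a ha => ?_⟩
  rcases hg a ha with h3 | h3
  · rw [h3, (h1 a ⟨ha, h3⟩).eq, mul_inv_cancel_right]
  · have h4 : α (a * x) = a * x := by
      rw [map_mul, h3, (hg x hx).resolve_left hgx, mul_assoc, ← mul_assoc z,
        (h.central x hx).eq, mul_assoc, h.zsq, mul_one]
    have h5 := mul_inv_eq_iff_eq_mul.mpr (h1 _ ⟨mul_mem ha hx, h4⟩).eq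
    rw [← conj_mul, h2] at h5
    rw [h3]
    apply mul_right_cancel (b := x * z)
    rw [h5, mul_assoc, ← mul_assoc z, (h.central x hx).eq, mul_assoc, h.zsq, mul_one]

/-- the elements that fix `y` modulo `z` -/
def FS (z y : X) (hz : z * z = 1) : Subgroup X where
  carrier := {g | g * z = z * g ∧ (g * y * g⁻¹ = y ∨ g * y * g⁻¹ = y * z)}
  one_mem' := by simp
  mul_mem' := by
    rintro a b ⟨h1, h2⟩ ⟨h3, h4⟩
    refine ⟨by rw [mul_assoc, h3, ← mul_assoc, h1, mul_assoc], ?_⟩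
    rw [show a * b * y * (a * b)⁻¹ = a * (b * y * b⁻¹) * a⁻¹ by group]
    rcases h4 with e | e <;> rw [e]
    · exact h2
    · rw [← conj_mul, h1, mul_inv_cancel_right]
      exact h2.symm.imp (fun e => by rw [e, mul_assoc, hz, mul_one]) fun e => by rw [e]
  inv_mem' := by
    rintro a ⟨h1, h2⟩
    have h3 : a⁻¹ * z = z * a⁻¹ := (show Commute a z from h1).inv_left.eq
    refine ⟨h3, h2.imp (fun e => ?_) fun e => ?_⟩
    · nth_rw 1 [← e]; group
    · have e2 : y = a * y * a⁻¹ * z := by rw [e, mul_assoc, hz, mul_one]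
      nth_rw 1 [e2]
      rw [mul_assoc (a * y), h3]; group

end general

theorem es : ES QG (sq 0) := cxT.1

theorem pQ : IsPGroup 2 (QG.subgroupOf CC) := es.isPGroup.of_equiv (subgroupOfEquivOfLe QG_le).symm

theorem memC : ∀ x < 14, sq (9 + x) ∈ CC := fun _ hx => cxT.2.2.1 ▸ letter_mem_gen (by omega)

/-- the generators of the centraliser -/
noncomputable def cc (x : ℕ) : CC := if h : x < 14 then ⟨_, memC x h⟩ else 1

theorem cc_ev {v : List ℕ} (hv : ∀ x ∈ v, x < 14) : (ev cc v : CC) = ev sq (v.map (9 + ·)) := by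
  rw [ev_map]
  exact (map_ev _ CC.subtype v).trans (ev_congr fun x hx => by simp [cc, hv x hx])

theorem exists_pi : ∃ π : CC →* alternatingGroup (Fin 9), Function.Surjective π ∧
    (∀ g, π g = 1 ↔ g.1 ∈ QG) ∧ π.ker.Characteristic ∧
    ∀ v : List ℕ, (∀ x ∈ v, x < 14) → (π (ev cc v)).1 = ev pp v := by
  obtain ⟨-, -, -, _, e, he⟩ := cxT
  obtain ⟨f, hf⟩ := isoU
  have hk : ((e.symm.trans f).toMonoidHom.comp (QuotientGroup.mk' _)).ker = QG.subgroupOf CC := by
    ext g; simp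
  refine ⟨(e.symm.trans f).toMonoidHom.comp (QuotientGroup.mk' _),
    (e.symm.trans f).surjective.comp (QuotientGroup.mk'_surjective _),
    fun g => SetLike.ext_iff.mp hk g, ?_, fun v hv => ?_⟩
  · rw [hk, ← H3x.core_eq pQ e (by rw [cardU]; norm_num)]
    infer_instance
  · rw [map_ev, ← coe_ev, ev_congr fun x hx => ?_]
    obtain ⟨h, e1⟩ := he x (hv x hx)
    simp [cc, hv x hx, ← e1, hf x (hv x hx)]

theorem normQ {g y : G} (hg : g ∈ CC) (hy : y ∈ QG) : g * y * g⁻¹ ∈ QG :=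
  cxT.2.2.2.choose.conj_mem ⟨y, QG_le hy⟩ hy ⟨g, hg⟩

theorem Q_FS {q y : G} (hq : q ∈ QG) (hy : y ∈ QG) : q ∈ FS (sq 0) y es.zsq :=
  ⟨(es.central q hq).eq.symm, es.conj q hq y hy⟩

theorem sq_io {j : ℕ} (hj : j < 9) : sq j = io (ev ax (tq.getD j [])) := if_pos (by omega)

/-- commutators with the basis -/
def FC (gs : List (List ℕ)) : List (List ℕ) := [0] :: gs.flatMap fun g =>
  (List.range 9).map fun j => g ++ tq.getD j [] ++ iwx g ++ iwx (tq.getD j [])

theorem comm_of_fs {gs : List (List ℕ)} {y : G} (hy : y ∈ QG) (h1 : gs.all (ltB 64) = true)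
    (hg : ∀ g ∈ gs, io (ev ax g) ∈ FS (sq 0) y es.zsq) {i : ℕ} (hi : i < 9) {v : List ℕ}
    (h : eqH (tq.getD i []) (subst (FC gs) v) = true) : Commute y (sq i) := by
  rw [sq_io hi, eqH_spec h]
  refine mem_centralizer_singleton_iff.mp ((genW_le (K := (centralizer {y}).comap io)).mpr
    (fun u hu => ?_) (subst_mem ax _ v)) |>.symm
  rw [mem_comap, mem_centralizer_singleton_iff]
  rcases List.mem_cons.mp hu with rfl | hu
  · exact sq_io (j := 0) (by norm_num) ▸ (es.central y hy).eq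
  obtain ⟨g, hgs, hu⟩ := List.mem_flatMap.mp hu
  obtain ⟨j, hj, rfl⟩ := List.mem_map.mp hu
  have hj := List.mem_range.mp hj
  obtain ⟨h2, h3⟩ := hg g hgs
  have hq : sq j ∈ QG := letter_mem_gen hj
  simp only [ev_append, map_mul]
  rw [ev_iwx (ltB_spec (List.all_eq_true.mp h1 g hgs)), ev_iwx ((by decide +kernel :
    ∀ j < 9, ∀ x ∈ tq.getD j [], x < 64) j hj), map_inv, map_inv, ← sq_io hj]
  generalize io (ev ax g) = k at h2 h3
  have h4 := normQ (mem_centralizer_singleton_iff.mpr h2) hq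
  refine ((es.commute_mul_iff h4 (inv_mem hq) hy).mpr ?_).eq
  rw [Commute.inv_left_iff, ← Commute.conj_iff (a := sq j) k, Commute.symm_iff,
    Commute.symm_iff (b := k * y * k⁻¹)]
  rcases h3 with e | e <;> rw [e]
  exact (es.commute_mul_z_iff h4).symm

theorem cen_of {y : G} (hy : y ∈ QG) (h : ∀ i < 9, Commute y (sq i)) : y = 1 ∨ y = sq 0 :=
  es.cent y hy fun _ hx => (mem_centralizer_singleton_iff.mp ((gen_le (K := centralizer {y})).mpr
    (fun i hi => mem_centralizer_singleton_iff.mpr (h i hi).eq.symm) hx)).symm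

theorem fx1 {y : G} (hy : y ∈ QG) (h : io (ev ax [6, 8, 10]) ∈ FS (sq 0) y es.zsq) : y = 1 ∨ y = sq 0 :=
  cen_of hy fun i hi => comm_of_fs (gs := [[6, 8, 10]]) hy rfl (by simpa only [List.forall_mem_singleton])
    hi ((by decide +kernel : ∀ i < 9, eqH (tq.getD i [])
      (subst (FC [[6, 8, 10]]) (List.getD [[0], [2, 4, 5, 6, 8, 9], [4, 5, 6, 9, 8], [2, 3, 6, 4], [2, 3, 8, 9], [7, 9], [2, 5, 3, 7], [2, 3, 4, 7, 9], [2, 3, 4, 9]] i [])) = true) i hi)

theorem q_mem {i : ℕ} (hi : i < 9 := by norm_num) : sq i ∈ QG := letter_mem_gen hi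

theorem ne_of {u v : List ℕ} (h : (ltB 21 u && ltB 21 v && ltB 64 (subst tq u) &&
    ltB 64 (subst tq v) && !eqH (subst tq u) (subst tq v)) = true) : ev sq u ≠ ev sq v := fun e => by
  simp only [Bool.and_eq_true, Bool.not_eq_true'] at h
  rw [sq_ev h.1.1.1.1, sq_ev h.1.1.1.2] at e
  rw [(eqH_iff h.1.1.2 h.1.2).mpr (io_inj e)] at h
  exact absurd h.2 (by simp)

theorem nc12 : ¬ Commute (sq 1) (sq 2) := fun e =>
  ne_of (u := [1, 2]) (v := [2, 1]) (by decide +kernel) (by simpa using e.eq)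

theorem c_ne : ¬ (sq 1 = 1 ∨ sq 1 = sq 0) := fun e => nc12 (by
  rcases e with e | e <;> rw [e]
  exacts [Commute.one_left _, es.central _ q_mem])

theorem fx2 {y : G} (hy : y ∈ QG) (h1 : io (ev ax [10]) ∈ FS (sq 0) y es.zsq)
    (h2 : io (ev ax [8]) ∈ FS (sq 0) y es.zsq) (h0 : ¬ (y = 1 ∨ y = sq 0)) :
    y = sq 1 ∨ y = sq 1 * sq 0 := by
  have k : ∀ i < 9, i ≠ 2 → Commute y (sq i) := fun i hi h => comm_of_fs (gs := [[10], [8]]) hy rfl
    (by simp only [List.forall_mem_cons]; exact ⟨h1, h2, by simp⟩) hi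
    ((by decide +kernel : ∀ i < 9, i ≠ 2 → eqH (tq.getD i [])
      (subst (FC [[10], [8]]) (List.getD [[0], [14], [], [4, 6, 8, 16], [6, 7, 8], [4, 5, 7, 9, 8], [4, 8, 7], [5, 6, 8, 16], [4, 5, 6, 7]] i [])) = true) i hi h)
  have k1 : ∀ i < 9, i ≠ 2 → Commute (sq 1) (sq i) := fun i hi h => by
    simpa [commute_iff_eq] using sq_eq ((by decide +kernel : ∀ i < 9, i ≠ 2 → (ltB 21 [1, i] && ltB 21 [i, 1] &&
      eqH (subst tq [1, i]) (subst tq [i, 1])) = true) i hi h)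
  have h3 : ¬ Commute y (sq 2) := fun e => h0 (cen_of hy fun i hi => by
    by_cases c : i = 2
    exacts [c ▸ e, k i hi c])
  refine (cen_of (mul_mem (inv_mem (q_mem (i := 1))) hy) fun i hi => ?_).imp
    (fun e => (inv_mul_eq_one.mp e).symm) inv_mul_eq_iff_eq_mul.mp
  rw [es.commute_mul_iff (inv_mem q_mem) hy (q_mem hi), Commute.inv_left_iff]
  by_cases c : i = 2
  exacts [c ▸ iff_of_false nc12 h3, iff_of_true (k1 i hi c) (k i hi c)]

theorem g1_eq : (ev cc [4, 6, 8] : CC) = io (ev ax [6, 8, 10]) := by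
  rw [cc_ev (by decide), sq_ev (by decide +kernel)]; rfl

theorem cmem {g : G} (hg : ∀ y ∈ QG, Commute g y) : g = 1 ∨ g = sq 0 := by
  obtain ⟨π, hs, hk, -, -⟩ := exists_pi
  have := cxT.2.2.2.choose
  have := alternatingGroup.isSimpleGroup (α := Fin 9) (by simp)
  rcases (Normal.map inferInstance π hs :
    ((centralizer (QG.subgroupOf CC : Set CC)).map π).Normal).eq_bot_or_eq_top with e | e
  · refine es.cent g ((hk ⟨g, mem_centralizer_singleton_iff.mpr (hg _ es.mem).eq⟩).mp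
      (mem_bot.mp (e ▸ mem_map_of_mem π fun y hy => Subtype.ext (hg y hy).eq.symm))) hg
  · obtain ⟨m, hm, e1⟩ : π (ev cc [4, 6, 8]) ∈ _ := e ▸ mem_top _
    have h1 := (hk (m⁻¹ * ev cc [4, 6, 8])).mp (by rw [map_mul, map_inv, e1, inv_mul_cancel])
    refine (c_ne (fx1 q_mem ?_)).elim
    rw [← g1_eq, ← mul_inv_cancel_left m (ev cc _)]
    refine mul_mem ⟨mem_centralizer_singleton_iff.mp m.2, .inl ?_⟩ (Q_FS h1 q_mem)
    exact mul_inv_eq_iff_eq_mul.mpr (congrArg Subtype.val (hm ⟨sq 1, QG_le q_mem⟩ (q_mem (i := 1)))).symm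

theorem cardC : Nat.card CC = 92897280 := by
  obtain ⟨-, h1, -, _, e, -⟩ := cxT
  rw [card_eq_card_quotient_mul_card_subgroup (QG.subgroupOf CC), ← Nat.card_congr e.toEquiv, cardU,
    Nat.card_congr (subgroupOfEquivOfLe QG_le).toEquiv, h1]
  norm_num

theorem syl : ∃ S : Sylow 2 G, sq 0 ∈ S ∧ ∀ g ∈ S, g * sq 0 = sq 0 * g ∧
    ((∀ u ∈ S, u * g = g * u) → g = 1 ∨ g = sq 0) := by
  obtain ⟨P, hP⟩ := pQ.exists_le_sylow
  have f : ∀ m : ℕ, ¬ 2 ∣ m → (2 ^ 15 * m).factorization 2 = 15 := fun m hm => by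
    rw [Nat.factorization_mul (by norm_num) (by omega), Nat.prime_two.factorization_pow]
    simp [Nat.factorization_eq_zero_of_not_dvd hm]
  have h1 : Nat.card (P.1.map CC.subtype) = 2 ^ (Nat.card G).factorization 2 := by
    rw [card_map_of_injective CC.subtype_injective, P.card_eq_multiplicity, cardC, card,
      show 92897280 = 2 ^ 15 * 2835 by norm_num,
      show 90745943887872000 = 2 ^ 15 * 2769346432125 by norm_num, f _ (by norm_num), f _ (by norm_num)]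
  have h2 : ∀ y ∈ QG, y ∈ P.1.map CC.subtype := fun y hy => ⟨⟨y, QG_le hy⟩, hP hy, rfl⟩
  refine ⟨Sylow.ofCard _ h1, h2 _ es.mem, ?_⟩
  rintro _ ⟨g, -, rfl⟩
  exact ⟨mem_centralizer_singleton_iff.mp g.2, fun h => cmem fun y hy => (h y (h2 y hy)).symm⟩

theorem P_CC {p : H} (hp : phi p 0 = 0) : io p ∈ CC := by rw [CC, sq0, cen_eq]; exact P_le hp

theorem odd_fix {α : MulAut G} {g : G} (hg : g ∈ CC) (h : α g = g ∨ α g = g * sq 0) (n : ℕ)
    (e : α (g ^ (2 * n + 1)) = g ^ (2 * n + 1)) : α g = g := h.resolve_right fun c => by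
  rw [map_pow, c, (show Commute g (sq 0) from mem_centralizer_singleton_iff.mp hg).mul_pow,
    mul_eq_left, pow_succ, pow_mul, pow_two, es.zsq, one_pow, one_mul] at e
  exact es.ne e

theorem fixC {α : MulAut G} (hq : ∀ y ∈ QG, α y = y) : ∀ g ∈ CC, α g = g := by
  have k : ∀ g ∈ CC, α g = g ∨ α g = g * sq 0 := fun g hg =>
    (cmem (g := g⁻¹ * α g) fun y hy => by
      have := hq _ (normQ hg hy)
      rw [map_mul, map_mul, map_inv, hq y hy, mul_inv_eq_iff_eq_mul] at this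
      change _ = _
      rw [mul_assoc, this]; group).imp (fun e => (inv_mul_eq_one.mp e).symm) inv_mul_eq_iff_eq_mul.mp
  have k2 : ∀ (v : List ℕ) (n : ℕ), (∀ x ∈ v, x < 14) → ev sq (v.map (9 + ·)) ^ (2 * n + 1) ∈ QG →
      α (ev sq (v.map (9 + ·))) = ev sq (v.map (9 + ·)) := fun v n hv e =>
    have h1 : ev sq (v.map (9 + ·)) ∈ CC := cc_ev hv ▸ (ev cc v).2
    odd_fix h1 (k _ h1) n (hq _ e)
  have k3 : ∀ (v : List ℕ) (n : ℕ), (ltB 12 v && (ltB 21 (wpow (v.map (9 + ·)) (2 * n + 1)) &&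
      ltB 21 [] && eqH (subst tq (wpow (v.map (9 + ·)) (2 * n + 1))) (subst tq []))) = true →
      α (ev sq (v.map (9 + ·))) = ev sq (v.map (9 + ·)) := fun v n h => by
    rw [Bool.and_eq_true] at h
    refine k2 v n (fun x hx => (ltB_spec h.1 x hx).trans (by norm_num)) ?_
    rw [← ev_wpow, sq_eq h.2]; exact one_mem _
  have hs := k3 [8] 3 (by decide +kernel)
  have ht := k3 [10] 1 (by decide +kernel)
  have he := k3 [6, 8] 3 (by decide +kernel)
  have hd := k3 [4, 6] 1 (by decide +kernel)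
  have ha := hq _ es.mem
  have hc := hq _ (q_mem (i := 1))
  have e1 : sq 1 = s 4 := by rw [sq_io (by norm_num), ← io_h 4 (by norm_num), ← ax_h 4 (by norm_num)]; simp [tq]
  have hu := k2 [9, 13] 1 (by decide) (by
    have := pres.sat [0, 4, 11, 15, 11, 15, 11, 15] (by decide +kernel)
    rw [ev_cons, ev_cons, ← mul_assoc, mul_eq_one_iff_inv_eq, ← sq0, ← e1] at this
    convert inv_mem (mul_mem es.mem (q_mem (i := 1))) using 1
    rw [this]
    simp [pow_succ, mul_assoc, sq_gen 9 (by norm_num), sq_gen 13 (by norm_num), nth_eq])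
  simp only [List.map_cons, List.map_nil, ev_cons, ev_nil, mul_one, map_mul,
    sq_gen _ (by norm_num : 8 < 14), sq_gen _ (by norm_num : 10 < 14), sq_gen _ (by norm_num : 6 < 14),
    sq_gen _ (by norm_num : 4 < 14), sq_gen _ (by norm_num : 9 < 14), sq_gen _ (by norm_num : 13 < 14),
    nth_eq, List.getD_cons_succ, List.getD_cons_zero] at hs ht he hd hu
  rw [hs, mul_left_inj] at he
  rw [he, mul_left_inj] at hd
  rw [sq0] at ha
  rw [e1] at hc
  have i : ∀ x < 16, α (s x) = s x → α (s (invL iv x)) = s (invL iv x) := fun x hx e => by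
    rw [(s_inv x hx).2, map_inv, e]
  rw [show α (s 11) = s 11 from i 10 (by norm_num) hs, mul_right_inj] at hu
  intro g hg
  rw [CC, sq0, cen_eq] at hg
  refine (genW_le (K := α.toMonoidHom.eqLocus (MonoidHom.id G))).mpr ?_ hg
  simp only [List.forall_mem_cons, ev_single]
  exact ⟨ha, i 0 (by norm_num) ha, hc, i 4 (by norm_num) hc, hd, i 6 (by norm_num) hd, he,
    i 8 (by norm_num) he, hs, i 10 (by norm_num) hs, ht, i 12 (by norm_num) ht,
    i 15 (by norm_num) hu, hu, by simp⟩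

theorem cardK : Nat.card (genW h [[6], [7], [8], [9], [10], [11], [12], [13]]) = 1512 := by
  refine le_antisymm (upK presH.sat (by decide +kernel) (by decide +kernel)).2 ?_
  rw [rep.card_genW cardH.2.2 (by decide +kernel)]
  have := ok.finite [[6], [7], [8], [9], [10], [11], [12], [13]]
  exact low_of (V := [[6], [7], [8], [9], [10], [11], [12], [13]]) [([[0], [4], [0, 2]], [0, 1, 0, 1, 2, 0, 1, 0, 2, 1, 0, 1, 0, 1, 0], 50, 168), ([[6], [0, 2]], [0, 0, 1, 1], 26, 9)] _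
    (fun e _ => genW_le.mpr fun u hu => by
      obtain ⟨v, -, rfl⟩ := List.mem_map.mp hu
      exact subst_mem _ _ _) (by decide +kernel)

/-- commutes with `d, e, s, t` -/
def CK (g : G) : Prop := ∀ x, 6 ≤ x → x < 14 → g * s x = s x * g

theorem CK.mem {g : G} (hg : CK g) : g ∈ io.range := by
  have := cardH.1
  obtain ⟨i, hi, k, e⟩ := closed.cover g
  have h1 : genW h [[6], [7], [8], [9], [10], [11], [12], [13]] ≤ St io g := genW_le.mpr fun u hu => by
    obtain ⟨x, hx, h1, rfl⟩ := (by decide : ∀ u ∈ [[6], [7], [8], [9], [10], [11], [12], [13]],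
      ∃ x < 14, 6 ≤ x ∧ u = [x]) u hu
    rw [ev_single, mem_St, io_h x hx, hg x h1 hx, mul_inv_cancel_right]
    exact ⟨h x, io_h x hx⟩
  have h2 := mul_dvd_mul_right (card_dvd_of_le h1) (St io g).index
  rw [card_mul_index, sizes hi e, cardK, cardH.2.1] at h2
  obtain rfl := (by decide +kernel : ∀ i < 11, 1512 * NL.getD i 0 ∣ 634023936 → i = 0) i hi h2
  rw [cs_eq, closed.w0, one_mul] at e
  simpa using mul_mem e (⟨k, rfl⟩ : io k ∈ io.range)

theorem CK.cen {g : G} (hg : CK g) (hc : g ∈ CC) : g = 1 ∨ g = sq 0 := by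
  obtain ⟨π, -, hk, -, hv⟩ := exists_pi
  have h1 : ∀ v : List ℕ, (∀ x ∈ v, 4 ≤ x ∧ x < 12) → ⟨g, hc⟩ * ev cc v = ev cc v * ⟨g, hc⟩ :=
    fun v h => (mem_centralizer_singleton_iff.mp (ev_mem (K := centralizer {(⟨g, hc⟩ : CC)}) fun x hx => by
      obtain ⟨h2, h3⟩ := h x hx
      refine mem_centralizer_singleton_iff.mpr (Subtype.ext ?_)
      have h4 := (by decide : ∀ x < 12, 4 ≤ x →
        nth 0 [0, 1, 4, 5, 6, 7, 8, 9, 10, 11, 12, 13, 14, 15] x = x + 2) x h3 h2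
      simp only [cc, dif_pos (show x < 14 by omega), coe_mul, sq_gen x (by omega), h4]
      exact (hg _ (by omega) (by omega)).symm)).symm
  have h2 : ∀ v : List ℕ, (∀ x ∈ v, 4 ≤ x ∧ x < 12) → ∀ i,
      (π ⟨g, hc⟩).1 (ev pp v i) = ev pp v ((π ⟨g, hc⟩).1 i) := fun v h i => by
    rw [← hv v fun x hx => by have := h x hx; omega, ← Equiv.Perm.mul_apply, ← Equiv.Perm.mul_apply,
      ← coe_mul, ← coe_mul, ← map_mul, h1 v h, map_mul]
  have h3 : (π ⟨g, hc⟩).1 0 = 0 := (by decide +kernel : ∀ i, ev pp [6] i = i → ev pp [8] i = i → i = 0) _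
    (by rw [← h2 _ (by decide)]; congr 1) (by rw [← h2 _ (by decide)]; congr 1)
  have h4 : g ∈ QG := (hk ⟨g, hc⟩).mp (Subtype.ext (Equiv.ext fun i => by
    obtain ⟨h5, h6⟩ := (by decide +kernel : ∀ i : Fin 9, (∀ x ∈ List.getD [[], [4], [6, 4], [4, 8, 6, 4], [8, 6, 4], [6, 4, 8, 6, 4], [6, 8, 6, 4], [6, 8, 8, 6, 4], [8, 8, 6, 4]] i [], 4 ≤ x ∧ x < 12) ∧
      ev pp (List.getD [[], [4], [6, 4], [4, 8, 6, 4], [8, 6, 4], [6, 4, 8, 6, 4], [6, 8, 6, 4], [6, 8, 8, 6, 4], [8, 8, 6, 4]] i []) 0 = i) i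
    rw [← h6, h2 _ h5, h3]; rfl))
  refine fx1 h4 ?_
  rw [← g1_eq]
  exact ⟨mem_centralizer_singleton_iff.mp (ev cc _).2,
    .inl (mul_inv_eq_iff_eq_mul.mpr (congrArg Subtype.val (h1 _ (by decide))).symm)⟩

theorem CK.of_word {u : List ℕ} (h : ∀ x < 14, 6 ≤ x → eqH (u ++ [x]) (x :: u) = true) :
    CK (io (ev ax u)) := fun x h1 h2 => by
  have := congrArg io (eqH_spec (h x h2 h1))
  rwa [ev_append, ev_cons ax x u, ev_single, ax_h x h2, map_mul, map_mul, io_h x h2] at this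

theorem out5 {α : MulAut G} (h1 : ∀ g ∈ CC, α g = g) (h2 : α (s 2) = s 2) : α ∈ Inn G := by
  have : gen s 16 ≤ α.toMonoidHom.eqLocus (MonoidHom.id G) := gen_le.mpr fun x hx => by
    by_cases c : x = 2 ∨ x = 3
    · rcases c with rfl | rfl
      · exact h2
      · change α _ = s 3
        rw [show s 3 = _ from (s_inv 2 (by norm_num)).2, map_inv, h2]
    · refine h1 _ ?_
      rw [CC, sq0, cen_eq]
      exact letter_mem_genW ((by decide : ∀ x < 16, ¬ (x = 2 ∨ x = 3) → [x] ∈ _) x hx c)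
  rw [show α = 1 from MulEquiv.ext fun g => this (pres.top ▸ mem_top g)]
  exact one_mem _

theorem out4 {α : MulAut G} (h1 : ∀ g ∈ CC, α g = g) : α ∈ Inn G := by
  have eb : io (ev ax [2]) = s 2 := by rw [ev_single, ax_h 2 (by norm_num), io_h 2 (by norm_num)]
  have ea : io (ax 0) = sq 0 := by rw [ax_h 0 (by norm_num), io_h 0 (by norm_num), sq0]
  have hx : ∀ x < 14, 6 ≤ x → phi (h x) 0 = 0 := fun x hx h6 => (stab1.2 _).mp
    (letter_mem_genW ((by decide +kernel : ∀ x < 14, 6 ≤ x → [x] ∈ lowW1) x hx h6))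
  have hb : CK (α (s 2)) := fun x h6 h14 => by
    rw [← h1 (s x) (io_h x h14 ▸ P_CC (hx x h14 h6)), ← map_mul, ← map_mul, ← eb,
      CK.of_word (u := [2]) (by decide +kernel) x h6 h14]
  obtain ⟨k, hk⟩ := hb.mem
  have h2 : ∀ x < 14, 6 ≤ x → foldT TT [x] (phi k 0) = phi k 0 := fun x h14 h6 => by
    rw [← fold_eq (by simp [ltB]; omega) (Bd.lt (rep.bd k) (by norm_num)), ev_single, ax_h x h14,
      Equiv.Perm.inv_eq_iff_eq, ← Equiv.Perm.mul_apply, ← map_mul,
      ← io_inj (show io (k * h x) = io (h x * k) by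
        rw [map_mul, map_mul, hk, io_h x h14]; exact hb x h6 h14), map_mul, Equiv.Perm.mul_apply,
      hx x h14 h6]
  have h3 := allN_spec (by decide +kernel : allN (fun p => !(Nat.beq (foldT TT [6] p) p &&
    Nat.beq (foldT TT [8] p) p && Nat.beq (foldT TT [10] p) p && Nat.beq (foldT TT [12] p) p) ||
      [0, 1, 2].contains p) 819 = true) _ (Bd.lt (rep.bd k) (by norm_num : 0 < 819))
  rw [h2 6 (by norm_num) le_rfl, h2 8 (by norm_num) (by norm_num), h2 10 (by norm_num) (by norm_num),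
    h2 12 (by norm_num) (by norm_num)] at h3
  have b2 : α (s 2) * α (s 2) = 1 := by
    rw [← map_mul, map_eq_one_iff α α.injective]
    simpa using pres.sat [2, 2] (by decide)
  have key : ∀ u : List ℕ, CK (io (ev ax u)) → phi (ev ax u) 0 = phi k 0 → ltB 64 (u ++ [0] ++ (u ++ [0])) = true →
      eqH (u ++ [0] ++ (u ++ [0])) [] = false → α (s 2) = io (ev ax u) := fun u c e l n => by
    have h4 := P_CC (fix_of_eq e)
    rw [map_mul, map_inv, hk] at h4
    rcases CK.cen (fun x h6 h14 => by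
      rw [mul_assoc, hb x h6 h14, ← mul_assoc, (show Commute _ _ from c x h6 h14).inv_left.eq,
        mul_assoc]) h4 with e | e
    · exact (inv_mul_eq_one.mp e).symm
    · rw [inv_mul_eq_iff_eq_mul.mp e, ← ea, ← map_mul, ← map_mul, ← map_one io] at b2
      rw [(eqH_iff l rfl).mpr (by simpa [mul_assoc] using io_inj b2)] at n
      exact absurd n (by simp)
  simp only [Nat.beq_refl, Bool.and_self, Bool.not_true, Bool.false_or, List.contains_iff_mem,
    List.mem_cons, List.not_mem_nil, or_false] at h3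
  rcases h3 with e | e | e
  · exact out5 h1 (α.injective (h1 _ (hk ▸ P_CC e)))
  · exact out5 h1 (eb ▸ key [2] (CK.of_word (by decide +kernel))
      ((fold_pt (by decide +kernel)).trans e.symm) rfl (by decide +kernel))
  · have := key [0, 2, 0] (CK.of_word (by decide +kernel))
      ((fold_pt (by decide +kernel)).trans e.symm) rfl (by decide +kernel)
    refine inn_of (sq 0) (out5 (fun g hg => ?_) ?_) <;> rw [MulAut.mul_apply, MulAut.conj_apply]
    · rw [h1 g hg, ← mem_centralizer_singleton_iff.mp hg, mul_inv_cancel_right]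
    · rw [this, ← eb]
      simp [ea, ← mul_assoc, es.zsq]

theorem c_fix {α : MulAut G} (ha : α (sq 0) = sq 0) (h1 : ∀ g ∈ CC, g⁻¹ * α g ∈ QG) :
    α (sq 1) = sq 1 ∨ α (sq 1) = sq 1 * sq 0 := by
  have hQ : α (sq 1) ∈ QG := by
    simpa using mul_mem (q_mem (i := 1)) (h1 _ (QG_le (q_mem (i := 1))))
  have hF : ∀ g ∈ CC, g * sq 1 = sq 1 * g → g ∈ FS (sq 0) (α (sq 1)) es.zsq := fun g hg e => by
    have := mul_mem (show α g ∈ FS (sq 0) (α (sq 1)) es.zsq from
      ⟨mem_centralizer_singleton_iff.mp ((cen_iff ha g).mp hg), .inl (by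
        rw [← map_mul, e, map_mul, mul_inv_cancel_right])⟩) (inv_mem (Q_FS (h1 g hg) hQ))
    simpa using this
  have k : ∀ x, (ltB 64 [x] && decide (0 < 819) && Nat.beq (foldT TT [x] 0) 0) = true →
      eqH ([x] ++ tq.getD 1 []) (tq.getD 1 [] ++ [x]) = true →
      io (ev ax [x]) ∈ FS (sq 0) (α (sq 1)) es.zsq := fun x h e =>
    hF _ (P_CC (fold_pt h)) (by
      rw [sq_io (by norm_num), ← map_mul, ← map_mul, ← ev_append, ← ev_append, eqH_spec e])
  exact fx2 hQ (k 10 (by decide +kernel) (by decide +kernel))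
    (k 8 (by decide +kernel) (by decide +kernel)) fun e => c_ne
      (e.imp (map_eq_one_iff α α.injective).mp fun e => α.injective (e.trans ha.symm))

theorem aux3 {X : Type*} [Group X] {m q c d z : X} (hz : z * z = 1) (hm : m * z = z * m)
    (h1 : q * d * q⁻¹ = d ∨ q * d * q⁻¹ = d * z) (h2 : d = c ∨ d = c * z) :
    m * (c⁻¹ * (q * d * q⁻¹)) * m⁻¹ = 1 ∨ m * (c⁻¹ * (q * d * q⁻¹)) * m⁻¹ = z := by
  rcases h1 with e | e <;> rw [e] <;> rcases h2 with e' | e' <;> simp [e', mul_assoc, hz, hm]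

theorem out3 {α : MulAut G} (ha : α (sq 0) = sq 0) (h1 : ∀ g ∈ CC, g⁻¹ * α g ∈ QG) : α ∈ Inn G := by
  have hQ : α (sq 1) ∈ QG := by
    simpa using mul_mem (q_mem (i := 1)) (h1 _ (QG_le (q_mem (i := 1))))
  let K : Subgroup G :=
    { carrier := {y | y ∈ QG ∧ (y⁻¹ * α y = 1 ∨ y⁻¹ * α y = sq 0)}
      one_mem' := ⟨one_mem _, by simp⟩
      mul_mem' := by
        rintro a b ⟨h2, h3⟩ ⟨h4, h5⟩
        refine ⟨mul_mem h2 h4, ?_⟩
        rw [show (a * b)⁻¹ * α (a * b) = b⁻¹ * (a⁻¹ * α a) * α b by rw [map_mul]; group]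
        rcases h3 with e | e <;> rw [e]
        · rwa [mul_one]
        · rw [← (es.central _ (inv_mem h4)).eq, mul_assoc]
          exact h5.symm.imp (fun e => by rw [e, es.zsq]) fun e => by rw [e, mul_one]
      inv_mem' := by
        rintro a ⟨h2, h3⟩
        refine ⟨inv_mem h2, ?_⟩
        rw [show a⁻¹⁻¹ * α a⁻¹ = a * (a⁻¹ * α a)⁻¹ * a⁻¹ by rw [map_inv]; group]
        rcases h3 with e | e <;> rw [e]
        · simp
        · rw [es.zinv, ← (es.central _ h2).eq]; simp }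
  have h2 : QG ≤ K := gen_le.mpr fun i hi => by
    rw [sq_io hi, eqH_spec ((by decide +kernel : ∀ i < 9, eqH (tq.getD i []) (subst ([0] ::
      List.map (fun g => g ++ [4] ++ iwx g) [[], [6], [8, 6], [10, 8, 6], [11, 8, 6], [8, 10, 8, 6], [8, 11, 8, 6], [10, 10, 8, 6]]) (List.getD [[0], [1], [2], [1, 2, 6, 7, 8], [3, 4, 8, 5], [4, 3], [1, 2, 3, 6, 5], [1, 2, 6], [3, 4, 7, 6]] i [])) = true) i hi)]
    refine (genW_le (K := K.comap io)).mpr (fun u hu => ?_) (subst_mem ax _ _)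
    rw [mem_comap]
    rcases List.mem_cons.mp hu with rfl | hu
    · rw [show io (ev ax [0]) = _ from (sq_io (j := 0) (by norm_num)).symm]
      exact ⟨es.mem, .inl (by rw [ha, inv_mul_cancel])⟩
    obtain ⟨g, hg, rfl⟩ := List.mem_map.mp hu
    obtain ⟨h3, h4⟩ := (by decide +kernel : ∀ g ∈ [[], [6], [8, 6], [10, 8, 6], [11, 8, 6], [8, 10, 8, 6], [8, 11, 8, 6], [10, 10, 8, 6]], (∀ x ∈ g, x < 64) ∧
      (ltB 64 g && decide (0 < 819) && Nat.beq (foldT TT g 0) 0) = true) g hg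
    have h5 := P_CC (fold_pt h4)
    rw [ev_append, ev_append, ev_iwx h3, map_mul, map_mul, map_inv,
      show io (ev ax [4]) = _ from (sq_io (j := 1) (by norm_num)).symm]
    generalize io (ev ax g) = m at h5
    refine ⟨normQ h5 q_mem, ?_⟩
    rw [show (m * sq 1 * m⁻¹)⁻¹ * α (m * sq 1 * m⁻¹) =
      m * ((sq 1)⁻¹ * (m⁻¹ * α m * α (sq 1) * (m⁻¹ * α m)⁻¹)) * m⁻¹ by
        rw [map_mul, map_mul, map_inv]; group]
    exact aux3 es.zsq (mem_centralizer_singleton_iff.mp h5) (es.conj _ (h1 m h5) _ hQ) (c_fix ha h1)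
  obtain ⟨q, -, hq⟩ := inner_aut es ha fun y hy => (h2 hy).2.imp
    (fun e => (inv_mul_eq_one.mp e).symm) inv_mul_eq_iff_eq_mul.mp
  exact inn_of q⁻¹ (out4 (fixC fun y hy => by
    rw [MulAut.mul_apply, MulAut.conj_apply, hq y hy]; group))

/-- an odd permutation -/
def tau : Equiv.Perm (Fin 9) := (List.map (fun e => Equiv.swap e.1 e.2) [(2, 6), (3, 6), (6, 8)]).prod

theorem fs2 : (ev cc (12 :: [4, 8, 6]) : CC).1 ∈ FS (sq 0) (ev sq [1, 2, 3, 4, 5]) es.zsq := by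
  refine ⟨mem_centralizer_singleton_iff.mp (ev cc _).2, .inl ?_⟩
  have h1 := eqH_spec (by decide +kernel : eqH ([6, 10, 8] ++ subst tq [1, 2, 3, 4, 5]) (subst V1 [4, 4, 0, 5, 5, 5, 2, 4, 0] ++ [6, 10, 8]) = true)
  have h2 := eqH_spec (by decide +kernel : eqH (subst L1 [4, 4, 0, 5, 5, 5, 2, 4, 0]) (subst tq [1, 2, 3, 4, 5]) = true)
  have h3 := tw_1 [4, 4, 0, 5, 5, 5, 2, 4, 0]
  rw [h2, ← sq_ev (by decide +kernel)] at h3
  rw [cc_ev (by decide), List.map_cons, ev_cons, show sq (9 + 12) = w 1 from w1.symm,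
    sq_ev (u := List.map _ _) (by decide +kernel), show subst tq (List.map _ _) = [6, 10, 8] from rfl,
    mul_inv_eq_iff_eq_mul, mul_assoc, sq_ev (u := [1, 2, 3, 4, 5]) (by decide +kernel), ← map_mul, ← ev_append, h1,
    ev_append, map_mul, ← mul_assoc, h3, ← sq_ev (by decide +kernel)]
  simp [mul_assoc]

theorem out2 {α : MulAut G} (ha : α (sq 0) = sq 0) : α ∈ Inn G := by
  obtain ⟨π, hs, hk, hch, hv⟩ := exists_pi
  obtain ⟨γ, hγ⟩ := exists_ind hs (resA α CC (cen_iff ha))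
  obtain ⟨σ, rfl⟩ := (S2119.result 9 (by norm_num) (by norm_num)).2 γ
  replace hγ : ∀ g : CC, (π (resA α CC (cen_iff ha) g)).1 = σ * π g * σ⁻¹ := fun g =>
    congrArg Subtype.val (hγ g)
  by_cases c : σ ∈ alternatingGroup (Fin 9)
  · obtain ⟨m, hm⟩ := hs ⟨σ, c⟩
    refine inn_of m.1⁻¹ (out3 ?_ fun g hg => (hk (⟨g, hg⟩⁻¹ *
      (m⁻¹ * resA α CC (cen_iff ha) ⟨g, hg⟩ * m⁻¹⁻¹))).mp (Subtype.ext ?_))
    · rw [MulAut.mul_apply, ha, MulAut.conj_apply, mem_centralizer_singleton_iff.mp (inv_mem m.2),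
        mul_inv_cancel_right]
    · simp [hγ, hm, mul_assoc]
  obtain ⟨m, hm⟩ := hs ⟨σ * tau⁻¹, by
    rw [Equiv.Perm.mem_alternatingGroup] at c ⊢
    rw [map_mul, Equiv.Perm.sign_inv, (Int.units_eq_one_or _).resolve_left c,
      show Equiv.Perm.sign tau = -1 from Equiv.Perm.sign_prod_list_swap (by
        simp only [List.map_cons, List.map_nil, List.forall_mem_cons]
        refine ⟨?_, ?_⟩ <;> simp [Equiv.Perm.swap_isSwap_iff])]
    rfl⟩
  have h1 := (hk ((m * ev cc (12 :: [4, 8, 6]) * m⁻¹)⁻¹ * resA α CC (cen_iff ha) (ev cc [4, 6, 8]))).mp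
    (Subtype.ext (by
      have e : ev pp (12 :: [4, 8, 6]) = tau * ev pp [4, 6, 8] * tau⁻¹ :=
        eq_mul_inv_of_mul_eq (Equiv.ext (by decide +kernel))
      simp only [map_mul, map_inv, coe_mul, coe_inv, hγ, hm, hv (12 :: [4, 8, 6]) (by decide),
        hv [4, 6, 8] (by decide), e, OneMemClass.coe_one]
      group))
  have hy : ev sq [1, 2, 3, 4, 5] ∈ QG := ev_mem fun x hx => q_mem ((by decide : ∀ x ∈ [1, 2, 3, 4, 5], x < 9) x hx)
  have hY := normQ m.2 hy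
  have hm0 := mem_centralizer_singleton_iff.mp m.2
  have h2 : α (ev cc [4, 6, 8] : CC) ∈ FS (sq 0) (m * ev sq [1, 2, 3, 4, 5] * (m : G)⁻¹) es.zsq := by
    refine (mul_mem_cancel_left (inv_mem ?_)).mp (Q_FS h1 hY)
    refine ⟨mem_centralizer_singleton_iff.mp (m * ev cc (12 :: [4, 8, 6]) * m⁻¹).2, ?_⟩
    simp only [coe_mul, coe_inv]
    rw [conj_inv, conj_mul, conj_mul]
    exact fs2.2.imp (fun e => by rw [e]) fun e => by
      rw [e, ← conj_mul, hm0, mul_inv_cancel_right]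
  have h3 : α⁻¹ (m * ev sq [1, 2, 3, 4, 5] * (m : G)⁻¹) ∈ QG := (hk _).mp
    (characteristic_iff_le_comap.mp hch (resA α CC (cen_iff ha))⁻¹ ((hk ⟨_, QG_le hY⟩).mpr hY))
  have h4 := fx1 h3 (by
    rw [← g1_eq]
    refine ⟨mem_centralizer_singleton_iff.mp (ev cc _).2, h2.2.imp (fun e => α.injective ?_)
      fun e => α.injective ?_⟩ <;> simpa [ha] using e)
  refine (ne_of (u := [1, 2, 3, 4, 5] ++ [1]) (v := 1 :: [1, 2, 3, 4, 5]) (by decide +kernel) ?_).elim
  rw [ev_append, ev_single, ev_cons sq 1 [1, 2, 3, 4, 5]]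
  rcases h4 with e | e <;> rw [MulAut.inv_apply, MulEquiv.symm_apply_eq] at e
  · rw [map_one, conj_eq_one_iff] at e
    rw [e, one_mul, mul_one]
  · rw [ha, mul_inv_eq_iff_eq_mul, ← hm0, mul_right_inj] at e
    rw [e]; exact (es.central _ q_mem).eq

theorem card_out : Nat.card (Out G) = 1 := by
  refine Leech.card_out_one fun α => (QuotientGroup.eq_one_iff _).mpr ?_
  obtain ⟨S, h1, h2⟩ := syl
  obtain ⟨g, hg⟩ := MulAction.exists_smul_eq G
    (S.mapSurjective (f := α.toMonoidHom) α.surjective) S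
  have h3 : ∀ u, u ∈ S ↔ ∃ v ∈ S, (MulAut.conj g * α) v = u := fun u => by
    nth_rewrite 1 [← hg]
    exact ⟨fun ⟨_, ⟨v, hv, e⟩, e'⟩ => ⟨v, hv, e' ▸ e ▸ rfl⟩, fun ⟨v, hv, e⟩ => ⟨_, ⟨v, hv, rfl⟩, e⟩⟩
  refine inn_of g (out2 (((h2 _ ((h3 _).mpr ⟨_, h1, rfl⟩)).2 fun u hu => ?_).resolve_left fun c =>
    es.ne ((MulAut.conj g * α).map_eq_one_iff.mp c)))
  obtain ⟨v, hv, rfl⟩ := (h3 u).mp hu
  rw [← map_mul, (h2 v hv).1, map_mul]

end Cfsg.Agent.DCE.Th
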