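import Cfsg.Agent.DCE.Th.RD

set_option autoImplicit false
set_option maxRecDepth 100000
set_option Elab.async false

namespace Cfsg.Agent.DCE.Th
open Cfsg.Agent.Comp Cfsg.Agent.DCE

def l4_4_0 : List (Nat × Nat × Nat) :=
  [(nat_lit 2184, nat_lit 3, nat_lit 4), (nat_lit 1807, nat_lit 9, nat_lit 4), (nat_lit 960, nat_lit 11, nat_lit 4), (nat_lit 151, nat_lit 13, nat_lit 4), (nat_lit 1716, nat_lit 17, nat_lit 4), (nat_lit 257, nat_lit 18, nat_lit 4), (nat_lit 182, nat_lit 19, nat_lit 4), (nat_lit 164, nat_lit 21, nat_lit 4), (nat_lit 154, nat_lit 24, nat_lit 4), (nat_lit 1532, nat_lit 25, nat_lit 4), (nat_lit 170, nat_lit 26, nat_lit 4), (nat_lit 1256, nat_lit 33, nat_lit 4), (nat_lit 658, nat_lit 39, nat_lit 4), (nat_lit 178, nat_lit 42, nat_lit 4), (nat_lit 1754, nat_lit 44, nat_lit 4), (nat_lit 150, nat_lit 45, nat_lit 4), (nat_lit 1744, nat_lit 46, nat_lit 4), (nat_lit 168, nat_lit 47, nat_lit 4), (nat_lit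 306, nat_lit 52, nat_lit 4), (nat_lit 2068, nat_lit 54, nat_lit 4), (nat_lit 254, nat_lit 56, nat_lit 4), (nat_lit 144, nat_lit 59, nat_lit 4), (nat_lit 1798, nat_lit 61, nat_lit 4), (nat_lit 273, nat_lit 74, nat_lit 4), (nat_lit 1308, nat_lit 75, nat_lit 4), (nat_lit 2409, nat_lit 78, nat_lit 4), (nat_lit 1614, nat_lit 94, nat_lit 4), (nat_lit 158, nat_lit 98, nat_lit 4), (nat_lit 654, nat_lit 101, nat_lit 4), (nat_lit 255, nat_lit 102, nat_lit 4), (nat_lit 605, nat_lit 104, nat_lit 4), (nat_lit 1458, nat_lit 114, nat_lit 4), (nat_lit 1974, nat_lit 115, nat_lit 4), (nat_lit 1112, nat_lit 122, nat_lit 4), (nat_lit 427, nat_lit 124, nat_lit 4), (nat_lit 2189, nat_lit 128, nat_lit 4), (nat_lit 523, nat_lit 131, nat_lit 4), (nat_lit 1875, nat_lit 137, nat_lit 4), (nat_lit 2271, nat_lit 146, nat_lit 4), (nat_lit 1099, nat_lit 156, nat_lit 4), (nat_lit 1549, nat_lit 161, nat_lit 4), (nat_lit 2153, nat_lit 163,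 nat_lit 4), (nat_lit 1982, nat_lit 166, nat_lit 4), (nat_lit 1992, nat_lit 178, nat_lit 4), (nat_lit 1009, nat_lit 182, nat_lit 4), (nat_lit 817, nat_lit 191, nat_lit 4), (nat_lit 672, nat_lit 195, nat_lit 4), (nat_lit 1356, nat_lit 220, nat_lit 4), (nat_lit 2442, nat_lit 226, nat_lit 4), (nat_lit 1786, nat_lit 242, nat_lit 4), (nat_lit 618, nat_lit 260, nat_lit 4), (nat_lit 2109, nat_lit 263, nat_lit 4), (nat_lit 2206, nat_lit 264, nat_lit 4), (nat_lit 2146, nat_lit 265, nat_lit 4), (nat_lit 1806, nat_lit 266, nat_lit 4), (nat_lit 664, nat_lit 268, nat_lit 4), (nat_lit 2350, nat_lit 273, nat_lit 4), (nat_lit 1418, nat_lit 278, nat_lit 4), (nat_lit 2228, nat_lit 283, nat_lit 4), (nat_lit 1903, nat_lit 288, nat_lit 4), (nat_lit 174, nat_lit 297, nat_lit 4), (nat_lit 1941, nat_lit 304, nat_lit 4), (nat_lit 167, nat_lit 308, nat_lit 4), (nat_lit 2004, nat_lit 309, nat_lit 4), (nat_lit 1150, nat_lit 312, nat_lit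 4), (nat_lit 1980, nat_lit 323, nat_lit 4), (nat_lit 369, nat_lit 332, nat_lit 4), (nat_lit 156, nat_lit 339, nat_lit 4), (nat_lit 149, nat_lit 342, nat_lit 4), (nat_lit 187, nat_lit 345, nat_lit 4), (nat_lit 180, nat_lit 346, nat_lit 4), (nat_lit 152, nat_lit 347, nat_lit 4), (nat_lit 582, nat_lit 359, nat_lit 4), (nat_lit 601, nat_lit 360, nat_lit 4), (nat_lit 1156, nat_lit 363, nat_lit 4), (nat_lit 1970, nat_lit 368, nat_lit 4), (nat_lit 1098, nat_lit 379, nat_lit 4), (nat_lit 2215, nat_lit 386, nat_lit 4), (nat_lit 1654, nat_lit 389, nat_lit 4), (nat_lit 1923, nat_lit 393, nat_lit 4), (nat_lit 145, nat_lit 399, nat_lit 4), (nat_lit 176, nat_lit 401, nat_lit 4), (nat_lit 166, nat_lit 402, nat_lit 4), (nat_lit 183, nat_lit 403, nat_lit 4), (nat_lit 1639, nat_lit 406, nat_lit 4), (nat_lit 2096, nat_lit 409, nat_lit 4), (nat_lit 1588, nat_lit 418, nat_lit 4), (nat_lit 2012, nat_lit 427, nat_lit 4), (nat_lit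 592, nat_lit 428, nat_lit 4), (nat_lit 190, nat_lit 433, nat_lit 4), (nat_lit 148, nat_lit 436, nat_lit 4), (nat_lit 2440, nat_lit 438, nat_lit 4), (nat_lit 586, nat_lit 454, nat_lit 4), (nat_lit 1516, nat_lit 459, nat_lit 4), (nat_lit 1481, nat_lit 461, nat_lit 4), (nat_lit 1918, nat_lit 469, nat_lit 4), (nat_lit 2103, nat_lit 484, nat_lit 4), (nat_lit 1636, nat_lit 487, nat_lit 4), (nat_lit 1391, nat_lit 501, nat_lit 4), (nat_lit 610, nat_lit 503, nat_lit 4), (nat_lit 805, nat_lit 516, nat_lit 4), (nat_lit 480, nat_lit 521, nat_lit 4), (nat_lit 1983, nat_lit 535, nat_lit 4), (nat_lit 782, nat_lit 540, nat_lit 4), (nat_lit 1498, nat_lit 541, nat_lit 4), (nat_lit 1190, nat_lit 543, nat_lit 4), (nat_lit 282, nat_lit 546, nat_lit 4), (nat_lit 2010, nat_lit 569, nat_lit 4), (nat_lit 1021, nat_lit 571, nat_lit 4), (nat_lit 760, nat_lit 572, nat_lit 4), (nat_lit 539, nat_lit 573, nat_lit 4), (nat_lit 1381, nat_lit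 576, nat_lit 4), (nat_lit 2446, nat_lit 590, nat_lit 4), (nat_lit 1750, nat_lit 595, nat_lit 4), (nat_lit 162, nat_lit 598, nat_lit 4), (nat_lit 163, nat_lit 608, nat_lit 4), (nat_lit 1104, nat_lit 616, nat_lit 4), (nat_lit 1327, nat_lit 623, nat_lit 4), (nat_lit 252, nat_lit 637, nat_lit 4), (nat_lit 2400, nat_lit 639, nat_lit 4), (nat_lit 153, nat_lit 640, nat_lit 4), (nat_lit 1796, nat_lit 649, nat_lit 4), (nat_lit 1162, nat_lit 650, nat_lit 4), (nat_lit 1090, nat_lit 652, nat_lit 4), (nat_lit 600, nat_lit 663, nat_lit 4), (nat_lit 662, nat_lit 672, nat_lit 4), (nat_lit 617, nat_lit 673, nat_lit 4), (nat_lit 853, nat_lit 676, nat_lit 4), (nat_lit 333, nat_lit 679, nat_lit 4), (nat_lit 606, nat_lit 684, nat_lit 4), (nat_lit 1608, nat_lit 698, nat_lit 4), (nat_lit 1635, nat_lit 700, nat_lit 4), (nat_lit 1147, nat_lit 705, nat_lit 4), (nat_lit 172, nat_lit 711, nat_lit 4), (nat_lit 584, nat_lit 712, nat_lit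 4), (nat_lit 1760, nat_lit 735, nat_lit 4), (nat_lit 258, nat_lit 742, nat_lit 4), (nat_lit 155, nat_lit 745, nat_lit 4), (nat_lit 1732, nat_lit 746, nat_lit 4), (nat_lit 146, nat_lit 747, nat_lit 4), (nat_lit 2194, nat_lit 753, nat_lit 4), (nat_lit 574, nat_lit 764, nat_lit 4), (nat_lit 917, nat_lit 775, nat_lit 4), (nat_lit 1496, nat_lit 776, nat_lit 4), (nat_lit 1289, nat_lit 782, nat_lit 4), (nat_lit 773, nat_lit 787, nat_lit 4), (nat_lit 614, nat_lit 789, nat_lit 4), (nat_lit 1792, nat_lit 793, nat_lit 4), (nat_lit 192, nat_lit 798, nat_lit 4), (nat_lit 189, nat_lit 802, nat_lit 4), (nat_lit 2078, nat_lit 806, nat_lit 4), (nat_lit 1739, nat_lit 809, nat_lit 4), (nat_lit 1158, nat_lit 811, nat_lit 4), (nat_lit 2238, nat_lit 813, nat_lit 4), (nat_lit 184, nat_lit 829, nat_lit 4), (nat_lit 2159, nat_lit 830, nat_lit 4), (nat_lit 1521, nat_lit 834, nat_lit 4), (nat_lit 598, nat_lit 839, nat_lit 4), (nat_lit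 160, nat_lit 840, nat_lit 4), (nat_lit 2380, nat_lit 841, nat_lit 4), (nat_lit 2019, nat_lit 844, nat_lit 4), (nat_lit 194, nat_lit 852, nat_lit 4), (nat_lit 159, nat_lit 853, nat_lit 4), (nat_lit 2115, nat_lit 856, nat_lit 4), (nat_lit 2158, nat_lit 865, nat_lit 4), (nat_lit 608, nat_lit 869, nat_lit 4), (nat_lit 2379, nat_lit 883, nat_lit 4), (nat_lit 690, nat_lit 891, nat_lit 4), (nat_lit 1705, nat_lit 892, nat_lit 4), (nat_lit 260, nat_lit 902, nat_lit 4), (nat_lit 179, nat_lit 912, nat_lit 4), (nat_lit 971, nat_lit 916, nat_lit 4), (nat_lit 195, nat_lit 918, nat_lit 4), (nat_lit 171, nat_lit 920, nat_lit 4), (nat_lit 2356, nat_lit 922, nat_lit 4), (nat_lit 1714, nat_lit 927, nat_lit 4), (nat_lit 2328, nat_lit 937, nat_lit 4), (nat_lit 906, nat_lit 945, nat_lit 4), (nat_lit 1895, nat_lit 953, nat_lit 4), (nat_lit 188, nat_lit 955, nat_lit 4), (nat_lit 1820, nat_lit 966, nat_lit 4), (nat_lit 1830, nat_lit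 967, nat_lit 4), (nat_lit 2418, nat_lit 968, nat_lit 4), (nat_lit 175, nat_lit 987, nat_lit 4), (nat_lit 628, nat_lit 988, nat_lit 4), (nat_lit 2136, nat_lit 993, nat_lit 4), (nat_lit 334, nat_lit 994, nat_lit 4), (nat_lit 1448, nat_lit 1003, nat_lit 4), (nat_lit 2310, nat_lit 1005, nat_lit 4), (nat_lit 1752, nat_lit 1007, nat_lit 4), (nat_lit 1677, nat_lit 1012, nat_lit 4), (nat_lit 1079, nat_lit 1013, nat_lit 4), (nat_lit 1572, nat_lit 1025, nat_lit 4), (nat_lit 1657, nat_lit 1028, nat_lit 4), (nat_lit 346, nat_lit 1031, nat_lit 4), (nat_lit 2098, nat_lit 1032, nat_lit 4), (nat_lit 1683, nat_lit 1036, nat_lit 4), (nat_lit 818, nat_lit 1037, nat_lit 4), (nat_lit 616, nat_lit 1049, nat_lit 4), (nat_lit 892, nat_lit 1060, nat_lit 4), (nat_lit 1355, nat_lit 1063, nat_lit 4), (nat_lit 1888, nat_lit 1069, nat_lit 4), (nat_lit 2008, nat_lit 1074, nat_lit 4), (nat_lit 2314, nat_lit 1075, nat_lit 4), (nat_lit 1742,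 nat_lit 1078, nat_lit 4), (nat_lit 173, nat_lit 1079, nat_lit 4), (nat_lit 1984, nat_lit 1084, nat_lit 4), (nat_lit 1225, nat_lit 1092, nat_lit 4), (nat_lit 927, nat_lit 1102, nat_lit 4), (nat_lit 2233, nat_lit 1113, nat_lit 4), (nat_lit 2256, nat_lit 1115, nat_lit 4), (nat_lit 681, nat_lit 1124, nat_lit 4), (nat_lit 1341, nat_lit 1130, nat_lit 4), (nat_lit 675, nat_lit 1135, nat_lit 4), (nat_lit 2095, nat_lit 1142, nat_lit 4), (nat_lit 1673, nat_lit 1143, nat_lit 4), (nat_lit 337, nat_lit 1145, nat_lit 4), (nat_lit 915, nat_lit 1148, nat_lit 4), (nat_lit 446, nat_lit 1150, nat_lit 4), (nat_lit 779, nat_lit 1156, nat_lit 4), (nat_lit 680, nat_lit 1157, nat_lit 4), (nat_lit 2307, nat_lit 1158, nat_lit 4)]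

theorem nb4_4_0 : NbL io phi2 (s 14) w (w 4) (l4_4_0.map Prod.snd) :=
  nbl_of env2 facts rep2 (by norm_num) (by decide +kernel)

def l4_4_1 : List (Nat × Nat × Nat) :=
  [(nat_lit 959, nat_lit 1160, nat_lit 4), (nat_lit 1658, nat_lit 1162, nat_lit 4), (nat_lit 2092, nat_lit 1173, nat_lit 4), (nat_lit 2349, nat_lit 1182, nat_lit 4), (nat_lit 1814, nat_lit 1186, nat_lit 4), (nat_lit 836, nat_lit 1188, nat_lit 4), (nat_lit 1969, nat_lit 1197, nat_lit 4), (nat_lit 1555, nat_lit 1202, nat_lit 4), (nat_lit 1719, nat_lit 1204, nat_lit 4), (nat_lit 1203, nat_lit 1212, nat_lit 4), (nat_lit 1799, nat_lit 1216, nat_lit 4), (nat_lit 901, nat_lit 1219, nat_lit 4), (nat_lit 226, nat_lit 1235, nat_lit 4), (nat_lit 1485, nat_lit 1239, nat_lit 4), (nat_lit 1812, nat_lit 1240, nat_lit 4), (nat_lit 242, nat_lit 1252, nat_lit 4), (nat_lit 1595, nat_lit 1265, nat_lit 4), (nat_lit 1415, nat_lit 1273, nat_lit 4), (nat_lit 2047,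 nat_lit 1274, nat_lit 4), (nat_lit 1883, nat_lit 1282, nat_lit 4), (nat_lit 2192, nat_lit 1285, nat_lit 4), (nat_lit 590, nat_lit 1293, nat_lit 4), (nat_lit 1665, nat_lit 1307, nat_lit 4), (nat_lit 2209, nat_lit 1319, nat_lit 4), (nat_lit 1239, nat_lit 1326, nat_lit 4), (nat_lit 2320, nat_lit 1331, nat_lit 4), (nat_lit 2030, nat_lit 1339, nat_lit 4), (nat_lit 1592, nat_lit 1350, nat_lit 4), (nat_lit 210, nat_lit 1354, nat_lit 4), (nat_lit 1774, nat_lit 1363, nat_lit 4), (nat_lit 1942, nat_lit 1366, nat_lit 4), (nat_lit 679, nat_lit 1368, nat_lit 4), (nat_lit 2026, nat_lit 1379, nat_lit 4), (nat_lit 785, nat_lit 1383, nat_lit 4), (nat_lit 363, nat_lit 1388, nat_lit 4), (nat_lit 1110, nat_lit 1392, nat_lit 4), (nat_lit 2005, nat_lit 1393, nat_lit 4), (nat_lit 227, nat_lit 1411, nat_lit 4), (nat_lit 1232, nat_lit 1413, nat_lit 4), (nat_lit 1627, nat_lit 1415, nat_lit 4), (nat_lit 2121, nat_lit 1416, nat_lit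 4), (nat_lit 509, nat_lit 1428, nat_lit 4), (nat_lit 433, nat_lit 1433, nat_lit 4), (nat_lit 2059, nat_lit 1441, nat_lit 4), (nat_lit 1243, nat_lit 1444, nat_lit 4), (nat_lit 580, nat_lit 1447, nat_lit 4), (nat_lit 403, nat_lit 1453, nat_lit 4), (nat_lit 896, nat_lit 1455, nat_lit 4), (nat_lit 1953, nat_lit 1459, nat_lit 4), (nat_lit 1651, nat_lit 1466, nat_lit 4), (nat_lit 2043, nat_lit 1481, nat_lit 4), (nat_lit 1245, nat_lit 1488, nat_lit 4), (nat_lit 2383, nat_lit 1490, nat_lit 4), (nat_lit 562, nat_lit 1493, nat_lit 4), (nat_lit 1769, nat_lit 1495, nat_lit 4), (nat_lit 2294, nat_lit 1497, nat_lit 4), (nat_lit 2330, nat_lit 1504, nat_lit 4), (nat_lit 2183, nat_lit 1513, nat_lit 4), (nat_lit 2100, nat_lit 1515, nat_lit 4), (nat_lit 1501, nat_lit 1516, nat_lit 4), (nat_lit 1724, nat_lit 1523, nat_lit 4), (nat_lit 245, nat_lit 1524, nat_lit 4), (nat_lit 860, nat_lit 1532, nat_lit 4), (nat_lit 214, nat_lit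 1538, nat_lit 4), (nat_lit 2119, nat_lit 1542, nat_lit 4), (nat_lit 2448, nat_lit 1552, nat_lit 4), (nat_lit 1594, nat_lit 1573, nat_lit 4), (nat_lit 826, nat_lit 1577, nat_lit 4), (nat_lit 1813, nat_lit 1580, nat_lit 4), (nat_lit 1661, nat_lit 1583, nat_lit 4), (nat_lit 411, nat_lit 1586, nat_lit 4), (nat_lit 578, nat_lit 1592, nat_lit 4), (nat_lit 185, nat_lit 1593, nat_lit 4), (nat_lit 1694, nat_lit 1595, nat_lit 4), (nat_lit 1767, nat_lit 1604, nat_lit 4), (nat_lit 308, nat_lit 1613, nat_lit 4), (nat_lit 824, nat_lit 1623, nat_lit 4), (nat_lit 1731, nat_lit 1624, nat_lit 4), (nat_lit 1663, nat_lit 1626, nat_lit 4), (nat_lit 819, nat_lit 1627, nat_lit 4), (nat_lit 1210, nat_lit 1638, nat_lit 4), (nat_lit 863, nat_lit 1646, nat_lit 4), (nat_lit 1943, nat_lit 1652, nat_lit 4), (nat_lit 1993, nat_lit 1655, nat_lit 4), (nat_lit 488, nat_lit 1675, nat_lit 4), (nat_lit 1175, nat_lit 1676, nat_lit 4), (nat_lit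 1609, nat_lit 1680, nat_lit 4), (nat_lit 2422, nat_lit 1691, nat_lit 4), (nat_lit 2094, nat_lit 1695, nat_lit 4), (nat_lit 256, nat_lit 1710, nat_lit 4), (nat_lit 1952, nat_lit 1712, nat_lit 4), (nat_lit 1975, nat_lit 1714, nat_lit 4), (nat_lit 1976, nat_lit 1719, nat_lit 4), (nat_lit 1584, nat_lit 1723, nat_lit 4), (nat_lit 2154, nat_lit 1730, nat_lit 4), (nat_lit 2176, nat_lit 1733, nat_lit 4), (nat_lit 1475, nat_lit 1741, nat_lit 4), (nat_lit 1751, nat_lit 1768, nat_lit 4), (nat_lit 2205, nat_lit 1773, nat_lit 4), (nat_lit 186, nat_lit 1788, nat_lit 4), (nat_lit 588, nat_lit 1790, nat_lit 4), (nat_lit 1764, nat_lit 1791, nat_lit 4), (nat_lit 543, nat_lit 1794, nat_lit 4), (nat_lit 1587, nat_lit 1801, nat_lit 4), (nat_lit 2376, nat_lit 1804, nat_lit 4), (nat_lit 147, nat_lit 1822, nat_lit 4), (nat_lit 1405, nat_lit 1826, nat_lit 4), (nat_lit 2263, nat_lit 1848, nat_lit 4), (nat_lit 1421, nat_lit 1855,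 nat_lit 4), (nat_lit 2323, nat_lit 1858, nat_lit 4), (nat_lit 875, nat_lit 1862, nat_lit 4), (nat_lit 1913, nat_lit 1864, nat_lit 4), (nat_lit 1827, nat_lit 1882, nat_lit 4), (nat_lit 2020, nat_lit 1887, nat_lit 4), (nat_lit 838, nat_lit 1900, nat_lit 4), (nat_lit 297, nat_lit 1902, nat_lit 4), (nat_lit 2398, nat_lit 1906, nat_lit 4), (nat_lit 1015, nat_lit 1909, nat_lit 4), (nat_lit 485, nat_lit 1918, nat_lit 4), (nat_lit 1384, nat_lit 1919, nat_lit 4), (nat_lit 1253, nat_lit 1932, nat_lit 4), (nat_lit 521, nat_lit 1935, nat_lit 4), (nat_lit 1143, nat_lit 1938, nat_lit 4), (nat_lit 2003, nat_lit 1942, nat_lit 4), (nat_lit 621, nat_lit 1947, nat_lit 4), (nat_lit 604, nat_lit 1949, nat_lit 4), (nat_lit 2093, nat_lit 1953, nat_lit 4), (nat_lit 2338, nat_lit 1958, nat_lit 4), (nat_lit 2067, nat_lit 1964, nat_lit 4), (nat_lit 1102, nat_lit 1967, nat_lit 4), (nat_lit 1346, nat_lit 1979, nat_lit 4), (nat_lit 984,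 nat_lit 1980, nat_lit 4), (nat_lit 1958, nat_lit 1993, nat_lit 4), (nat_lit 491, nat_lit 2002, nat_lit 4), (nat_lit 1565, nat_lit 2040, nat_lit 4), (nat_lit 1154, nat_lit 2047, nat_lit 4), (nat_lit 1613, nat_lit 2053, nat_lit 4), (nat_lit 2347, nat_lit 2062, nat_lit 4), (nat_lit 1504, nat_lit 2064, nat_lit 4), (nat_lit 1872, nat_lit 2066, nat_lit 4), (nat_lit 1414, nat_lit 2070, nat_lit 4), (nat_lit 1218, nat_lit 2077, nat_lit 4), (nat_lit 1794, nat_lit 2085, nat_lit 4), (nat_lit 913, nat_lit 2095, nat_lit 4), (nat_lit 1994, nat_lit 2102, nat_lit 4), (nat_lit 1398, nat_lit 2106, nat_lit 4), (nat_lit 366, nat_lit 2110, nat_lit 4), (nat_lit 2009, nat_lit 2111, nat_lit 4), (nat_lit 1713, nat_lit 2113, nat_lit 4), (nat_lit 1840, nat_lit 2117, nat_lit 4), (nat_lit 1513, nat_lit 2122, nat_lit 4), (nat_lit 1332, nat_lit 2126, nat_lit 4), (nat_lit 1790, nat_lit 2128, nat_lit 4), (nat_lit 1320, nat_lit 2131, nat_lit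 4), (nat_lit 1682, nat_lit 2133, nat_lit 4), (nat_lit 1583, nat_lit 2138, nat_lit 4), (nat_lit 2426, nat_lit 2148, nat_lit 4), (nat_lit 2372, nat_lit 2151, nat_lit 4), (nat_lit 1728, nat_lit 2154, nat_lit 4), (nat_lit 796, nat_lit 2162, nat_lit 4), (nat_lit 1230, nat_lit 2172, nat_lit 4), (nat_lit 447, nat_lit 2175, nat_lit 4), (nat_lit 781, nat_lit 2180, nat_lit 4), (nat_lit 1084, nat_lit 2186, nat_lit 4), (nat_lit 1139, nat_lit 2188, nat_lit 4), (nat_lit 1164, nat_lit 2194, nat_lit 4), (nat_lit 1686, nat_lit 2196, nat_lit 4), (nat_lit 2013, nat_lit 2201, nat_lit 4), (nat_lit 1688, nat_lit 2215, nat_lit 4), (nat_lit 328, nat_lit 2216, nat_lit 4), (nat_lit 1227, nat_lit 2229, nat_lit 4), (nat_lit 637, nat_lit 2234, nat_lit 4), (nat_lit 1453, nat_lit 2244, nat_lit 4), (nat_lit 1576, nat_lit 2248, nat_lit 4), (nat_lit 2156, nat_lit 2251, nat_lit 4), (nat_lit 2260, nat_lit 2254, nat_lit 4), (nat_lit 830, nat_lit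 2260, nat_lit 4), (nat_lit 1454, nat_lit 2263, nat_lit 4), (nat_lit 1616, nat_lit 2264, nat_lit 4)]

theorem nb4_4_1 : NbL io phi2 (s 14) w (w 4) (l4_4_1.map Prod.snd) :=
  nbl_of env2 facts rep2 (by norm_num) (by decide +kernel)

def l4_4_2 : List (Nat × Nat × Nat) :=
  [(nat_lit 350, nat_lit 2278, nat_lit 4), (nat_lit 1265, nat_lit 2284, nat_lit 4), (nat_lit 898, nat_lit 2285, nat_lit 4), (nat_lit 1285, nat_lit 2293, nat_lit 4), (nat_lit 1247, nat_lit 2294, nat_lit 4), (nat_lit 566, nat_lit 2304, nat_lit 4), (nat_lit 1580, nat_lit 2317, nat_lit 4), (nat_lit 1602, nat_lit 2324, nat_lit 4), (nat_lit 1802, nat_lit 2326, nat_lit 4), (nat_lit 1624, nat_lit 2330, nat_lit 4), (nat_lit 402, nat_lit 2348, nat_lit 4), (nat_lit 1981, nat_lit 2350, nat_lit 4), (nat_lit 1543, nat_lit 2353, nat_lit 4), (nat_lit 2149, nat_lit 2356, nat_lit 4), (nat_lit 1848, nat_lit 2366, nat_lit 4), (nat_lit 2208, nat_lit 2371, nat_lit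 4), (nat_lit 2261, nat_lit 2376, nat_lit 4), (nat_lit 1310, nat_lit 2381, nat_lit 4), (nat_lit 2370, nat_lit 2382, nat_lit 4), (nat_lit 609, nat_lit 2385, nat_lit 4), (nat_lit 2088, nat_lit 2392, nat_lit 4), (nat_lit 2247, nat_lit 2416, nat_lit 4), (nat_lit 1075, nat_lit 2428, nat_lit 4), (nat_lit 861, nat_lit 2436, nat_lit 4), (nat_lit 2033, nat_lit 2442, nat_lit 4), (nat_lit 2435, nat_lit 2449, nat_lit 4), (nat_lit 560, nat_lit 2450, nat_lit 4), (nat_lit 963, nat_lit 2454, nat_lit 4), (nat_lit 1029, nat_lit 2456, nat_lit 4), (nat_lit 1301, nat_lit 2460, nat_lit 4), (nat_lit 349, nat_lit 2464, nat_lit 4), (nat_lit 2086, nat_lit 2472, nat_lit 4), (nat_lit 1142, nat_lit 2476, nat_lit 4), (nat_lit 422, nat_lit 2481, nat_lit 4), (nat_lit 1972, nat_lit 2488, nat_lit 4), (nat_lit 1005, nat_lit 2506, nat_lit 4), (nat_lit 2160, nat_lit 2520, nat_lit 4), (nat_lit 1116, nat_lit 2524, nat_lit 4), (nat_lit 1783, nat_lit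 2539, nat_lit 4), (nat_lit 1048, nat_lit 2540, nat_lit 4), (nat_lit 2240, nat_lit 2546, nat_lit 4), (nat_lit 1357, nat_lit 2550, nat_lit 4), (nat_lit 2218, nat_lit 2567, nat_lit 4), (nat_lit 542, nat_lit 2577, nat_lit 4), (nat_lit 2036, nat_lit 2583, nat_lit 4), (nat_lit 986, nat_lit 2585, nat_lit 4), (nat_lit 1749, nat_lit 2586, nat_lit 4), (nat_lit 533, nat_lit 2602, nat_lit 4), (nat_lit 1656, nat_lit 2618, nat_lit 4), (nat_lit 1956, nat_lit 2628, nat_lit 4), (nat_lit 1667, nat_lit 2634, nat_lit 4), (nat_lit 2289, nat_lit 2641, nat_lit 4), (nat_lit 412, nat_lit 2644, nat_lit 4), (nat_lit 1219, nat_lit 2647, nat_lit 4), (nat_lit 505, nat_lit 2652, nat_lit 4), (nat_lit 1832, nat_lit 2658, nat_lit 4), (nat_lit 768, nat_lit 2664, nat_lit 4), (nat_lit 1091, nat_lit 2666, nat_lit 4), (nat_lit 2416, nat_lit 2670, nat_lit 4), (nat_lit 1925, nat_lit 2672, nat_lit 4), (nat_lit 1077, nat_lit 2674, nat_lit 4), (nat_lit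 784, nat_lit 2719, nat_lit 4), (nat_lit 647, nat_lit 2725, nat_lit 4), (nat_lit 475, nat_lit 2726, nat_lit 4), (nat_lit 471, nat_lit 2731, nat_lit 4), (nat_lit 804, nat_lit 2744, nat_lit 4), (nat_lit 2430, nat_lit 2748, nat_lit 4), (nat_lit 1999, nat_lit 2753, nat_lit 4), (nat_lit 276, nat_lit 2754, nat_lit 4), (nat_lit 1720, nat_lit 2757, nat_lit 4), (nat_lit 602, nat_lit 2758, nat_lit 4), (nat_lit 2270, nat_lit 2762, nat_lit 4), (nat_lit 2182, nat_lit 2767, nat_lit 4), (nat_lit 1003, nat_lit 2776, nat_lit 4), (nat_lit 788, nat_lit 2783, nat_lit 4), (nat_lit 2460, nat_lit 2788, nat_lit 4), (nat_lit 942, nat_lit 2795, nat_lit 4), (nat_lit 1660, nat_lit 2803, nat_lit 4), (nat_lit 1155, nat_lit 2821, nat_lit 4), (nat_lit 800, nat_lit 2825, nat_lit 4), (nat_lit 1290, nat_lit 2827, nat_lit 4), (nat_lit 2385, nat_lit 2839, nat_lit 4), (nat_lit 926, nat_lit 2846, nat_lit 4), (nat_lit 910, nat_lit 2857, nat_lit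 4), (nat_lit 1318, nat_lit 2867, nat_lit 4), (nat_lit 2286, nat_lit 2871, nat_lit 4), (nat_lit 2434, nat_lit 2881, nat_lit 4), (nat_lit 780, nat_lit 2897, nat_lit 4), (nat_lit 1207, nat_lit 2901, nat_lit 4), (nat_lit 470, nat_lit 2906, nat_lit 4), (nat_lit 2410, nat_lit 2920, nat_lit 4), (nat_lit 2085, nat_lit 2925, nat_lit 4), (nat_lit 2172, nat_lit 2939, nat_lit 4), (nat_lit 511, nat_lit 2948, nat_lit 4), (nat_lit 2267, nat_lit 2950, nat_lit 4), (nat_lit 1279, nat_lit 2951, nat_lit 4), (nat_lit 1446, nat_lit 2953, nat_lit 4), (nat_lit 573, nat_lit 2956, nat_lit 4), (nat_lit 409, nat_lit 2958, nat_lit 4), (nat_lit 1960, nat_lit 2965, nat_lit 4), (nat_lit 1648, nat_lit 2968, nat_lit 4), (nat_lit 1860, nat_lit 2988, nat_lit 4), (nat_lit 997, nat_lit 2989, nat_lit 4), (nat_lit 1103, nat_lit 2994, nat_lit 4), (nat_lit 1800, nat_lit 2999, nat_lit 4), (nat_lit 2133, nat_lit 3005, nat_lit 4), (nat_lit 2277, nat_lit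 3011, nat_lit 4), (nat_lit 837, nat_lit 3014, nat_lit 4), (nat_lit 842, nat_lit 3015, nat_lit 4), (nat_lit 1041, nat_lit 3018, nat_lit 4), (nat_lit 1221, nat_lit 3019, nat_lit 4), (nat_lit 1314, nat_lit 3021, nat_lit 4), (nat_lit 2050, nat_lit 3026, nat_lit 4), (nat_lit 2174, nat_lit 3034, nat_lit 4), (nat_lit 1512, nat_lit 3036, nat_lit 4), (nat_lit 2269, nat_lit 3040, nat_lit 4), (nat_lit 453, nat_lit 3048, nat_lit 4), (nat_lit 1617, nat_lit 3055, nat_lit 4), (nat_lit 807, nat_lit 3066, nat_lit 4), (nat_lit 1643, nat_lit 3071, nat_lit 4), (nat_lit 474, nat_lit 3086, nat_lit 4), (nat_lit 1881, nat_lit 3093, nat_lit 4), (nat_lit 2091, nat_lit 3108, nat_lit 4), (nat_lit 392, nat_lit 3119, nat_lit 4), (nat_lit 348, nat_lit 3136, nat_lit 4), (nat_lit 1710, nat_lit 3143, nat_lit 4), (nat_lit 2229, nat_lit 3154, nat_lit 4), (nat_lit 673, nat_lit 3157, nat_lit 4), (nat_lit 2450, nat_lit 3158, nat_lit 4), (nat_lit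 2164, nat_lit 3169, nat_lit 4), (nat_lit 1771, nat_lit 3173, nat_lit 4), (nat_lit 1126, nat_lit 3176, nat_lit 4), (nat_lit 536, nat_lit 3177, nat_lit 4), (nat_lit 2322, nat_lit 3190, nat_lit 4), (nat_lit 2058, nat_lit 3193, nat_lit 4), (nat_lit 1788, nat_lit 3195, nat_lit 4), (nat_lit 2062, nat_lit 3211, nat_lit 4), (nat_lit 2248, nat_lit 3213, nat_lit 4), (nat_lit 2071, nat_lit 3215, nat_lit 4), (nat_lit 2171, nat_lit 3223, nat_lit 4), (nat_lit 1692, nat_lit 3239, nat_lit 4), (nat_lit 1226, nat_lit 3241, nat_lit 4), (nat_lit 809, nat_lit 3255, nat_lit 4), (nat_lit 1838, nat_lit 3270, nat_lit 4), (nat_lit 1436, nat_lit 3272, nat_lit 4), (nat_lit 1206, nat_lit 3275, nat_lit 4), (nat_lit 639, nat_lit 3278, nat_lit 4), (nat_lit 267, nat_lit 3285, nat_lit 4), (nat_lit 1680, nat_lit 3298, nat_lit 4), (nat_lit 2045, nat_lit 3301, nat_lit 4), (nat_lit 503, nat_lit 3303, nat_lit 4), (nat_lit 2079, nat_lit 3308,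 nat_lit 4), (nat_lit 2227, nat_lit 3324, nat_lit 4), (nat_lit 929, nat_lit 3369, nat_lit 4), (nat_lit 644, nat_lit 3370, nat_lit 4), (nat_lit 2196, nat_lit 3372, nat_lit 4), (nat_lit 2217, nat_lit 3374, nat_lit 4), (nat_lit 821, nat_lit 3380, nat_lit 4), (nat_lit 220, nat_lit 3385, nat_lit 4), (nat_lit 2104, nat_lit 3392, nat_lit 4), (nat_lit 1082, nat_lit 3402, nat_lit 4), (nat_lit 1871, nat_lit 3409, nat_lit 4), (nat_lit 1817, nat_lit 3411, nat_lit 4), (nat_lit 1166, nat_lit 3418, nat_lit 4), (nat_lit 978, nat_lit 3421, nat_lit 4), (nat_lit 2276, nat_lit 3428, nat_lit 4), (nat_lit 1699, nat_lit 3432, nat_lit 4), (nat_lit 645, nat_lit 3433, nat_lit 4), (nat_lit 1040, nat_lit 3434, nat_lit 4), (nat_lit 2210, nat_lit 3444, nat_lit 4), (nat_lit 677, nat_lit 3445, nat_lit 4), (nat_lit 425, nat_lit 3452, nat_lit 4), (nat_lit 1367, nat_lit 3468, nat_lit 4), (nat_lit 1690, nat_lit 3492, nat_lit 4), (nat_lit 1698,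 nat_lit 3505, nat_lit 4), (nat_lit 1195, nat_lit 3508, nat_lit 4), (nat_lit 1854, nat_lit 3526, nat_lit 4), (nat_lit 1070, nat_lit 3532, nat_lit 4)]

theorem nb4_4_2 : NbL io phi2 (s 14) w (w 4) (l4_4_2.map Prod.snd) :=
  nbl_of env2 facts rep2 (by norm_num) (by decide +kernel)

def l4_4_3 : List (Nat × Nat × Nat) :=
  [(nat_lit 1570, nat_lit 3537, nat_lit 4), (nat_lit 1173, nat_lit 3552, nat_lit 4), (nat_lit 1684, nat_lit 3582, nat_lit 4), (nat_lit 2028, nat_lit 3591, nat_lit 4), (nat_lit 1964, nat_lit 3594, nat_lit 4), (nat_lit 1986, nat_lit 3601, nat_lit 4), (nat_lit 1189, nat_lit 3609, nat_lit 4), (nat_lit 2296, nat_lit 3614, nat_lit 4), (nat_lit 1877, nat_lit 3628, nat_lit 4), (nat_lit 825, nat_lit 3631, nat_lit 4), (nat_lit 361, nat_lit 3636, nat_lit 4), (nat_lit 2436, nat_lit 3642, nat_lit 4), (nat_lit 982, nat_lit 3643, nat_lit 4), (nat_lit 1855, nat_lit 3645, nat_lit 4), (nat_lit 1096, nat_lit 3650,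 nat_lit 4), (nat_lit 955, nat_lit 3658, nat_lit 4), (nat_lit 1672, nat_lit 3674, nat_lit 4), (nat_lit 1336, nat_lit 3676, nat_lit 4), (nat_lit 2185, nat_lit 3677, nat_lit 4), (nat_lit 1847, nat_lit 3685, nat_lit 4), (nat_lit 1353, nat_lit 3686, nat_lit 4), (nat_lit 2031, nat_lit 3692, nat_lit 4), (nat_lit 331, nat_lit 3702, nat_lit 4), (nat_lit 1511, nat_lit 3706, nat_lit 4), (nat_lit 1851, nat_lit 3707, nat_lit 4), (nat_lit 1046, nat_lit 3726, nat_lit 4), (nat_lit 389, nat_lit 3744, nat_lit 4), (nat_lit 1429, nat_lit 3755, nat_lit 4), (nat_lit 387, nat_lit 3770, nat_lit 4), (nat_lit 1130, nat_lit 3774, nat_lit 4), (nat_lit 1894, nat_lit 3781, nat_lit 4), (nat_lit 2312, nat_lit 3783, nat_lit 4), (nat_lit 1506, nat_lit 3797, nat_lit 4), (nat_lit 1862, nat_lit 3798, nat_lit 4), (nat_lit 1248, nat_lit 3808, nat_lit 4), (nat_lit 1422, nat_lit 3812, nat_lit 4), (nat_lit 1524, nat_lit 3814, nat_lit 4), (nat_lit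 2362, nat_lit 3827, nat_lit 4), (nat_lit 1906, nat_lit 3858, nat_lit 4), (nat_lit 674, nat_lit 3867, nat_lit 4), (nat_lit 884, nat_lit 3870, nat_lit 4), (nat_lit 197, nat_lit 3881, nat_lit 4), (nat_lit 2283, nat_lit 3884, nat_lit 4), (nat_lit 2295, nat_lit 3893, nat_lit 4), (nat_lit 2246, nat_lit 3899, nat_lit 4), (nat_lit 1223, nat_lit 3909, nat_lit 4), (nat_lit 1696, nat_lit 3913, nat_lit 4), (nat_lit 640, nat_lit 3923, nat_lit 4), (nat_lit 1430, nat_lit 3932, nat_lit 4), (nat_lit 2340, nat_lit 3944, nat_lit 4), (nat_lit 1535, nat_lit 3965, nat_lit 4), (nat_lit 2236, nat_lit 3968, nat_lit 4), (nat_lit 1362, nat_lit 3970, nat_lit 4), (nat_lit 665, nat_lit 3974, nat_lit 4), (nat_lit 671, nat_lit 4002, nat_lit 4), (nat_lit 2262, nat_lit 4011, nat_lit 4), (nat_lit 345, nat_lit 4026, nat_lit 4), (nat_lit 2102, nat_lit 4040, nat_lit 4), (nat_lit 1442, nat_lit 4045, nat_lit 4), (nat_lit 832, nat_lit 4046, nat_lit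 4), (nat_lit 2343, nat_lit 4064, nat_lit 4), (nat_lit 1945, nat_lit 4069, nat_lit 4), (nat_lit 2032, nat_lit 4086, nat_lit 4), (nat_lit 1951, nat_lit 4092, nat_lit 4), (nat_lit 1316, nat_lit 4095, nat_lit 4), (nat_lit 612, nat_lit 4098, nat_lit 4), (nat_lit 2259, nat_lit 4106, nat_lit 4), (nat_lit 923, nat_lit 4112, nat_lit 4), (nat_lit 1263, nat_lit 4117, nat_lit 4), (nat_lit 2090, nat_lit 4122, nat_lit 4), (nat_lit 2037, nat_lit 4128, nat_lit 4), (nat_lit 613, nat_lit 4136, nat_lit 4), (nat_lit 2457, nat_lit 4138, nat_lit 4), (nat_lit 2017, nat_lit 4142, nat_lit 4), (nat_lit 1410, nat_lit 4145, nat_lit 4), (nat_lit 426, nat_lit 4151, nat_lit 4), (nat_lit 1472, nat_lit 4159, nat_lit 4), (nat_lit 872, nat_lit 4162, nat_lit 4), (nat_lit 2018, nat_lit 4170, nat_lit 4), (nat_lit 1491, nat_lit 4184, nat_lit 4), (nat_lit 2241, nat_lit 4190, nat_lit 4), (nat_lit 1288, nat_lit 4196, nat_lit 4), (nat_lit 1839, nat_lit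 4199, nat_lit 4), (nat_lit 1238, nat_lit 4203, nat_lit 4), (nat_lit 973, nat_lit 4204, nat_lit 4), (nat_lit 851, nat_lit 4209, nat_lit 4), (nat_lit 2035, nat_lit 4211, nat_lit 4), (nat_lit 2193, nat_lit 4231, nat_lit 4), (nat_lit 1209, nat_lit 4232, nat_lit 4), (nat_lit 2051, nat_lit 4236, nat_lit 4), (nat_lit 215, nat_lit 4244, nat_lit 4), (nat_lit 2142, nat_lit 4249, nat_lit 4), (nat_lit 200, nat_lit 4255, nat_lit 4), (nat_lit 831, nat_lit 4260, nat_lit 4), (nat_lit 1921, nat_lit 4263, nat_lit 4), (nat_lit 1700, nat_lit 4264, nat_lit 4), (nat_lit 1936, nat_lit 4273, nat_lit 4), (nat_lit 1445, nat_lit 4278, nat_lit 4), (nat_lit 903, nat_lit 4317, nat_lit 4), (nat_lit 1523, nat_lit 4327, nat_lit 4), (nat_lit 2366, nat_lit 4328, nat_lit 4), (nat_lit 2321, nat_lit 4339, nat_lit 4), (nat_lit 1902, nat_lit 4343, nat_lit 4), (nat_lit 1887, nat_lit 4347, nat_lit 4), (nat_lit 902, nat_lit 4373, nat_lit 4), (nat_lit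 553, nat_lit 4380, nat_lit 4), (nat_lit 649, nat_lit 4383, nat_lit 4), (nat_lit 1011, nat_lit 4389, nat_lit 4), (nat_lit 939, nat_lit 4421, nat_lit 4), (nat_lit 2188, nat_lit 4426, nat_lit 4), (nat_lit 2054, nat_lit 4437, nat_lit 4), (nat_lit 1777, nat_lit 4446, nat_lit 4), (nat_lit 237, nat_lit 4458, nat_lit 4), (nat_lit 249, nat_lit 4460, nat_lit 4), (nat_lit 596, nat_lit 4463, nat_lit 4), (nat_lit 1526, nat_lit 4467, nat_lit 4), (nat_lit 2179, nat_lit 4474, nat_lit 4), (nat_lit 1145, nat_lit 4476, nat_lit 4), (nat_lit 2352, nat_lit 4477, nat_lit 4), (nat_lit 2039, nat_lit 4493, nat_lit 4), (nat_lit 1076, nat_lit 4494, nat_lit 4), (nat_lit 199, nat_lit 4498, nat_lit 4), (nat_lit 1459, nat_lit 4515, nat_lit 4), (nat_lit 1382, nat_lit 4517, nat_lit 4), (nat_lit 2373, nat_lit 4520, nat_lit 4), (nat_lit 1328, nat_lit 4525, nat_lit 4), (nat_lit 933, nat_lit 4565, nat_lit 4), (nat_lit 2339, nat_lit 4572, nat_lit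 4), (nat_lit 1114, nat_lit 4579, nat_lit 4), (nat_lit 624, nat_lit 4580, nat_lit 4), (nat_lit 203, nat_lit 4584, nat_lit 4), (nat_lit 490, nat_lit 4587, nat_lit 4), (nat_lit 1701, nat_lit 4589, nat_lit 4), (nat_lit 900, nat_lit 4602, nat_lit 4), (nat_lit 888, nat_lit 4612, nat_lit 4), (nat_lit 198, nat_lit 4617, nat_lit 4), (nat_lit 1977, nat_lit 4634, nat_lit 4), (nat_lit 752, nat_lit 4638, nat_lit 4), (nat_lit 970, nat_lit 4641, nat_lit 4), (nat_lit 1652, nat_lit 4652, nat_lit 4), (nat_lit 688, nat_lit 4653, nat_lit 4), (nat_lit 269, nat_lit 4661, nat_lit 4), (nat_lit 576, nat_lit 4675, nat_lit 4), (nat_lit 1282, nat_lit 4680, nat_lit 4), (nat_lit 1520, nat_lit 4690, nat_lit 4), (nat_lit 2006, nat_lit 4696, nat_lit 4), (nat_lit 1846, nat_lit 4707, nat_lit 4), (nat_lit 2368, nat_lit 4714, nat_lit 4), (nat_lit 1931, nat_lit 4717, nat_lit 4), (nat_lit 556, nat_lit 4728, nat_lit 4), (nat_lit 1322, nat_lit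 4748, nat_lit 4), (nat_lit 833, nat_lit 4760, nat_lit 4), (nat_lit 2163, nat_lit 4762, nat_lit 4), (nat_lit 569, nat_lit 4771, nat_lit 4), (nat_lit 1298, nat_lit 4773, nat_lit 4), (nat_lit 554, nat_lit 4787, nat_lit 4), (nat_lit 1062, nat_lit 4798, nat_lit 4), (nat_lit 280, nat_lit 4802, nat_lit 4), (nat_lit 683, nat_lit 4820, nat_lit 4), (nat_lit 1380, nat_lit 4821, nat_lit 4), (nat_lit 1151, nat_lit 4828, nat_lit 4), (nat_lit 1386, nat_lit 4846, nat_lit 4), (nat_lit 2255, nat_lit 4867, nat_lit 4), (nat_lit 924, nat_lit 4868, nat_lit 4), (nat_lit 544, nat_lit 4873, nat_lit 4), (nat_lit 352, nat_lit 4885, nat_lit 4), (nat_lit 1152, nat_lit 4897, nat_lit 4), (nat_lit 421, nat_lit 4908, nat_lit 4), (nat_lit 2364, nat_lit 4912, nat_lit 4), (nat_lit 2317, nat_lit 4913, nat_lit 4), (nat_lit 2327, nat_lit 4914, nat_lit 4), (nat_lit 1669, nat_lit 4931, nat_lit 4), (nat_lit 1237, nat_lit 4936, nat_lit 4)]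

theorem nb4_4_3 : NbL io phi2 (s 14) w (w 4) (l4_4_3.map Prod.snd) :=
  nbl_of env2 facts rep2 (by norm_num) (by decide +kernel)

def l4_4_4 : List (Nat × Nat × Nat) :=
  [(nat_lit 1811, nat_lit 4942, nat_lit 4), (nat_lit 375, nat_lit 4944, nat_lit 4), (nat_lit 1088, nat_lit 4946, nat_lit 4), (nat_lit 2222, nat_lit 4950, nat_lit 4), (nat_lit 2318, nat_lit 4952, nat_lit 4), (nat_lit 2459, nat_lit 4959, nat_lit 4), (nat_lit 2118, nat_lit 4960, nat_lit 4), (nat_lit 1519, nat_lit 4969, nat_lit 4), (nat_lit 2123, nat_lit 4973, nat_lit 4), (nat_lit 2168, nat_lit 4978, nat_lit 4), (nat_lit 793, nat_lit 4997, nat_lit 4), (nat_lit 1550, nat_lit 4998, nat_lit 4), (nat_lit 2072, nat_lit 5008, nat_lit 4), (nat_lit 1591, nat_lit 5030, nat_lit 4), (nat_lit 499, nat_lit 5033, nat_lit 4), (nat_lit 1425, nat_lit 5034, nat_lit 4), (nat_lit 1998, nat_lit 5036, nat_lit 4), (nat_lit 1395, nat_lit 5038, nat_lit 4), (nat_lit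 2177, nat_lit 5040, nat_lit 4), (nat_lit 1326, nat_lit 5043, nat_lit 4), (nat_lit 1338, nat_lit 5050, nat_lit 4), (nat_lit 850, nat_lit 5051, nat_lit 4), (nat_lit 466, nat_lit 5076, nat_lit 4), (nat_lit 205, nat_lit 5077, nat_lit 4), (nat_lit 1748, nat_lit 5085, nat_lit 4), (nat_lit 1606, nat_lit 5087, nat_lit 4), (nat_lit 2162, nat_lit 5093, nat_lit 4), (nat_lit 1823, nat_lit 5097, nat_lit 4), (nat_lit 859, nat_lit 5102, nat_lit 4), (nat_lit 1390, nat_lit 5126, nat_lit 4), (nat_lit 1896, nat_lit 5130, nat_lit 4), (nat_lit 408, nat_lit 5133, nat_lit 4), (nat_lit 467, nat_lit 5139, nat_lit 4), (nat_lit 2402, nat_lit 5145, nat_lit 4), (nat_lit 228, nat_lit 5161, nat_lit 4), (nat_lit 2273, nat_lit 5172, nat_lit 4), (nat_lit 370, nat_lit 5182, nat_lit 4), (nat_lit 281, nat_lit 5193, nat_lit 4), (nat_lit 1671, nat_lit 5207, nat_lit 4), (nat_lit 1934, nat_lit 5208, nat_lit 4), (nat_lit 469, nat_lit 5210, nat_lit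 4), (nat_lit 1388, nat_lit 5217, nat_lit 4), (nat_lit 1634, nat_lit 5219, nat_lit 4), (nat_lit 940, nat_lit 5227, nat_lit 4), (nat_lit 1647, nat_lit 5231, nat_lit 4), (nat_lit 849, nat_lit 5238, nat_lit 4), (nat_lit 2367, nat_lit 5240, nat_lit 4), (nat_lit 820, nat_lit 5241, nat_lit 4), (nat_lit 572, nat_lit 5242, nat_lit 4), (nat_lit 377, nat_lit 5262, nat_lit 4), (nat_lit 1474, nat_lit 5269, nat_lit 4), (nat_lit 1551, nat_lit 5278, nat_lit 4), (nat_lit 1509, nat_lit 5284, nat_lit 4), (nat_lit 1978, nat_lit 5309, nat_lit 4), (nat_lit 1307, nat_lit 5310, nat_lit 4), (nat_lit 754, nat_lit 5311, nat_lit 4), (nat_lit 1012, nat_lit 5316, nat_lit 4), (nat_lit 1311, nat_lit 5332, nat_lit 4), (nat_lit 2391, nat_lit 5341, nat_lit 4), (nat_lit 2344, nat_lit 5345, nat_lit 4), (nat_lit 2070, nat_lit 5352, nat_lit 4), (nat_lit 1093, nat_lit 5355, nat_lit 4), (nat_lit 207, nat_lit 5356, nat_lit 4), (nat_lit 1255, nat_lit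 5360, nat_lit 4), (nat_lit 682, nat_lit 5365, nat_lit 4), (nat_lit 1264, nat_lit 5368, nat_lit 4), (nat_lit 951, nat_lit 5388, nat_lit 4), (nat_lit 1578, nat_lit 5444, nat_lit 4), (nat_lit 1358, nat_lit 5468, nat_lit 4), (nat_lit 1165, nat_lit 5469, nat_lit 4), (nat_lit 789, nat_lit 5472, nat_lit 4), (nat_lit 1857, nat_lit 5476, nat_lit 4), (nat_lit 465, nat_lit 5486, nat_lit 4), (nat_lit 1000, nat_lit 5497, nat_lit 4), (nat_lit 407, nat_lit 5502, nat_lit 4), (nat_lit 1214, nat_lit 5504, nat_lit 4), (nat_lit 1018, nat_lit 5519, nat_lit 4), (nat_lit 1564, nat_lit 5524, nat_lit 4), (nat_lit 1374, nat_lit 5525, nat_lit 4), (nat_lit 2199, nat_lit 5531, nat_lit 4), (nat_lit 1365, nat_lit 5542, nat_lit 4), (nat_lit 1191, nat_lit 5543, nat_lit 4), (nat_lit 492, nat_lit 5553, nat_lit 4), (nat_lit 2083, nat_lit 5557, nat_lit 4), (nat_lit 1404, nat_lit 5583, nat_lit 4), (nat_lit 2315, nat_lit 5585, nat_lit 4), (nat_lit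 290, nat_lit 5586, nat_lit 4), (nat_lit 2173, nat_lit 5591, nat_lit 4), (nat_lit 855, nat_lit 5593, nat_lit 4), (nat_lit 1870, nat_lit 5602, nat_lit 4), (nat_lit 1444, nat_lit 5603, nat_lit 4), (nat_lit 1300, nat_lit 5604, nat_lit 4), (nat_lit 1124, nat_lit 5609, nat_lit 4), (nat_lit 540, nat_lit 5612, nat_lit 4), (nat_lit 629, nat_lit 5620, nat_lit 4), (nat_lit 2415, nat_lit 5652, nat_lit 4), (nat_lit 1060, nat_lit 5653, nat_lit 4), (nat_lit 1968, nat_lit 5655, nat_lit 4), (nat_lit 239, nat_lit 5660, nat_lit 4), (nat_lit 591, nat_lit 5685, nat_lit 4), (nat_lit 1283, nat_lit 5690, nat_lit 4), (nat_lit 390, nat_lit 5717, nat_lit 4), (nat_lit 382, nat_lit 5737, nat_lit 4), (nat_lit 630, nat_lit 5740, nat_lit 4), (nat_lit 2057, nat_lit 5741, nat_lit 4), (nat_lit 1134, nat_lit 5753, nat_lit 4), (nat_lit 1277, nat_lit 5760, nat_lit 4), (nat_lit 1108, nat_lit 5767, nat_lit 4), (nat_lit 1035, nat_lit 5769, nat_lit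 4), (nat_lit 2279, nat_lit 5770, nat_lit 4), (nat_lit 1016, nat_lit 5789, nat_lit 4), (nat_lit 1273, nat_lit 5790, nat_lit 4), (nat_lit 1063, nat_lit 5792, nat_lit 4), (nat_lit 1371, nat_lit 5793, nat_lit 4), (nat_lit 1258, nat_lit 5808, nat_lit 4), (nat_lit 874, nat_lit 5820, nat_lit 4), (nat_lit 885, nat_lit 5837, nat_lit 4), (nat_lit 2239, nat_lit 5839, nat_lit 4), (nat_lit 823, nat_lit 5841, nat_lit 4), (nat_lit 893, nat_lit 5853, nat_lit 4), (nat_lit 1059, nat_lit 5856, nat_lit 4), (nat_lit 356, nat_lit 5866, nat_lit 4), (nat_lit 1438, nat_lit 5876, nat_lit 4), (nat_lit 299, nat_lit 5906, nat_lit 4), (nat_lit 1944, nat_lit 5908, nat_lit 4), (nat_lit 397, nat_lit 5917, nat_lit 4), (nat_lit 2363, nat_lit 5930, nat_lit 4), (nat_lit 2161, nat_lit 5933, nat_lit 4), (nat_lit 595, nat_lit 5938, nat_lit 4), (nat_lit 373, nat_lit 5939, nat_lit 4), (nat_lit 1815, nat_lit 5940, nat_lit 4), (nat_lit 1056, nat_lit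 5951, nat_lit 4), (nat_lit 972, nat_lit 5952, nat_lit 4), (nat_lit 2211, nat_lit 5956, nat_lit 4), (nat_lit 449, nat_lit 5984, nat_lit 4), (nat_lit 2200, nat_lit 5992, nat_lit 4), (nat_lit 964, nat_lit 5995, nat_lit 4), (nat_lit 567, nat_lit 5997, nat_lit 4), (nat_lit 1770, nat_lit 6003, nat_lit 4), (nat_lit 1787, nat_lit 6013, nat_lit 4), (nat_lit 1835, nat_lit 6026, nat_lit 4), (nat_lit 527, nat_lit 6027, nat_lit 4), (nat_lit 1055, nat_lit 6081, nat_lit 4), (nat_lit 980, nat_lit 6086, nat_lit 4), (nat_lit 802, nat_lit 6100, nat_lit 4), (nat_lit 2114, nat_lit 6109, nat_lit 4), (nat_lit 376, nat_lit 6112, nat_lit 4), (nat_lit 1693, nat_lit 6115, nat_lit 4), (nat_lit 1187, nat_lit 6122, nat_lit 4), (nat_lit 1366, nat_lit 6136, nat_lit 4), (nat_lit 1199, nat_lit 6142, nat_lit 4), (nat_lit 2407, nat_lit 6151, nat_lit 4), (nat_lit 330, nat_lit 6160, nat_lit 4), (nat_lit 676, nat_lit 6162, nat_lit 4), (nat_lit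 378, nat_lit 6176, nat_lit 4), (nat_lit 787, nat_lit 6185, nat_lit 4), (nat_lit 2089, nat_lit 6189, nat_lit 4), (nat_lit 790, nat_lit 6193, nat_lit 4), (nat_lit 1339, nat_lit 6198, nat_lit 4), (nat_lit 1809, nat_lit 6206, nat_lit 4), (nat_lit 1746, nat_lit 6212, nat_lit 4), (nat_lit 1266, nat_lit 6218, nat_lit 4), (nat_lit 394, nat_lit 6237, nat_lit 4), (nat_lit 1325, nat_lit 6246, nat_lit 4), (nat_lit 405, nat_lit 6265, nat_lit 4), (nat_lit 920, nat_lit 6267, nat_lit 4), (nat_lit 650, nat_lit 6273, nat_lit 4), (nat_lit 2298, nat_lit 6285, nat_lit 4), (nat_lit 298, nat_lit 6310, nat_lit 4), (nat_lit 684, nat_lit 6312, nat_lit 4), (nat_lit 2325, nat_lit 6315, nat_lit 4), (nat_lit 444, nat_lit 6328, nat_lit 4)]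

theorem nb4_4_4 : NbL io phi2 (s 14) w (w 4) (l4_4_4.map Prod.snd) :=
  nbl_of env2 facts rep2 (by norm_num) (by decide +kernel)

def l4_4_5 : List (Nat × Nat × Nat) :=
  [(nat_lit 1517, nat_lit 6334, nat_lit 4), (nat_lit 1858, nat_lit 6340, nat_lit 4), (nat_lit 429, nat_lit 6347, nat_lit 4), (nat_lit 1251, nat_lit 6355, nat_lit 4), (nat_lit 291, nat_lit 6358, nat_lit 4), (nat_lit 2021, nat_lit 6362, nat_lit 4), (nat_lit 570, nat_lit 6373, nat_lit 4), (nat_lit 2230, nat_lit 6376, nat_lit 4), (nat_lit 909, nat_lit 6389, nat_lit 4), (nat_lit 930, nat_lit 6390, nat_lit 4), (nat_lit 2204, nat_lit 6408, nat_lit 4), (nat_lit 1241, nat_lit 6434, nat_lit 4), (nat_lit 550, nat_lit 6435, nat_lit 4), (nat_lit 1413, nat_lit 6436, nat_lit 4), (nat_lit 1784, nat_lit 6449, nat_lit 4), (nat_lit 524, nat_lit 6456, nat_lit 4), (nat_lit 1302, nat_lit 6467, nat_lit 4), (nat_lit 472, nat_lit 6469, nat_lit 4), (nat_lit 1049,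 nat_lit 6481, nat_lit 4), (nat_lit 638, nat_lit 6487, nat_lit 4), (nat_lit 2396, nat_lit 6504, nat_lit 4), (nat_lit 660, nat_lit 6505, nat_lit 4), (nat_lit 2055, nat_lit 6507, nat_lit 4), (nat_lit 1909, nat_lit 6510, nat_lit 4), (nat_lit 2181, nat_lit 6511, nat_lit 4), (nat_lit 2408, nat_lit 6517, nat_lit 4), (nat_lit 579, nat_lit 6544, nat_lit 4), (nat_lit 2389, nat_lit 6546, nat_lit 4), (nat_lit 1447, nat_lit 6551, nat_lit 4), (nat_lit 594, nat_lit 6552, nat_lit 4), (nat_lit 2266, nat_lit 6554, nat_lit 4), (nat_lit 1577, nat_lit 6559, nat_lit 4), (nat_lit 934, nat_lit 6562, nat_lit 4), (nat_lit 406, nat_lit 6570, nat_lit 4), (nat_lit 238, nat_lit 6574, nat_lit 4), (nat_lit 1772, nat_lit 6582, nat_lit 4), (nat_lit 535, nat_lit 6590, nat_lit 4), (nat_lit 1808, nat_lit 6598, nat_lit 4), (nat_lit 2016, nat_lit 6615, nat_lit 4), (nat_lit 2048, nat_lit 6621, nat_lit 4), (nat_lit 548, nat_lit 6630, nat_lit 4),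 (nat_lit 1781, nat_lit 6636, nat_lit 4), (nat_lit 339, nat_lit 6642, nat_lit 4), (nat_lit 1074, nat_lit 6665, nat_lit 4), (nat_lit 1882, nat_lit 6675, nat_lit 4), (nat_lit 876, nat_lit 6682, nat_lit 4), (nat_lit 416, nat_lit 6685, nat_lit 4), (nat_lit 1514, nat_lit 6723, nat_lit 4), (nat_lit 1704, nat_lit 6725, nat_lit 4), (nat_lit 1406, nat_lit 6743, nat_lit 4), (nat_lit 1607, nat_lit 6751, nat_lit 4), (nat_lit 1471, nat_lit 6778, nat_lit 4), (nat_lit 1950, nat_lit 6786, nat_lit 4), (nat_lit 551, nat_lit 6790, nat_lit 4), (nat_lit 1488, nat_lit 6802, nat_lit 4), (nat_lit 1630, nat_lit 6803, nat_lit 4), (nat_lit 326, nat_lit 6827, nat_lit 4), (nat_lit 635, nat_lit 6829, nat_lit 4), (nat_lit 1324, nat_lit 6848, nat_lit 4), (nat_lit 1034, nat_lit 6856, nat_lit 4), (nat_lit 2137, nat_lit 6859, nat_lit 4), (nat_lit 633, nat_lit 6860, nat_lit 4), (nat_lit 1737, nat_lit 6864, nat_lit 4), (nat_lit 798, nat_lit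 6868, nat_lit 4), (nat_lit 2243, nat_lit 6872, nat_lit 4), (nat_lit 2382, nat_lit 6876, nat_lit 4), (nat_lit 1721, nat_lit 6877, nat_lit 4), (nat_lit 2449, nat_lit 6880, nat_lit 4), (nat_lit 1118, nat_lit 6895, nat_lit 4), (nat_lit 1392, nat_lit 6903, nat_lit 4), (nat_lit 2306, nat_lit 6919, nat_lit 4), (nat_lit 202, nat_lit 6937, nat_lit 4), (nat_lit 430, nat_lit 6955, nat_lit 4), (nat_lit 1695, nat_lit 6958, nat_lit 4), (nat_lit 1878, nat_lit 6962, nat_lit 4), (nat_lit 1240, nat_lit 6986, nat_lit 4), (nat_lit 1323, nat_lit 6999, nat_lit 4), (nat_lit 1905, nat_lit 7018, nat_lit 4), (nat_lit 1036, nat_lit 7034, nat_lit 4), (nat_lit 1039, nat_lit 7042, nat_lit 4), (nat_lit 565, nat_lit 7049, nat_lit 4), (nat_lit 1529, nat_lit 7060, nat_lit 4), (nat_lit 1674, nat_lit 7063, nat_lit 4), (nat_lit 478, nat_lit 7064, nat_lit 4), (nat_lit 1589, nat_lit 7067, nat_lit 4), (nat_lit 1022, nat_lit 7080, nat_lit 4), (nat_lit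 2087, nat_lit 7088, nat_lit 4), (nat_lit 663, nat_lit 7091, nat_lit 4), (nat_lit 2375, nat_lit 7098, nat_lit 4), (nat_lit 1296, nat_lit 7117, nat_lit 4), (nat_lit 1653, nat_lit 7132, nat_lit 4), (nat_lit 1531, nat_lit 7139, nat_lit 4), (nat_lit 2034, nat_lit 7150, nat_lit 4), (nat_lit 2212, nat_lit 7151, nat_lit 4), (nat_lit 233, nat_lit 7154, nat_lit 4), (nat_lit 1666, nat_lit 7155, nat_lit 4), (nat_lit 1469, nat_lit 7156, nat_lit 4), (nat_lit 2099, nat_lit 7157, nat_lit 4), (nat_lit 529, nat_lit 7159, nat_lit 4), (nat_lit 1348, nat_lit 7165, nat_lit 4), (nat_lit 1023, nat_lit 7168, nat_lit 4), (nat_lit 1373, nat_lit 7190, nat_lit 4), (nat_lit 1718, nat_lit 7195, nat_lit 4), (nat_lit 1740, nat_lit 7200, nat_lit 4), (nat_lit 2378, nat_lit 7204, nat_lit 4), (nat_lit 878, nat_lit 7217, nat_lit 4), (nat_lit 1131, nat_lit 7236, nat_lit 4), (nat_lit 2213, nat_lit 7237, nat_lit 4), (nat_lit 1113, nat_lit 7240,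 nat_lit 4), (nat_lit 593, nat_lit 7241, nat_lit 4), (nat_lit 1179, nat_lit 7253, nat_lit 4), (nat_lit 1452, nat_lit 7268, nat_lit 4), (nat_lit 2456, nat_lit 7273, nat_lit 4), (nat_lit 1236, nat_lit 7283, nat_lit 4), (nat_lit 882, nat_lit 7296, nat_lit 4), (nat_lit 1409, nat_lit 7317, nat_lit 4), (nat_lit 1926, nat_lit 7318, nat_lit 4), (nat_lit 1440, nat_lit 7320, nat_lit 4), (nat_lit 2038, nat_lit 7321, nat_lit 4), (nat_lit 1825, nat_lit 7322, nat_lit 4), (nat_lit 1842, nat_lit 7327, nat_lit 4), (nat_lit 998, nat_lit 7346, nat_lit 4), (nat_lit 2135, nat_lit 7348, nat_lit 4), (nat_lit 2024, nat_lit 7354, nat_lit 4), (nat_lit 661, nat_lit 7355, nat_lit 4), (nat_lit 2191, nat_lit 7357, nat_lit 4), (nat_lit 423, nat_lit 7363, nat_lit 4), (nat_lit 1533, nat_lit 7365, nat_lit 4), (nat_lit 2360, nat_lit 7367, nat_lit 4), (nat_lit 1350, nat_lit 7373, nat_lit 4), (nat_lit 1957, nat_lit 7375, nat_lit 4), (nat_lit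 1961, nat_lit 7380, nat_lit 4), (nat_lit 1569, nat_lit 7383, nat_lit 4), (nat_lit 1235, nat_lit 7386, nat_lit 4), (nat_lit 445, nat_lit 7387, nat_lit 4), (nat_lit 1676, nat_lit 7400, nat_lit 4), (nat_lit 2395, nat_lit 7406, nat_lit 4), (nat_lit 965, nat_lit 7421, nat_lit 4), (nat_lit 229, nat_lit 7431, nat_lit 4), (nat_lit 1898, nat_lit 7453, nat_lit 4), (nat_lit 1087, nat_lit 7464, nat_lit 4), (nat_lit 2061, nat_lit 7470, nat_lit 4), (nat_lit 1738, nat_lit 7473, nat_lit 4), (nat_lit 2151, nat_lit 7488, nat_lit 4), (nat_lit 196, nat_lit 7491, nat_lit 4), (nat_lit 462, nat_lit 7494, nat_lit 4), (nat_lit 1361, nat_lit 7513, nat_lit 4), (nat_lit 1393, nat_lit 7514, nat_lit 4), (nat_lit 1480, nat_lit 7530, nat_lit 4), (nat_lit 1534, nat_lit 7557, nat_lit 4), (nat_lit 1281, nat_lit 7580, nat_lit 4), (nat_lit 528, nat_lit 7587, nat_lit 4), (nat_lit 881, nat_lit 7593, nat_lit 4), (nat_lit 1789, nat_lit 7597, nat_lit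 4), (nat_lit 1250, nat_lit 7604, nat_lit 4), (nat_lit 1105, nat_lit 7608, nat_lit 4), (nat_lit 1939, nat_lit 7610, nat_lit 4), (nat_lit 1396, nat_lit 7618, nat_lit 4), (nat_lit 1776, nat_lit 7620, nat_lit 4), (nat_lit 278, nat_lit 7625, nat_lit 4), (nat_lit 2274, nat_lit 7645, nat_lit 4), (nat_lit 501, nat_lit 7648, nat_lit 4), (nat_lit 2420, nat_lit 7657, nat_lit 4), (nat_lit 1456, nat_lit 7663, nat_lit 4), (nat_lit 1759, nat_lit 7665, nat_lit 4), (nat_lit 1412, nat_lit 7669, nat_lit 4), (nat_lit 1879, nat_lit 7674, nat_lit 4), (nat_lit 1483, nat_lit 7676, nat_lit 4), (nat_lit 1908, nat_lit 7679, nat_lit 4), (nat_lit 510, nat_lit 7710, nat_lit 4), (nat_lit 908, nat_lit 7726, nat_lit 4), (nat_lit 2074, nat_lit 7728, nat_lit 4), (nat_lit 803, nat_lit 7730, nat_lit 4), (nat_lit 1826, nat_lit 7732, nat_lit 4), (nat_lit 307, nat_lit 7739, nat_lit 4), (nat_lit 1734, nat_lit 7742, nat_lit 4)]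

theorem nb4_4_5 : NbL io phi2 (s 14) w (w 4) (l4_4_5.map Prod.snd) :=
  nbl_of env2 facts rep2 (by norm_num) (by decide +kernel)

def l4_4_6 : List (Nat × Nat × Nat) :=
  [(nat_lit 271, nat_lit 7747, nat_lit 4), (nat_lit 1038, nat_lit 7759, nat_lit 4), (nat_lit 1416, nat_lit 7766, nat_lit 4), (nat_lit 1464, nat_lit 7773, nat_lit 4), (nat_lit 1603, nat_lit 7793, nat_lit 4), (nat_lit 368, nat_lit 7796, nat_lit 4), (nat_lit 1208, nat_lit 7800, nat_lit 4), (nat_lit 1904, nat_lit 7801, nat_lit 4), (nat_lit 854, nat_lit 7807, nat_lit 4), (nat_lit 1599, nat_lit 7808, nat_lit 4), (nat_lit 2268, nat_lit 7851, nat_lit 4), (nat_lit 1457, nat_lit 7858, nat_lit 4), (nat_lit 1735, nat_lit 7861, nat_lit 4), (nat_lit 2044, nat_lit 7869, nat_lit 4), (nat_lit 2066, nat_lit 7883, nat_lit 4), (nat_lit 848, nat_lit 7888, nat_lit 4), (nat_lit 1030, nat_lit 7895, nat_lit 4), (nat_lit 2041, nat_lit 7896, nat_lit 4), (nat_lit 656,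 nat_lit 7899, nat_lit 4), (nat_lit 1753, nat_lit 7902, nat_lit 4), (nat_lit 1420, nat_lit 7914, nat_lit 4), (nat_lit 843, nat_lit 7940, nat_lit 4), (nat_lit 1094, nat_lit 7942, nat_lit 4), (nat_lit 1042, nat_lit 7954, nat_lit 4), (nat_lit 2333, nat_lit 7956, nat_lit 4), (nat_lit 1343, nat_lit 7961, nat_lit 4), (nat_lit 517, nat_lit 7962, nat_lit 4), (nat_lit 1503, nat_lit 7973, nat_lit 4), (nat_lit 975, nat_lit 7977, nat_lit 4), (nat_lit 890, nat_lit 8001, nat_lit 4), (nat_lit 686, nat_lit 8005, nat_lit 4), (nat_lit 813, nat_lit 8006, nat_lit 4), (nat_lit 1850, nat_lit 8007, nat_lit 4), (nat_lit 568, nat_lit 8015, nat_lit 4), (nat_lit 251, nat_lit 8019, nat_lit 4), (nat_lit 1687, nat_lit 8023, nat_lit 4), (nat_lit 335, nat_lit 8033, nat_lit 4), (nat_lit 1487, nat_lit 8039, nat_lit 4), (nat_lit 777, nat_lit 8040, nat_lit 4), (nat_lit 1843, nat_lit 8052, nat_lit 4), (nat_lit 2387, nat_lit 8053, nat_lit 4),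 (nat_lit 1873, nat_lit 8065, nat_lit 4), (nat_lit 1920, nat_lit 8070, nat_lit 4), (nat_lit 2155, nat_lit 8072, nat_lit 4), (nat_lit 374, nat_lit 8092, nat_lit 4), (nat_lit 1261, nat_lit 8094, nat_lit 4), (nat_lit 1741, nat_lit 8096, nat_lit 4), (nat_lit 847, nat_lit 8099, nat_lit 4), (nat_lit 2264, nat_lit 8100, nat_lit 4), (nat_lit 1006, nat_lit 8108, nat_lit 4), (nat_lit 969, nat_lit 8111, nat_lit 4), (nat_lit 448, nat_lit 8144, nat_lit 4), (nat_lit 961, nat_lit 8145, nat_lit 4), (nat_lit 755, nat_lit 8159, nat_lit 4), (nat_lit 1032, nat_lit 8162, nat_lit 4), (nat_lit 2299, nat_lit 8180, nat_lit 4), (nat_lit 1552, nat_lit 8181, nat_lit 4), (nat_lit 1177, nat_lit 8182, nat_lit 4), (nat_lit 2287, nat_lit 8192, nat_lit 4), (nat_lit 1178, nat_lit 8198, nat_lit 4), (nat_lit 1856, nat_lit 8215, nat_lit 4), (nat_lit 2101, nat_lit 8224, nat_lit 4), (nat_lit 1702, nat_lit 8239, nat_lit 4), (nat_lit 2386, nat_lit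 8240, nat_lit 4), (nat_lit 1201, nat_lit 8278, nat_lit 4), (nat_lit 1377, nat_lit 8284, nat_lit 4), (nat_lit 489, nat_lit 8288, nat_lit 4), (nat_lit 1505, nat_lit 8301, nat_lit 4), (nat_lit 460, nat_lit 8323, nat_lit 4), (nat_lit 2014, nat_lit 8325, nat_lit 4), (nat_lit 1947, nat_lit 8337, nat_lit 4), (nat_lit 1317, nat_lit 8338, nat_lit 4), (nat_lit 1539, nat_lit 8341, nat_lit 4), (nat_lit 341, nat_lit 8344, nat_lit 4), (nat_lit 1019, nat_lit 8354, nat_lit 4), (nat_lit 1712, nat_lit 8358, nat_lit 4), (nat_lit 1679, nat_lit 8370, nat_lit 4), (nat_lit 1625, nat_lit 8375, nat_lit 4), (nat_lit 455, nat_lit 8390, nat_lit 4), (nat_lit 2401, nat_lit 8405, nat_lit 4), (nat_lit 1303, nat_lit 8409, nat_lit 4), (nat_lit 266, nat_lit 8419, nat_lit 4), (nat_lit 652, nat_lit 8424, nat_lit 4), (nat_lit 1867, nat_lit 8427, nat_lit 4), (nat_lit 756, nat_lit 8432, nat_lit 4), (nat_lit 2056, nat_lit 8433, nat_lit 4), (nat_lit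 2454, nat_lit 8440, nat_lit 4), (nat_lit 1163, nat_lit 8444, nat_lit 4), (nat_lit 1044, nat_lit 8453, nat_lit 4), (nat_lit 1432, nat_lit 8458, nat_lit 4), (nat_lit 431, nat_lit 8470, nat_lit 4), (nat_lit 204, nat_lit 8477, nat_lit 4), (nat_lit 2265, nat_lit 8501, nat_lit 4), (nat_lit 464, nat_lit 8509, nat_lit 4), (nat_lit 2384, nat_lit 8510, nat_lit 4), (nat_lit 914, nat_lit 8511, nat_lit 4), (nat_lit 811, nat_lit 8514, nat_lit 4), (nat_lit 1144, nat_lit 8518, nat_lit 4), (nat_lit 393, nat_lit 8521, nat_lit 4), (nat_lit 353, nat_lit 8538, nat_lit 4), (nat_lit 1962, nat_lit 8546, nat_lit 4), (nat_lit 552, nat_lit 8548, nat_lit 4), (nat_lit 2190, nat_lit 8565, nat_lit 4), (nat_lit 2000, nat_lit 8566, nat_lit 4), (nat_lit 292, nat_lit 8567, nat_lit 4), (nat_lit 1573, nat_lit 8571, nat_lit 4), (nat_lit 1293, nat_lit 8579, nat_lit 4), (nat_lit 1837, nat_lit 8589, nat_lit 4), (nat_lit 2207, nat_lit 8590, nat_lit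 4), (nat_lit 1557, nat_lit 8598, nat_lit 4), (nat_lit 1575, nat_lit 8610, nat_lit 4), (nat_lit 1756, nat_lit 8631, nat_lit 4), (nat_lit 296, nat_lit 8638, nat_lit 4), (nat_lit 2002, nat_lit 8641, nat_lit 4), (nat_lit 1167, nat_lit 8649, nat_lit 4), (nat_lit 2169, nat_lit 8669, nat_lit 4), (nat_lit 1541, nat_lit 8671, nat_lit 4), (nat_lit 1816, nat_lit 8676, nat_lit 4), (nat_lit 516, nat_lit 8677, nat_lit 4), (nat_lit 1402, nat_lit 8679, nat_lit 4), (nat_lit 1160, nat_lit 8684, nat_lit 4), (nat_lit 230, nat_lit 8692, nat_lit 4), (nat_lit 2357, nat_lit 8712, nat_lit 4), (nat_lit 232, nat_lit 8715, nat_lit 4), (nat_lit 916, nat_lit 8717, nat_lit 4), (nat_lit 646, nat_lit 8719, nat_lit 4), (nat_lit 1136, nat_lit 8721, nat_lit 4), (nat_lit 2231, nat_lit 8725, nat_lit 4), (nat_lit 508, nat_lit 8729, nat_lit 4), (nat_lit 1600, nat_lit 8749, nat_lit 4), (nat_lit 2022, nat_lit 8772, nat_lit 4), (nat_lit 695, nat_lit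 8781, nat_lit 4), (nat_lit 519, nat_lit 8789, nat_lit 4), (nat_lit 483, nat_lit 8792, nat_lit 4), (nat_lit 1146, nat_lit 8805, nat_lit 4), (nat_lit 1294, nat_lit 8812, nat_lit 4), (nat_lit 2252, nat_lit 8814, nat_lit 4), (nat_lit 1292, nat_lit 8820, nat_lit 4), (nat_lit 1123, nat_lit 8838, nat_lit 4), (nat_lit 1269, nat_lit 8845, nat_lit 4), (nat_lit 2249, nat_lit 8856, nat_lit 4), (nat_lit 385, nat_lit 8861, nat_lit 4), (nat_lit 1727, nat_lit 8868, nat_lit 4), (nat_lit 758, nat_lit 8872, nat_lit 4), (nat_lit 452, nat_lit 8916, nat_lit 4), (nat_lit 958, nat_lit 8923, nat_lit 4), (nat_lit 2444, nat_lit 8925, nat_lit 4), (nat_lit 1548, nat_lit 8937, nat_lit 4), (nat_lit 1612, nat_lit 8946, nat_lit 4), (nat_lit 1037, nat_lit 8952, nat_lit 4), (nat_lit 2131, nat_lit 8962, nat_lit 4), (nat_lit 1527, nat_lit 8966, nat_lit 4), (nat_lit 1821, nat_lit 8987, nat_lit 4), (nat_lit 1010, nat_lit 9019, nat_lit 4), (nat_lit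 761, nat_lit 9023, nat_lit 4), (nat_lit 1884, nat_lit 9030, nat_lit 4), (nat_lit 1645, nat_lit 9043, nat_lit 4), (nat_lit 1400, nat_lit 9060, nat_lit 4), (nat_lit 500, nat_lit 9064, nat_lit 4), (nat_lit 1780, nat_lit 9068, nat_lit 4), (nat_lit 634, nat_lit 9069, nat_lit 4), (nat_lit 1628, nat_lit 9077, nat_lit 4), (nat_lit 518, nat_lit 9078, nat_lit 4), (nat_lit 1073, nat_lit 9079, nat_lit 4), (nat_lit 538, nat_lit 9084, nat_lit 4), (nat_lit 1439, nat_lit 9116, nat_lit 4), (nat_lit 2291, nat_lit 9128, nat_lit 4), (nat_lit 432, nat_lit 9145, nat_lit 4), (nat_lit 1304, nat_lit 9150, nat_lit 4), (nat_lit 1544, nat_lit 9155, nat_lit 4), (nat_lit 1891, nat_lit 9163, nat_lit 4), (nat_lit 277, nat_lit 9184, nat_lit 4)]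

theorem nb4_4_6 : NbL io phi2 (s 14) w (w 4) (l4_4_6.map Prod.snd) :=
  nbl_of env2 facts rep2 (by norm_num) (by decide +kernel)

def l4_4_7 : List (Nat × Nat × Nat) :=
  [(nat_lit 419, nat_lit 9185, nat_lit 4), (nat_lit 1631, nat_lit 9188, nat_lit 4), (nat_lit 1885, nat_lit 9190, nat_lit 4), (nat_lit 329, nat_lit 9192, nat_lit 4), (nat_lit 2046, nat_lit 9203, nat_lit 4), (nat_lit 905, nat_lit 9224, nat_lit 4), (nat_lit 1086, nat_lit 9227, nat_lit 4), (nat_lit 342, nat_lit 9245, nat_lit 4), (nat_lit 1467, nat_lit 9246, nat_lit 4), (nat_lit 1443, nat_lit 9249, nat_lit 4), (nat_lit 1561, nat_lit 9250, nat_lit 4), (nat_lit 564, nat_lit 9260, nat_lit 4), (nat_lit 217, nat_lit 9269, nat_lit 4), (nat_lit 2250, nat_lit 9286, nat_lit 4), (nat_lit 557, nat_lit 9287, nat_lit 4), (nat_lit 846, nat_lit 9292, nat_lit 4), (nat_lit 775, nat_lit 9300, nat_lit 4), (nat_lit 1668, nat_lit 9313, nat_lit 4), (nat_lit 778, nat_lit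 9321, nat_lit 4), (nat_lit 653, nat_lit 9326, nat_lit 4), (nat_lit 216, nat_lit 9334, nat_lit 4), (nat_lit 1678, nat_lit 9336, nat_lit 4), (nat_lit 1334, nat_lit 9343, nat_lit 4), (nat_lit 2139, nat_lit 9351, nat_lit 4), (nat_lit 1522, nat_lit 9362, nat_lit 4), (nat_lit 2392, nat_lit 9367, nat_lit 4), (nat_lit 2342, nat_lit 9389, nat_lit 4), (nat_lit 218, nat_lit 9392, nat_lit 4), (nat_lit 2324, nat_lit 9395, nat_lit 4), (nat_lit 1869, nat_lit 9396, nat_lit 4), (nat_lit 2140, nat_lit 9413, nat_lit 4), (nat_lit 912, nat_lit 9427, nat_lit 4), (nat_lit 1342, nat_lit 9437, nat_lit 4), (nat_lit 691, nat_lit 9447, nat_lit 4), (nat_lit 1107, nat_lit 9455, nat_lit 4), (nat_lit 1876, nat_lit 9460, nat_lit 4), (nat_lit 897, nat_lit 9470, nat_lit 4), (nat_lit 1562, nat_lit 9472, nat_lit 4), (nat_lit 1567, nat_lit 9480, nat_lit 4), (nat_lit 1991, nat_lit 9492, nat_lit 4), (nat_lit 1333, nat_lit 9496, nat_lit 4), (nat_lit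 1518, nat_lit 9497, nat_lit 4), (nat_lit 1494, nat_lit 9509, nat_lit 4), (nat_lit 1554, nat_lit 9515, nat_lit 4), (nat_lit 1100, nat_lit 9521, nat_lit 4), (nat_lit 1726, nat_lit 9530, nat_lit 4), (nat_lit 1007, nat_lit 9537, nat_lit 4), (nat_lit 623, nat_lit 9550, nat_lit 4), (nat_lit 2007, nat_lit 9553, nat_lit 4), (nat_lit 2029, nat_lit 9554, nat_lit 4), (nat_lit 948, nat_lit 9558, nat_lit 4), (nat_lit 486, nat_lit 9566, nat_lit 4), (nat_lit 2144, nat_lit 9569, nat_lit 4), (nat_lit 1997, nat_lit 9570, nat_lit 4), (nat_lit 1819, nat_lit 9578, nat_lit 4), (nat_lit 2084, nat_lit 9591, nat_lit 4), (nat_lit 2354, nat_lit 9599, nat_lit 4), (nat_lit 1078, nat_lit 9604, nat_lit 4), (nat_lit 1291, nat_lit 9610, nat_lit 4), (nat_lit 1149, nat_lit 9620, nat_lit 4), (nat_lit 1297, nat_lit 9621, nat_lit 4), (nat_lit 2303, nat_lit 9627, nat_lit 4), (nat_lit 2308, nat_lit 9635, nat_lit 4), (nat_lit 1085, nat_lit 9636,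 nat_lit 4), (nat_lit 1899, nat_lit 9640, nat_lit 4), (nat_lit 1907, nat_lit 9644, nat_lit 4), (nat_lit 1845, nat_lit 9657, nat_lit 4), (nat_lit 2451, nat_lit 9659, nat_lit 4), (nat_lit 2285, nat_lit 9669, nat_lit 4), (nat_lit 1372, nat_lit 9696, nat_lit 4), (nat_lit 827, nat_lit 9703, nat_lit 4), (nat_lit 597, nat_lit 9712, nat_lit 4), (nat_lit 1659, nat_lit 9718, nat_lit 4), (nat_lit 272, nat_lit 9722, nat_lit 4), (nat_lit 1284, nat_lit 9729, nat_lit 4), (nat_lit 2305, nat_lit 9750, nat_lit 4), (nat_lit 1321, nat_lit 9768, nat_lit 4), (nat_lit 1054, nat_lit 9779, nat_lit 4), (nat_lit 1424, nat_lit 9780, nat_lit 4), (nat_lit 1664, nat_lit 9781, nat_lit 4), (nat_lit 1097, nat_lit 9788, nat_lit 4), (nat_lit 1058, nat_lit 9789, nat_lit 4), (nat_lit 1722, nat_lit 9797, nat_lit 4), (nat_lit 1257, nat_lit 9803, nat_lit 4), (nat_lit 1611, nat_lit 9820, nat_lit 4), (nat_lit 547, nat_lit 9832, nat_lit 4), (nat_lit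 2106, nat_lit 9835, nat_lit 4), (nat_lit 2433, nat_lit 9842, nat_lit 4), (nat_lit 1337, nat_lit 9844, nat_lit 4), (nat_lit 994, nat_lit 9871, nat_lit 4), (nat_lit 966, nat_lit 9877, nat_lit 4), (nat_lit 1515, nat_lit 9881, nat_lit 4), (nat_lit 1568, nat_lit 9883, nat_lit 4), (nat_lit 1401, nat_lit 9889, nat_lit 4), (nat_lit 2201, nat_lit 9925, nat_lit 4), (nat_lit 1220, nat_lit 9938, nat_lit 4), (nat_lit 1773, nat_lit 9939, nat_lit 4), (nat_lit 1249, nat_lit 9941, nat_lit 4), (nat_lit 2301, nat_lit 9942, nat_lit 4), (nat_lit 603, nat_lit 9948, nat_lit 4), (nat_lit 1507, nat_lit 9949, nat_lit 4), (nat_lit 1747, nat_lit 9957, nat_lit 4), (nat_lit 810, nat_lit 9967, nat_lit 4), (nat_lit 1901, nat_lit 9974, nat_lit 4), (nat_lit 1462, nat_lit 9977, nat_lit 4), (nat_lit 1186, nat_lit 9978, nat_lit 4), (nat_lit 1915, nat_lit 9986, nat_lit 4), (nat_lit 947, nat_lit 9996, nat_lit 4), (nat_lit 458, nat_lit 9997, nat_lit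 4), (nat_lit 1379, nat_lit 9998, nat_lit 4), (nat_lit 1598, nat_lit 10001, nat_lit 4), (nat_lit 2423, nat_lit 10011, nat_lit 4), (nat_lit 1033, nat_lit 10030, nat_lit 4), (nat_lit 1861, nat_lit 10045, nat_lit 4), (nat_lit 2065, nat_lit 10061, nat_lit 4), (nat_lit 2397, nat_lit 10076, nat_lit 4), (nat_lit 2219, nat_lit 10140, nat_lit 4), (nat_lit 520, nat_lit 10147, nat_lit 4), (nat_lit 2280, nat_lit 10152, nat_lit 4), (nat_lit 1623, nat_lit 10154, nat_lit 4), (nat_lit 852, nat_lit 10163, nat_lit 4), (nat_lit 1706, nat_lit 10164, nat_lit 4), (nat_lit 1228, nat_lit 10166, nat_lit 4), (nat_lit 1465, nat_lit 10168, nat_lit 4), (nat_lit 625, nat_lit 10173, nat_lit 4), (nat_lit 1312, nat_lit 10177, nat_lit 4), (nat_lit 962, nat_lit 10179, nat_lit 4), (nat_lit 1897, nat_lit 10182, nat_lit 4), (nat_lit 1132, nat_lit 10183, nat_lit 4), (nat_lit 1574, nat_lit 10188, nat_lit 4), (nat_lit 1916, nat_lit 10199, nat_lit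 4), (nat_lit 889, nat_lit 10218, nat_lit 4), (nat_lit 2117, nat_lit 10223, nat_lit 4), (nat_lit 904, nat_lit 10241, nat_lit 4), (nat_lit 1736, nat_lit 10242, nat_lit 4), (nat_lit 2427, nat_lit 10262, nat_lit 4), (nat_lit 844, nat_lit 10267, nat_lit 4), (nat_lit 2371, nat_lit 10289, nat_lit 4), (nat_lit 1397, nat_lit 10291, nat_lit 4), (nat_lit 396, nat_lit 10300, nat_lit 4), (nat_lit 1387, nat_lit 10308, nat_lit 4), (nat_lit 992, nat_lit 10315, nat_lit 4), (nat_lit 1287, nat_lit 10325, nat_lit 4), (nat_lit 771, nat_lit 10338, nat_lit 4), (nat_lit 856, nat_lit 10351, nat_lit 4), (nat_lit 1478, nat_lit 10363, nat_lit 4), (nat_lit 919, nat_lit 10364, nat_lit 4), (nat_lit 283, nat_lit 10372, nat_lit 4), (nat_lit 599, nat_lit 10407, nat_lit 4), (nat_lit 979, nat_lit 10419, nat_lit 4), (nat_lit 1949, nat_lit 10445, nat_lit 4), (nat_lit 945, nat_lit 10462, nat_lit 4), (nat_lit 651, nat_lit 10466, nat_lit 4), (nat_lit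 1180, nat_lit 10468, nat_lit 4), (nat_lit 794, nat_lit 10476, nat_lit 4), (nat_lit 944, nat_lit 10487, nat_lit 4), (nat_lit 765, nat_lit 10495, nat_lit 4), (nat_lit 1932, nat_lit 10503, nat_lit 4), (nat_lit 1064, nat_lit 10508, nat_lit 4), (nat_lit 534, nat_lit 10510, nat_lit 4), (nat_lit 1466, nat_lit 10511, nat_lit 4), (nat_lit 1359, nat_lit 10512, nat_lit 4), (nat_lit 2112, nat_lit 10540, nat_lit 4), (nat_lit 1924, nat_lit 10542, nat_lit 4), (nat_lit 1306, nat_lit 10560, nat_lit 4)]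

theorem nb4_4_7 : NbL io phi2 (s 14) w (w 4) (l4_4_7.map Prod.snd) :=
  nbl_of env2 facts rep2 (by norm_num) (by decide +kernel)

def l4_4_8 : List (Nat × Nat × Nat) :=
  [(nat_lit 883, nat_lit 10589, nat_lit 4), (nat_lit 439, nat_lit 10590, nat_lit 4), (nat_lit 2311, nat_lit 10597, nat_lit 4), (nat_lit 410, nat_lit 10600, nat_lit 4), (nat_lit 286, nat_lit 10605, nat_lit 4), (nat_lit 1129, nat_lit 10614, nat_lit 4), (nat_lit 1216, nat_lit 10617, nat_lit 4), (nat_lit 2108, nat_lit 10618, nat_lit 4), (nat_lit 1138, nat_lit 10630, nat_lit 4), (nat_lit 1385, nat_lit 10640, nat_lit 4), (nat_lit 1354, nat_lit 10653, nat_lit 4), (nat_lit 2443, nat_lit 10656, nat_lit 4), (nat_lit 2069, nat_lit 10657, nat_lit 4), (nat_lit 1642, nat_lit 10660, nat_lit 4), (nat_lit 921, nat_lit 10666, nat_lit 4), (nat_lit 1725, nat_lit 10669, nat_lit 4), (nat_lit 1157, nat_lit 10677, nat_lit 4), (nat_lit 1161, nat_lit 10682, nat_lit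 4), (nat_lit 1681, nat_lit 10683, nat_lit 4), (nat_lit 767, nat_lit 10691, nat_lit 4), (nat_lit 655, nat_lit 10694, nat_lit 4), (nat_lit 949, nat_lit 10697, nat_lit 4), (nat_lit 1528, nat_lit 10701, nat_lit 4), (nat_lit 2015, nat_lit 10705, nat_lit 4), (nat_lit 1270, nat_lit 10713, nat_lit 4), (nat_lit 2288, nat_lit 10722, nat_lit 4), (nat_lit 1106, nat_lit 10723, nat_lit 4), (nat_lit 1761, nat_lit 10731, nat_lit 4), (nat_lit 235, nat_lit 10742, nat_lit 4), (nat_lit 2110, nat_lit 10744, nat_lit 4), (nat_lit 1910, nat_lit 10789, nat_lit 4), (nat_lit 2432, nat_lit 10795, nat_lit 4), (nat_lit 950, nat_lit 10797, nat_lit 4), (nat_lit 2128, nat_lit 10805, nat_lit 4), (nat_lit 1874, nat_lit 10810, nat_lit 4), (nat_lit 1119, nat_lit 10812, nat_lit 4), (nat_lit 1111, nat_lit 10813, nat_lit 4), (nat_lit 1717, nat_lit 10816, nat_lit 4), (nat_lit 2319, nat_lit 10818, nat_lit 4), (nat_lit 1305, nat_lit 10820, nat_lit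 4), (nat_lit 1775, nat_lit 10822, nat_lit 4), (nat_lit 841, nat_lit 10830, nat_lit 4), (nat_lit 1697, nat_lit 10833, nat_lit 4), (nat_lit 763, nat_lit 10839, nat_lit 4), (nat_lit 1637, nat_lit 10851, nat_lit 4), (nat_lit 558, nat_lit 10855, nat_lit 4), (nat_lit 1973, nat_lit 10864, nat_lit 4), (nat_lit 812, nat_lit 10866, nat_lit 4), (nat_lit 1610, nat_lit 10867, nat_lit 4), (nat_lit 766, nat_lit 10868, nat_lit 4), (nat_lit 1215, nat_lit 10886, nat_lit 4), (nat_lit 938, nat_lit 10887, nat_lit 4), (nat_lit 1067, nat_lit 10895, nat_lit 4), (nat_lit 1763, nat_lit 10898, nat_lit 4), (nat_lit 631, nat_lit 10901, nat_lit 4), (nat_lit 332, nat_lit 10913, nat_lit 4), (nat_lit 2313, nat_lit 10929, nat_lit 4), (nat_lit 1579, nat_lit 10934, nat_lit 4), (nat_lit 1217, nat_lit 10941, nat_lit 4), (nat_lit 1184, nat_lit 10942, nat_lit 4), (nat_lit 1375, nat_lit 10943, nat_lit 4), (nat_lit 770, nat_lit 10961, nat_lit 4),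 (nat_lit 2127, nat_lit 10963, nat_lit 4), (nat_lit 344, nat_lit 10965, nat_lit 4), (nat_lit 946, nat_lit 10981, nat_lit 4), (nat_lit 1708, nat_lit 10984, nat_lit 4), (nat_lit 1431, nat_lit 10993, nat_lit 4), (nat_lit 2221, nat_lit 10998, nat_lit 4), (nat_lit 1072, nat_lit 11003, nat_lit 4), (nat_lit 974, nat_lit 11009, nat_lit 4), (nat_lit 2281, nat_lit 11011, nat_lit 4), (nat_lit 1434, nat_lit 11021, nat_lit 4), (nat_lit 268, nat_lit 11022, nat_lit 4), (nat_lit 1793, nat_lit 11028, nat_lit 4), (nat_lit 2445, nat_lit 11032, nat_lit 4), (nat_lit 865, nat_lit 11034, nat_lit 4), (nat_lit 1004, nat_lit 11049, nat_lit 4), (nat_lit 1468, nat_lit 11050, nat_lit 4), (nat_lit 1278, nat_lit 11056, nat_lit 4), (nat_lit 2150, nat_lit 11064, nat_lit 4), (nat_lit 1026, nat_lit 11069, nat_lit 4), (nat_lit 1027, nat_lit 11094, nat_lit 4), (nat_lit 295, nat_lit 11107, nat_lit 4), (nat_lit 1352, nat_lit 11109, nat_lit 4),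 (nat_lit 287, nat_lit 11117, nat_lit 4), (nat_lit 241, nat_lit 11124, nat_lit 4), (nat_lit 935, nat_lit 11125, nat_lit 4), (nat_lit 1345, nat_lit 11131, nat_lit 4), (nat_lit 1133, nat_lit 11155, nat_lit 4), (nat_lit 1604, nat_lit 11158, nat_lit 4), (nat_lit 468, nat_lit 11165, nat_lit 4), (nat_lit 2111, nat_lit 11168, nat_lit 4), (nat_lit 2346, nat_lit 11179, nat_lit 4), (nat_lit 1979, nat_lit 11200, nat_lit 4), (nat_lit 1622, nat_lit 11207, nat_lit 4), (nat_lit 2097, nat_lit 11208, nat_lit 4), (nat_lit 364, nat_lit 11220, nat_lit 4), (nat_lit 1135, nat_lit 11227, nat_lit 4), (nat_lit 918, nat_lit 11239, nat_lit 4), (nat_lit 1002, nat_lit 11245, nat_lit 4), (nat_lit 2082, nat_lit 11252, nat_lit 4), (nat_lit 1153, nat_lit 11261, nat_lit 4), (nat_lit 757, nat_lit 11263, nat_lit 4), (nat_lit 1844, nat_lit 11297, nat_lit 4), (nat_lit 1378, nat_lit 11298, nat_lit 4), (nat_lit 1280, nat_lit 11301, nat_lit 4),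 (nat_lit 1020, nat_lit 11302, nat_lit 4), (nat_lit 1536, nat_lit 11317, nat_lit 4), (nat_lit 1655, nat_lit 11321, nat_lit 4), (nat_lit 2060, nat_lit 11324, nat_lit 4), (nat_lit 1558, nat_lit 11356, nat_lit 4), (nat_lit 1886, nat_lit 11369, nat_lit 4), (nat_lit 1990, nat_lit 11378, nat_lit 4), (nat_lit 1024, nat_lit 11387, nat_lit 4), (nat_lit 2124, nat_lit 11393, nat_lit 4), (nat_lit 869, nat_lit 11418, nat_lit 4), (nat_lit 1834, nat_lit 11432, nat_lit 4), (nat_lit 1621, nat_lit 11437, nat_lit 4), (nat_lit 1836, nat_lit 11439, nat_lit 4), (nat_lit 481, nat_lit 11450, nat_lit 4), (nat_lit 857, nat_lit 11475, nat_lit 4), (nat_lit 1335, nat_lit 11479, nat_lit 4), (nat_lit 1128, nat_lit 11490, nat_lit 4), (nat_lit 797, nat_lit 11498, nat_lit 4), (nat_lit 367, nat_lit 11509, nat_lit 4), (nat_lit 2234, nat_lit 11512, nat_lit 4), (nat_lit 1912, nat_lit 11538, nat_lit 4), (nat_lit 371, nat_lit 11541, nat_lit 4),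 (nat_lit 1618, nat_lit 11561, nat_lit 4), (nat_lit 1423, nat_lit 11574, nat_lit 4), (nat_lit 2258, nat_lit 11575, nat_lit 4), (nat_lit 801, nat_lit 11583, nat_lit 4), (nat_lit 1948, nat_lit 11601, nat_lit 4), (nat_lit 1766, nat_lit 11607, nat_lit 4), (nat_lit 1234, nat_lit 11609, nat_lit 4), (nat_lit 1560, nat_lit 11614, nat_lit 4), (nat_lit 1559, nat_lit 11622, nat_lit 4), (nat_lit 275, nat_lit 11629, nat_lit 4), (nat_lit 622, nat_lit 11630, nat_lit 4), (nat_lit 957, nat_lit 11646, nat_lit 4), (nat_lit 1473, nat_lit 11647, nat_lit 4), (nat_lit 1109, nat_lit 11656, nat_lit 4), (nat_lit 294, nat_lit 11672, nat_lit 4), (nat_lit 2245, nat_lit 11676, nat_lit 4), (nat_lit 1779, nat_lit 11691, nat_lit 4), (nat_lit 1853, nat_lit 11698, nat_lit 4), (nat_lit 2203, nat_lit 11699, nat_lit 4), (nat_lit 1174, nat_lit 11706, nat_lit 4), (nat_lit 1349, nat_lit 11707, nat_lit 4), (nat_lit 2292, nat_lit 11710, nat_lit 4),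 (nat_lit 301, nat_lit 11713, nat_lit 4), (nat_lit 619, nat_lit 11720, nat_lit 4), (nat_lit 1954, nat_lit 11721, nat_lit 4), (nat_lit 476, nat_lit 11728, nat_lit 4), (nat_lit 2242, nat_lit 11746, nat_lit 4), (nat_lit 2132, nat_lit 11751, nat_lit 4), (nat_lit 1955, nat_lit 11753, nat_lit 4), (nat_lit 2403, nat_lit 11754, nat_lit 4), (nat_lit 1014, nat_lit 11755, nat_lit 4)]

theorem nb4_4_8 : NbL io phi2 (s 14) w (w 4) (l4_4_8.map Prod.snd) :=
  nbl_of env2 facts rep2 (by norm_num) (by decide +kernel)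

def l4_4_9 : List (Nat × Nat × Nat) :=
  [(nat_lit 384, nat_lit 11756, nat_lit 4), (nat_lit 1309, nat_lit 11760, nat_lit 4), (nat_lit 324, nat_lit 11761, nat_lit 4), (nat_lit 1486, nat_lit 11767, nat_lit 4), (nat_lit 750, nat_lit 11774, nat_lit 4), (nat_lit 1765, nat_lit 11784, nat_lit 4), (nat_lit 895, nat_lit 11789, nat_lit 4), (nat_lit 1315, nat_lit 11797, nat_lit 4), (nat_lit 2431, nat_lit 11822, nat_lit 4), (nat_lit 1586, nat_lit 11823, nat_lit 4), (nat_lit 234, nat_lit 11827, nat_lit 4), (nat_lit 1492, nat_lit 11836, nat_lit 4), (nat_lit 2282, nat_lit 11838, nat_lit 4), (nat_lit 990, nat_lit 11846, nat_lit 4), (nat_lit 561, nat_lit 11847, nat_lit 4), (nat_lit 1065, nat_lit 11850, nat_lit 4), (nat_lit 928, nat_lit 11867, nat_lit 4), (nat_lit 877, nat_lit 11871, nat_lit 4), (nat_lit 1198, nat_lit 11878, nat_lit 4), (nat_lit 1455, nat_lit 11892, nat_lit 4), (nat_lit 694, nat_lit 11900, nat_lit 4), (nat_lit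 443, nat_lit 11901, nat_lit 4), (nat_lit 563, nat_lit 11902, nat_lit 4), (nat_lit 834, nat_lit 11903, nat_lit 4), (nat_lit 270, nat_lit 11905, nat_lit 4), (nat_lit 816, nat_lit 11917, nat_lit 4), (nat_lit 1363, nat_lit 11923, nat_lit 4), (nat_lit 2452, nat_lit 11926, nat_lit 4), (nat_lit 1758, nat_lit 11928, nat_lit 4), (nat_lit 1502, nat_lit 11939, nat_lit 4), (nat_lit 532, nat_lit 11954, nat_lit 4), (nat_lit 247, nat_lit 11963, nat_lit 4), (nat_lit 1246, nat_lit 11964, nat_lit 4), (nat_lit 1733, nat_lit 11966, nat_lit 4), (nat_lit 581, nat_lit 12010, nat_lit 4), (nat_lit 839, nat_lit 12025, nat_lit 4), (nat_lit 1791, nat_lit 12026, nat_lit 4), (nat_lit 1890, nat_lit 12036, nat_lit 4), (nat_lit 1785, nat_lit 12038, nat_lit 4), (nat_lit 1470, nat_lit 12039, nat_lit 4), (nat_lit 347, nat_lit 12044, nat_lit 4), (nat_lit 2220, nat_lit 12045, nat_lit 4), (nat_lit 814, nat_lit 12047, nat_lit 4), (nat_lit 1229,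 nat_lit 12066, nat_lit 4), (nat_lit 208, nat_lit 12086, nat_lit 4), (nat_lit 2414, nat_lit 12088, nat_lit 4), (nat_lit 1703, nat_lit 12092, nat_lit 4), (nat_lit 2235, nat_lit 12098, nat_lit 4), (nat_lit 1262, nat_lit 12100, nat_lit 4), (nat_lit 2216, nat_lit 12102, nat_lit 4), (nat_lit 886, nat_lit 12104, nat_lit 4), (nat_lit 404, nat_lit 12115, nat_lit 4), (nat_lit 1880, nat_lit 12119, nat_lit 4), (nat_lit 2275, nat_lit 12120, nat_lit 4), (nat_lit 678, nat_lit 12121, nat_lit 4), (nat_lit 1928, nat_lit 12125, nat_lit 4), (nat_lit 2077, nat_lit 12135, nat_lit 4), (nat_lit 323, nat_lit 12142, nat_lit 4), (nat_lit 418, nat_lit 12147, nat_lit 4), (nat_lit 437, nat_lit 12149, nat_lit 4), (nat_lit 1188, nat_lit 12158, nat_lit 4), (nat_lit 1641, nat_lit 12164, nat_lit 4), (nat_lit 1707, nat_lit 12195, nat_lit 4), (nat_lit 996, nat_lit 12200, nat_lit 4), (nat_lit 2126, nat_lit 12215, nat_lit 4), (nat_lit 1450, nat_lit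 12230, nat_lit 4), (nat_lit 507, nat_lit 12249, nat_lit 4), (nat_lit 246, nat_lit 12265, nat_lit 4), (nat_lit 515, nat_lit 12268, nat_lit 4), (nat_lit 1331, nat_lit 12272, nat_lit 4), (nat_lit 985, nat_lit 12297, nat_lit 4), (nat_lit 2394, nat_lit 12298, nat_lit 4), (nat_lit 2302, nat_lit 12303, nat_lit 4), (nat_lit 1181, nat_lit 12307, nat_lit 4), (nat_lit 871, nat_lit 12328, nat_lit 4), (nat_lit 209, nat_lit 12329, nat_lit 4), (nat_lit 1419, nat_lit 12332, nat_lit 4), (nat_lit 2359, nat_lit 12335, nat_lit 4), (nat_lit 372, nat_lit 12346, nat_lit 4), (nat_lit 1605, nat_lit 12371, nat_lit 4), (nat_lit 358, nat_lit 12404, nat_lit 4), (nat_lit 496, nat_lit 12412, nat_lit 4), (nat_lit 1244, nat_lit 12419, nat_lit 4), (nat_lit 911, nat_lit 12422, nat_lit 4), (nat_lit 2413, nat_lit 12427, nat_lit 4), (nat_lit 2075, nat_lit 12438, nat_lit 4), (nat_lit 583, nat_lit 12461, nat_lit 4), (nat_lit 1172, nat_lit 12467,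 nat_lit 4), (nat_lit 988, nat_lit 12469, nat_lit 4), (nat_lit 1260, nat_lit 12486, nat_lit 4), (nat_lit 1045, nat_lit 12496, nat_lit 4), (nat_lit 1376, nat_lit 12505, nat_lit 4), (nat_lit 1222, nat_lit 12508, nat_lit 4), (nat_lit 1407, nat_lit 12512, nat_lit 4), (nat_lit 1013, nat_lit 12515, nat_lit 4), (nat_lit 1115, nat_lit 12522, nat_lit 4), (nat_lit 454, nat_lit 12526, nat_lit 4), (nat_lit 1185, nat_lit 12527, nat_lit 4), (nat_lit 1893, nat_lit 12542, nat_lit 4), (nat_lit 1829, nat_lit 12547, nat_lit 4), (nat_lit 2361, nat_lit 12552, nat_lit 4), (nat_lit 1497, nat_lit 12554, nat_lit 4), (nat_lit 828, nat_lit 12561, nat_lit 4), (nat_lit 2332, nat_lit 12572, nat_lit 4), (nat_lit 549, nat_lit 12582, nat_lit 4), (nat_lit 484, nat_lit 12587, nat_lit 4), (nat_lit 244, nat_lit 12598, nat_lit 4), (nat_lit 221, nat_lit 12616, nat_lit 4), (nat_lit 1966, nat_lit 12619, nat_lit 4), (nat_lit 2404, nat_lit 12632,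 nat_lit 4), (nat_lit 424, nat_lit 12634, nat_lit 4), (nat_lit 937, nat_lit 12637, nat_lit 4), (nat_lit 751, nat_lit 12643, nat_lit 4), (nat_lit 498, nat_lit 12658, nat_lit 4), (nat_lit 1028, nat_lit 12673, nat_lit 4), (nat_lit 1197, nat_lit 12689, nat_lit 4), (nat_lit 206, nat_lit 12690, nat_lit 4), (nat_lit 1212, nat_lit 12721, nat_lit 4), (nat_lit 546, nat_lit 12724, nat_lit 4), (nat_lit 322, nat_lit 12725, nat_lit 4), (nat_lit 1061, nat_lit 12728, nat_lit 4), (nat_lit 907, nat_lit 12737, nat_lit 4), (nat_lit 1689, nat_lit 12739, nat_lit 4), (nat_lit 2148, nat_lit 12746, nat_lit 4), (nat_lit 2353, nat_lit 12751, nat_lit 4), (nat_lit 1274, nat_lit 12752, nat_lit 4), (nat_lit 1435, nat_lit 12755, nat_lit 4), (nat_lit 1889, nat_lit 12759, nat_lit 4), (nat_lit 2351, nat_lit 12762, nat_lit 4), (nat_lit 1615, nat_lit 12769, nat_lit 4), (nat_lit 1822, nat_lit 12772, nat_lit 4), (nat_lit 1196, nat_lit 12782, nat_lit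 4), (nat_lit 1933, nat_lit 12823, nat_lit 4), (nat_lit 1417, nat_lit 12824, nat_lit 4), (nat_lit 1900, nat_lit 12838, nat_lit 4), (nat_lit 776, nat_lit 12839, nat_lit 4), (nat_lit 2326, nat_lit 12840, nat_lit 4), (nat_lit 526, nat_lit 12851, nat_lit 4), (nat_lit 1525, nat_lit 12856, nat_lit 4), (nat_lit 1460, nat_lit 12858, nat_lit 4), (nat_lit 1461, nat_lit 12859, nat_lit 4), (nat_lit 336, nat_lit 12864, nat_lit 4), (nat_lit 2257, nat_lit 12890, nat_lit 4), (nat_lit 1833, nat_lit 12901, nat_lit 4), (nat_lit 764, nat_lit 12904, nat_lit 4), (nat_lit 504, nat_lit 12906, nat_lit 4), (nat_lit 2411, nat_lit 12929, nat_lit 4), (nat_lit 1194, nat_lit 12930, nat_lit 4), (nat_lit 1864, nat_lit 12940, nat_lit 4), (nat_lit 967, nat_lit 12944, nat_lit 4), (nat_lit 932, nat_lit 12961, nat_lit 4), (nat_lit 479, nat_lit 12972, nat_lit 4), (nat_lit 1477, nat_lit 12978, nat_lit 4), (nat_lit 1988, nat_lit 12981, nat_lit 4),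 (nat_lit 2225, nat_lit 12982, nat_lit 4), (nat_lit 1938, nat_lit 12991, nat_lit 4), (nat_lit 1914, nat_lit 12992, nat_lit 4), (nat_lit 1137, nat_lit 12999, nat_lit 4), (nat_lit 887, nat_lit 13017, nat_lit 4), (nat_lit 2334, nat_lit 13018, nat_lit 4), (nat_lit 1542, nat_lit 13041, nat_lit 4), (nat_lit 2331, nat_lit 13047, nat_lit 4), (nat_lit 522, nat_lit 13073, nat_lit 4)]

theorem nb4_4_9 : NbL io phi2 (s 14) w (w 4) (l4_4_9.map Prod.snd) :=
  nbl_of env2 facts rep2 (by norm_num) (by decide +kernel)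

def l4_4_10 : List (Nat × Nat × Nat) :=
  [(nat_lit 2001, nat_lit 13082, nat_lit 4), (nat_lit 1489, nat_lit 13090, nat_lit 4), (nat_lit 1482, nat_lit 13092, nat_lit 4), (nat_lit 1989, nat_lit 13107, nat_lit 4), (nat_lit 1211, nat_lit 13115, nat_lit 4), (nat_lit 1276, nat_lit 13136, nat_lit 4), (nat_lit 1803, nat_lit 13139, nat_lit 4), (nat_lit 2377, nat_lit 13140, nat_lit 4), (nat_lit 400, nat_lit 13158, nat_lit 4), (nat_lit 799, nat_lit 13166, nat_lit 4), (nat_lit 1299, nat_lit 13171, nat_lit 4), (nat_lit 995, nat_lit 13179, nat_lit 4), (nat_lit 493, nat_lit 13180, nat_lit 4), (nat_lit 2254, nat_lit 13184, nat_lit 4), (nat_lit 1670, nat_lit 13193, nat_lit 4), (nat_lit 1640, nat_lit 13198, nat_lit 4), (nat_lit 2304, nat_lit 13206, nat_lit 4), (nat_lit 2428, nat_lit 13220, nat_lit 4), (nat_lit 1723, nat_lit 13222, nat_lit 4), (nat_lit 1743, nat_lit 13227, nat_lit 4), (nat_lit 248, nat_lit 13240, nat_lit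 4), (nat_lit 1202, nat_lit 13261, nat_lit 4), (nat_lit 822, nat_lit 13269, nat_lit 4), (nat_lit 250, nat_lit 13275, nat_lit 4), (nat_lit 632, nat_lit 13281, nat_lit 4), (nat_lit 284, nat_lit 13284, nat_lit 4), (nat_lit 575, nat_lit 13285, nat_lit 4), (nat_lit 1510, nat_lit 13289, nat_lit 4), (nat_lit 2348, nat_lit 13300, nat_lit 4), (nat_lit 354, nat_lit 13301, nat_lit 4), (nat_lit 1782, nat_lit 13303, nat_lit 4), (nat_lit 1841, nat_lit 13304, nat_lit 4), (nat_lit 659, nat_lit 13306, nat_lit 4), (nat_lit 1089, nat_lit 13309, nat_lit 4), (nat_lit 1267, nat_lit 13316, nat_lit 4), (nat_lit 2355, nat_lit 13321, nat_lit 4), (nat_lit 991, nat_lit 13323, nat_lit 4), (nat_lit 380, nat_lit 13327, nat_lit 4), (nat_lit 2253, nat_lit 13360, nat_lit 4), (nat_lit 1340, nat_lit 13371, nat_lit 4), (nat_lit 1233, nat_lit 13376, nat_lit 4), (nat_lit 891, nat_lit 13380, nat_lit 4), (nat_lit 1546, nat_lit 13385, nat_lit 4),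 (nat_lit 1967, nat_lit 13401, nat_lit 4), (nat_lit 657, nat_lit 13422, nat_lit 4), (nat_lit 512, nat_lit 13436, nat_lit 4), (nat_lit 1852, nat_lit 13448, nat_lit 4), (nat_lit 2076, nat_lit 13459, nat_lit 4), (nat_lit 692, nat_lit 13468, nat_lit 4), (nat_lit 417, nat_lit 13470, nat_lit 4), (nat_lit 513, nat_lit 13490, nat_lit 4), (nat_lit 806, nat_lit 13494, nat_lit 4), (nat_lit 1633, nat_lit 13501, nat_lit 4), (nat_lit 2105, nat_lit 13504, nat_lit 4), (nat_lit 343, nat_lit 13508, nat_lit 4), (nat_lit 1810, nat_lit 13510, nat_lit 4), (nat_lit 1441, nat_lit 13514, nat_lit 4), (nat_lit 1080, nat_lit 13516, nat_lit 4), (nat_lit 1685, nat_lit 13518, nat_lit 4), (nat_lit 327, nat_lit 13520, nat_lit 4), (nat_lit 1585, nat_lit 13535, nat_lit 4), (nat_lit 2064, nat_lit 13536, nat_lit 4), (nat_lit 1662, nat_lit 13554, nat_lit 4), (nat_lit 477, nat_lit 13574, nat_lit 4), (nat_lit 1081, nat_lit 13580, nat_lit 4), (nat_lit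 2424, nat_lit 13584, nat_lit 4), (nat_lit 285, nat_lit 13603, nat_lit 4), (nat_lit 502, nat_lit 13609, nat_lit 4), (nat_lit 359, nat_lit 13610, nat_lit 4), (nat_lit 1778, nat_lit 13662, nat_lit 4), (nat_lit 1125, nat_lit 13671, nat_lit 4), (nat_lit 1927, nat_lit 13672, nat_lit 4), (nat_lit 1095, nat_lit 13677, nat_lit 4), (nat_lit 1919, nat_lit 13683, nat_lit 4), (nat_lit 2167, nat_lit 13684, nat_lit 4), (nat_lit 243, nat_lit 13693, nat_lit 4), (nat_lit 391, nat_lit 13696, nat_lit 4), (nat_lit 1762, nat_lit 13703, nat_lit 4), (nat_lit 2152, nat_lit 13728, nat_lit 4), (nat_lit 463, nat_lit 13747, nat_lit 4), (nat_lit 436, nat_lit 13754, nat_lit 4), (nat_lit 641, nat_lit 13762, nat_lit 4), (nat_lit 2166, nat_lit 13772, nat_lit 4), (nat_lit 587, nat_lit 13781, nat_lit 4), (nat_lit 1182, nat_lit 13790, nat_lit 4), (nat_lit 1593, nat_lit 13794, nat_lit 4), (nat_lit 1929, nat_lit 13802, nat_lit 4), (nat_lit 1050,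 nat_lit 13805, nat_lit 4), (nat_lit 362, nat_lit 13807, nat_lit 4), (nat_lit 1170, nat_lit 13808, nat_lit 4), (nat_lit 457, nat_lit 13828, nat_lit 4), (nat_lit 2232, nat_lit 13843, nat_lit 4), (nat_lit 1141, nat_lit 13845, nat_lit 4), (nat_lit 451, nat_lit 13891, nat_lit 4), (nat_lit 952, nat_lit 13906, nat_lit 4), (nat_lit 351, nat_lit 13930, nat_lit 4), (nat_lit 1797, nat_lit 13941, nat_lit 4), (nat_lit 355, nat_lit 13950, nat_lit 4), (nat_lit 2113, nat_lit 13968, nat_lit 4), (nat_lit 555, nat_lit 13970, nat_lit 4), (nat_lit 2358, nat_lit 13979, nat_lit 4), (nat_lit 1205, nat_lit 14014, nat_lit 4), (nat_lit 545, nat_lit 14016, nat_lit 4), (nat_lit 1428, nat_lit 14021, nat_lit 4), (nat_lit 2052, nat_lit 14022, nat_lit 4), (nat_lit 309, nat_lit 14027, nat_lit 4), (nat_lit 642, nat_lit 14033, nat_lit 4), (nat_lit 440, nat_lit 14042, nat_lit 4), (nat_lit 1057, nat_lit 14043, nat_lit 4), (nat_lit 2374, nat_lit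 14044, nat_lit 4), (nat_lit 1590, nat_lit 14052, nat_lit 4), (nat_lit 2237, nat_lit 14062, nat_lit 4), (nat_lit 1729, nat_lit 14067, nat_lit 4), (nat_lit 1571, nat_lit 14092, nat_lit 4), (nat_lit 428, nat_lit 14094, nat_lit 4), (nat_lit 1757, nat_lit 14109, nat_lit 4), (nat_lit 668, nat_lit 14111, nat_lit 4), (nat_lit 365, nat_lit 14121, nat_lit 4), (nat_lit 1001, nat_lit 14122, nat_lit 4), (nat_lit 2178, nat_lit 14126, nat_lit 4), (nat_lit 1831, nat_lit 14132, nat_lit 4), (nat_lit 571, nat_lit 14134, nat_lit 4), (nat_lit 525, nat_lit 14153, nat_lit 4), (nat_lit 1159, nat_lit 14162, nat_lit 4), (nat_lit 2437, nat_lit 14189, nat_lit 4), (nat_lit 954, nat_lit 14205, nat_lit 4), (nat_lit 873, nat_lit 14227, nat_lit 4), (nat_lit 225, nat_lit 14236, nat_lit 4), (nat_lit 1437, nat_lit 14252, nat_lit 4), (nat_lit 1427, nat_lit 14256, nat_lit 4), (nat_lit 1008, nat_lit 14276, nat_lit 4), (nat_lit 1804, nat_lit 14278,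 nat_lit 4), (nat_lit 2316, nat_lit 14280, nat_lit 4), (nat_lit 2329, nat_lit 14305, nat_lit 4), (nat_lit 1394, nat_lit 14307, nat_lit 4), (nat_lit 2170, nat_lit 14326, nat_lit 4), (nat_lit 340, nat_lit 14331, nat_lit 4), (nat_lit 792, nat_lit 14338, nat_lit 4), (nat_lit 531, nat_lit 14341, nat_lit 4), (nat_lit 835, nat_lit 14342, nat_lit 4), (nat_lit 845, nat_lit 14345, nat_lit 4), (nat_lit 1965, nat_lit 14358, nat_lit 4), (nat_lit 2406, nat_lit 14378, nat_lit 4), (nat_lit 1711, nat_lit 14382, nat_lit 4), (nat_lit 223, nat_lit 14386, nat_lit 4), (nat_lit 2399, nat_lit 14399, nat_lit 4), (nat_lit 1545, nat_lit 14410, nat_lit 4), (nat_lit 1940, nat_lit 14422, nat_lit 4), (nat_lit 577, nat_lit 14438, nat_lit 4), (nat_lit 999, nat_lit 14441, nat_lit 4), (nat_lit 2107, nat_lit 14445, nat_lit 4), (nat_lit 1484, nat_lit 14448, nat_lit 4)]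

theorem nb4_4_10 : NbL io phi2 (s 14) w (w 4) (l4_4_10.map Prod.snd) :=
  nbl_of env2 facts rep2 (by norm_num) (by decide +kernel)

def l4_4_11 : List (Nat × Nat × Nat) :=
  [(nat_lit 1463, nat_lit 14449, nat_lit 4), (nat_lit 1344, nat_lit 14454, nat_lit 4), (nat_lit 2138, nat_lit 14462, nat_lit 4), (nat_lit 1508, nat_lit 14489, nat_lit 4), (nat_lit 1120, nat_lit 14494, nat_lit 4), (nat_lit 2293, nat_lit 14499, nat_lit 4), (nat_lit 2175, nat_lit 14508, nat_lit 4), (nat_lit 931, nat_lit 14519, nat_lit 4), (nat_lit 2341, nat_lit 14525, nat_lit 4), (nat_lit 2049, nat_lit 14539, nat_lit 4), (nat_lit 2290, nat_lit 14540, nat_lit 4), (nat_lit 231, nat_lit 14547, nat_lit 4), (nat_lit 1632, nat_lit 14553, nat_lit 4), (nat_lit 1596, nat_lit 14557, nat_lit 4), (nat_lit 1451, nat_lit 14564, nat_lit 4), (nat_lit 1959, nat_lit 14565, nat_lit 4), (nat_lit 1176, nat_lit 14568, nat_lit 4), (nat_lit 866, nat_lit 14571,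 nat_lit 4), (nat_lit 2141, nat_lit 14587, nat_lit 4), (nat_lit 224, nat_lit 14603, nat_lit 4), (nat_lit 795, nat_lit 14610, nat_lit 4), (nat_lit 894, nat_lit 14611, nat_lit 4), (nat_lit 537, nat_lit 14618, nat_lit 4), (nat_lit 2042, nat_lit 14669, nat_lit 4), (nat_lit 456, nat_lit 14675, nat_lit 4), (nat_lit 1500, nat_lit 14683, nat_lit 4), (nat_lit 648, nat_lit 14690, nat_lit 4), (nat_lit 1408, nat_lit 14693, nat_lit 4), (nat_lit 2390, nat_lit 14701, nat_lit 4), (nat_lit 1620, nat_lit 14710, nat_lit 4), (nat_lit 219, nat_lit 14716, nat_lit 4), (nat_lit 222, nat_lit 14735, nat_lit 4), (nat_lit 357, nat_lit 14737, nat_lit 4), (nat_lit 670, nat_lit 14752, nat_lit 4), (nat_lit 1650, nat_lit 14753, nat_lit 4), (nat_lit 381, nat_lit 14759, nat_lit 4), (nat_lit 1566, nat_lit 14773, nat_lit 4), (nat_lit 1148, nat_lit 14778, nat_lit 4), (nat_lit 870, nat_lit 14779, nat_lit 4), (nat_lit 2284, nat_lit 14782, nat_lit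 4), (nat_lit 213, nat_lit 14784, nat_lit 4), (nat_lit 689, nat_lit 14791, nat_lit 4), (nat_lit 2040, nat_lit 14796, nat_lit 4), (nat_lit 1597, nat_lit 14811, nat_lit 4), (nat_lit 1581, nat_lit 14821, nat_lit 4), (nat_lit 2157, nat_lit 14829, nat_lit 4), (nat_lit 1937, nat_lit 14830, nat_lit 4), (nat_lit 2147, nat_lit 14839, nat_lit 4), (nat_lit 360, nat_lit 14884, nat_lit 4), (nat_lit 442, nat_lit 14902, nat_lit 4), (nat_lit 487, nat_lit 14904, nat_lit 4), (nat_lit 1254, nat_lit 14914, nat_lit 4), (nat_lit 977, nat_lit 14917, nat_lit 4), (nat_lit 1963, nat_lit 14927, nat_lit 4), (nat_lit 2244, nat_lit 14930, nat_lit 4), (nat_lit 786, nat_lit 14940, nat_lit 4), (nat_lit 762, nat_lit 14941, nat_lit 4), (nat_lit 1069, nat_lit 14949, nat_lit 4), (nat_lit 2335, nat_lit 14951, nat_lit 4), (nat_lit 791, nat_lit 14973, nat_lit 4), (nat_lit 2202, nat_lit 15000, nat_lit 4), (nat_lit 1168, nat_lit 15002, nat_lit 4),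 (nat_lit 1193, nat_lit 15007, nat_lit 4), (nat_lit 620, nat_lit 15020, nat_lit 4), (nat_lit 414, nat_lit 15027, nat_lit 4), (nat_lit 1911, nat_lit 15049, nat_lit 4), (nat_lit 1709, nat_lit 15056, nat_lit 4), (nat_lit 1476, nat_lit 15060, nat_lit 4), (nat_lit 864, nat_lit 15067, nat_lit 4), (nat_lit 585, nat_lit 15087, nat_lit 4), (nat_lit 1122, nat_lit 15113, nat_lit 4), (nat_lit 530, nat_lit 15117, nat_lit 4), (nat_lit 1479, nat_lit 15132, nat_lit 4), (nat_lit 2116, nat_lit 15152, nat_lit 4), (nat_lit 2145, nat_lit 15155, nat_lit 4), (nat_lit 1638, nat_lit 15166, nat_lit 4), (nat_lit 1051, nat_lit 15171, nat_lit 4), (nat_lit 1537, nat_lit 15179, nat_lit 4), (nat_lit 1824, nat_lit 15188, nat_lit 4), (nat_lit 687, nat_lit 15207, nat_lit 4), (nat_lit 1017, nat_lit 15223, nat_lit 4), (nat_lit 1866, nat_lit 15227, nat_lit 4), (nat_lit 2425, nat_lit 15229, nat_lit 4), (nat_lit 976, nat_lit 15238, nat_lit 4),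 (nat_lit 1946, nat_lit 15241, nat_lit 4), (nat_lit 1996, nat_lit 15244, nat_lit 4), (nat_lit 1490, nat_lit 15256, nat_lit 4), (nat_lit 880, nat_lit 15259, nat_lit 4), (nat_lit 922, nat_lit 15264, nat_lit 4), (nat_lit 1935, nat_lit 15291, nat_lit 4), (nat_lit 1556, nat_lit 15313, nat_lit 4), (nat_lit 1865, nat_lit 15323, nat_lit 4), (nat_lit 1231, nat_lit 15324, nat_lit 4), (nat_lit 2381, nat_lit 15338, nat_lit 4), (nat_lit 607, nat_lit 15339, nat_lit 4), (nat_lit 1715, nat_lit 15351, nat_lit 4), (nat_lit 808, nat_lit 15361, nat_lit 4), (nat_lit 953, nat_lit 15368, nat_lit 4), (nat_lit 438, nat_lit 15370, nat_lit 4), (nat_lit 1068, nat_lit 15374, nat_lit 4), (nat_lit 379, nat_lit 15378, nat_lit 4), (nat_lit 1601, nat_lit 15391, nat_lit 4), (nat_lit 1329, nat_lit 15405, nat_lit 4), (nat_lit 1066, nat_lit 15408, nat_lit 4), (nat_lit 1745, nat_lit 15409, nat_lit 4), (nat_lit 862, nat_lit 15418, nat_lit 4), (nat_lit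 1403, nat_lit 15423, nat_lit 4), (nat_lit 2214, nat_lit 15428, nat_lit 4), (nat_lit 615, nat_lit 15432, nat_lit 4), (nat_lit 1370, nat_lit 15439, nat_lit 4), (nat_lit 981, nat_lit 15445, nat_lit 4), (nat_lit 879, nat_lit 15452, nat_lit 4), (nat_lit 987, nat_lit 15453, nat_lit 4), (nat_lit 1092, nat_lit 15455, nat_lit 4), (nat_lit 459, nat_lit 15458, nat_lit 4), (nat_lit 1553, nat_lit 15460, nat_lit 4), (nat_lit 201, nat_lit 15485, nat_lit 4), (nat_lit 1140, nat_lit 15490, nat_lit 4), (nat_lit 1868, nat_lit 15506, nat_lit 4), (nat_lit 783, nat_lit 15513, nat_lit 4), (nat_lit 627, nat_lit 15520, nat_lit 4), (nat_lit 2165, nat_lit 15524, nat_lit 4), (nat_lit 514, nat_lit 15545, nat_lit 4), (nat_lit 388, nat_lit 15551, nat_lit 4), (nat_lit 1025, nat_lit 15562, nat_lit 4), (nat_lit 1629, nat_lit 15574, nat_lit 4), (nat_lit 2455, nat_lit 15601, nat_lit 4), (nat_lit 2081, nat_lit 15606, nat_lit 4), (nat_lit 1286,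 nat_lit 15611, nat_lit 4), (nat_lit 956, nat_lit 15612, nat_lit 4), (nat_lit 1272, nat_lit 15614, nat_lit 4), (nat_lit 240, nat_lit 15623, nat_lit 4), (nat_lit 1268, nat_lit 15634, nat_lit 4), (nat_lit 2224, nat_lit 15650, nat_lit 4), (nat_lit 2297, nat_lit 15663, nat_lit 4), (nat_lit 1351, nat_lit 15673, nat_lit 4), (nat_lit 2405, nat_lit 15681, nat_lit 4), (nat_lit 943, nat_lit 15703, nat_lit 4), (nat_lit 2251, nat_lit 15714, nat_lit 4), (nat_lit 2272, nat_lit 15738, nat_lit 4), (nat_lit 2023, nat_lit 15758, nat_lit 4), (nat_lit 1499, nat_lit 15773, nat_lit 4), (nat_lit 685, nat_lit 15806, nat_lit 4), (nat_lit 1922, nat_lit 15813, nat_lit 4), (nat_lit 2412, nat_lit 15839, nat_lit 4), (nat_lit 1313, nat_lit 15843, nat_lit 4), (nat_lit 2025, nat_lit 15853, nat_lit 4), (nat_lit 1426, nat_lit 15857, nat_lit 4), (nat_lit 2421, nat_lit 15860, nat_lit 4), (nat_lit 772, nat_lit 15871, nat_lit 4), (nat_lit 643,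 nat_lit 15886, nat_lit 4), (nat_lit 2198, nat_lit 15897, nat_lit 4), (nat_lit 2122, nat_lit 15902, nat_lit 4), (nat_lit 413, nat_lit 15933, nat_lit 4), (nat_lit 1183, nat_lit 15937, nat_lit 4), (nat_lit 1805, nat_lit 15938, nat_lit 4), (nat_lit 2438, nat_lit 15940, nat_lit 4), (nat_lit 868, nat_lit 15946, nat_lit 4), (nat_lit 1101, nat_lit 15978, nat_lit 4)]

theorem nb4_4_11 : NbL io phi2 (s 14) w (w 4) (l4_4_11.map Prod.snd) :=
  nbl_of env2 facts rep2 (by norm_num) (by decide +kernel)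

def l4_4_12 : List (Nat × Nat × Nat) :=
  [(nat_lit 441, nat_lit 15980, nat_lit 4), (nat_lit 303, nat_lit 16001, nat_lit 4), (nat_lit 1171, nat_lit 16004, nat_lit 4), (nat_lit 626, nat_lit 16008, nat_lit 4), (nat_lit 1319, nat_lit 16013, nat_lit 4), (nat_lit 2186, nat_lit 16024, nat_lit 4), (nat_lit 1818, nat_lit 16034, nat_lit 4), (nat_lit 2345, nat_lit 16049, nat_lit 4), (nat_lit 925, nat_lit 16054, nat_lit 4), (nat_lit 506, nat_lit 16055, nat_lit 4), (nat_lit 1582, nat_lit 16072, nat_lit 4), (nat_lit 1801, nat_lit 16081, nat_lit 4), (nat_lit 1538, nat_lit 16105, nat_lit 4), (nat_lit 236, nat_lit 16128, nat_lit 4), (nat_lit 636, nat_lit 16131, nat_lit 4), (nat_lit 1252, nat_lit 16134, nat_lit 4), (nat_lit 302, nat_lit 16136, nat_lit 4), (nat_lit 2226, nat_lit 16137, nat_lit 4), (nat_lit 2129, nat_lit 16150, nat_lit 4), (nat_lit 386, nat_lit 16153, nat_lit 4), (nat_lit 2011, nat_lit 16154, nat_lit 4),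 (nat_lit 274, nat_lit 16172, nat_lit 4), (nat_lit 2187, nat_lit 16177, nat_lit 4), (nat_lit 989, nat_lit 16182, nat_lit 4), (nat_lit 461, nat_lit 16193, nat_lit 4), (nat_lit 1213, nat_lit 16205, nat_lit 4), (nat_lit 936, nat_lit 16215, nat_lit 4), (nat_lit 293, nat_lit 16218, nat_lit 4), (nat_lit 1295, nat_lit 16219, nat_lit 4), (nat_lit 304, nat_lit 16221, nat_lit 4), (nat_lit 840, nat_lit 16225, nat_lit 4), (nat_lit 1192, nat_lit 16286, nat_lit 4), (nat_lit 1083, nat_lit 16290, nat_lit 4), (nat_lit 1619, nat_lit 16303, nat_lit 4), (nat_lit 1985, nat_lit 16327, nat_lit 4), (nat_lit 211, nat_lit 16328, nat_lit 4), (nat_lit 769, nat_lit 16339, nat_lit 4), (nat_lit 2080, nat_lit 16346, nat_lit 4), (nat_lit 1127, nat_lit 16363, nat_lit 4), (nat_lit 1399, nat_lit 16391, nat_lit 4), (nat_lit 1644, nat_lit 16399, nat_lit 4), (nat_lit 1389, nat_lit 16404, nat_lit 4), (nat_lit 1449, nat_lit 16411, nat_lit 4), (nat_lit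 774, nat_lit 16418, nat_lit 4), (nat_lit 2419, nat_lit 16431, nat_lit 4), (nat_lit 494, nat_lit 16443, nat_lit 4), (nat_lit 1364, nat_lit 16450, nat_lit 4), (nat_lit 1433, nat_lit 16452, nat_lit 4), (nat_lit 2063, nat_lit 16474, nat_lit 4), (nat_lit 1047, nat_lit 16490, nat_lit 4), (nat_lit 450, nat_lit 16502, nat_lit 4), (nat_lit 2120, nat_lit 16508, nat_lit 4), (nat_lit 2053, nat_lit 16511, nat_lit 4), (nat_lit 1411, nat_lit 16522, nat_lit 4), (nat_lit 2458, nat_lit 16537, nat_lit 4), (nat_lit 1755, nat_lit 16550, nat_lit 4), (nat_lit 941, nat_lit 16553, nat_lit 4), (nat_lit 482, nat_lit 16561, nat_lit 4), (nat_lit 305, nat_lit 16562, nat_lit 4), (nat_lit 559, nat_lit 16576, nat_lit 4), (nat_lit 497, nat_lit 16579, nat_lit 4), (nat_lit 1547, nat_lit 16585, nat_lit 4), (nat_lit 300, nat_lit 16587, nat_lit 4), (nat_lit 2223, nat_lit 16588, nat_lit 4), (nat_lit 279, nat_lit 16591, nat_lit 4), (nat_lit 993,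 nat_lit 16600, nat_lit 4), (nat_lit 1646, nat_lit 16602, nat_lit 4), (nat_lit 2417, nat_lit 16620, nat_lit 4), (nat_lit 415, nat_lit 16624, nat_lit 4), (nat_lit 495, nat_lit 16645, nat_lit 4), (nat_lit 1495, nat_lit 16651, nat_lit 4), (nat_lit 1828, nat_lit 16665, nat_lit 4), (nat_lit 212, nat_lit 16688, nat_lit 4), (nat_lit 1563, nat_lit 16720, nat_lit 4), (nat_lit 899, nat_lit 16763, nat_lit 4), (nat_lit 2134, nat_lit 16766, nat_lit 4), (nat_lit 2027, nat_lit 16799, nat_lit 4), (nat_lit 1224, nat_lit 16808, nat_lit 4), (nat_lit 1530, nat_lit 16812, nat_lit 4), (nat_lit 968, nat_lit 16822, nat_lit 4), (nat_lit 2130, nat_lit 16854, nat_lit 4), (nat_lit 1242, nat_lit 16863, nat_lit 4), (nat_lit 1347, nat_lit 16865, nat_lit 4), (nat_lit 1368, nat_lit 16876, nat_lit 4), (nat_lit 1369, nat_lit 16880, nat_lit 4), (nat_lit 420, nat_lit 16881, nat_lit 4), (nat_lit 693, nat_lit 16884, nat_lit 4), (nat_lit 1043,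 nat_lit 16905, nat_lit 4), (nat_lit 1892, nat_lit 16906, nat_lit 4), (nat_lit 1987, nat_lit 16914, nat_lit 4), (nat_lit 1768, nat_lit 16917, nat_lit 4), (nat_lit 2336, nat_lit 16924, nat_lit 4), (nat_lit 1360, nat_lit 16937, nat_lit 4), (nat_lit 867, nat_lit 16952, nat_lit 4), (nat_lit 1971, nat_lit 16964, nat_lit 4), (nat_lit 1259, nat_lit 16968, nat_lit 4), (nat_lit 1649, nat_lit 16974, nat_lit 4), (nat_lit 753, nat_lit 16987, nat_lit 4), (nat_lit 1200, nat_lit 16992, nat_lit 4), (nat_lit 2388, nat_lit 16993, nat_lit 4), (nat_lit 1730, nat_lit 16998, nat_lit 4), (nat_lit 1626, nat_lit 17009, nat_lit 4), (nat_lit 1930, nat_lit 17011, nat_lit 4), (nat_lit 1859, nat_lit 17021, nat_lit 4), (nat_lit 2195, nat_lit 17029, nat_lit 4), (nat_lit 1540, nat_lit 17057, nat_lit 4), (nat_lit 325, nat_lit 17065, nat_lit 4), (nat_lit 383, nat_lit 17094, nat_lit 4), (nat_lit 1204, nat_lit 17097, nat_lit 4), (nat_lit 2180,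 nat_lit 17120, nat_lit 4), (nat_lit 1271, nat_lit 17121, nat_lit 4), (nat_lit 1330, nat_lit 17133, nat_lit 4), (nat_lit 2365, nat_lit 17136, nat_lit 4), (nat_lit 829, nat_lit 17146, nat_lit 4), (nat_lit 1117, nat_lit 17148, nat_lit 4), (nat_lit 2278, nat_lit 17149, nat_lit 4), (nat_lit 1493, nat_lit 17160, nat_lit 4), (nat_lit 858, nat_lit 17171, nat_lit 4), (nat_lit 2300, nat_lit 17178, nat_lit 4), (nat_lit 338, nat_lit 17186, nat_lit 4)]

theorem nb4_4_12 : NbL io phi2 (s 14) w (w 4) (l4_4_12.map Prod.snd) :=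
  nbl_of env2 facts rep2 (by norm_num) (by decide +kernel)

def M4_4 : Nat := nat_lit 0x7ebfdefdb57eff6faf7f9adf73d9c8a31ff6edbfdd6bf1ff3ef3f8fbf3f4efaf77f831ffbf9beffb5bf7dbc5b93dddfcfdedddbf3ddddfc71edffc9bf5fff5bfcffb7f69ff3dfcdf52a7f78cfa4fdd7fdfffebbef7dffee6ef7feffefa9ffad7fffcdebbcfdf7ff7ffdbb7baddf53bffffbf795bebfde7fdf2febfb3bcfeeecfdafea7cbaf6d7f6a63ba7fffd7ffa9eeafbddffaefdb4f57dd769f77ffdfbedde5fff294e77cfb77fb7bb5f0d939fa3ff33fffbafff7ec3fe53f1fffbdbfff7fceff3d5f6dfb7cff3fbefbff6dffff78deffb3ff69ff6af7f7f4bab7bffebd7f7f2fabfeedbbfacdff3efcbff57f9f1b7df7edfffeceffc7feaf1dfddfd8fd2ff4fbffedeebeffd7fc7e7d379bfdbfffdaeebf9fd7aff7f9fff93d6deefd89efc9ffbbf857fff3ffefbfbbbbf4fffcbff7fb73fbbfff326c7fffadfa3c7beb7dee6ea7adadbfffd6fdb5abed5bbafffabddff7f1cfffdfdbbe77cefd75abd73ffcffb958bf7d7f77fdefeacfdfff637ffcb0fd7cfcddfc77fce768775ff1bb787fddfedb73cbb9f9ecd9fef6ebeff9dffaf8dfffddfa7ffb77b7f8dfc5fd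ff36cf73d6fcab5aeecfef77ebebbbffefbffdffbfa757ff357dbfc678e6ffbefbb377b9783b9ffdff575fff97fdf7fffa7efbd5d1fbefbefff87b567ebeef3f3eff3d67b1d9ff1f27feffbf6d7775be73bfbf7f55fdf337dfdaf9f61ddbbb7fafe97f5ca7fee6fc4b9f9f7ff7850ddff8ff9dbf75d9bfffae4ffdb056f8fe0dff2ac7ffdfb6bf249b8de173e79bf7cf7f7fefbe9fff3c5bffb7ccff7ff7df3fb1ee9dcdbf7e5ddcdfefedfffe7f7fff6f2ffe3f76f73ffb5eff6fdedbfdb9fdecd0bffa6ddc9fd4ebe37beffb7e63fe7dff3f7a767ffa5f6dfcdffbffff3bdd757fb39f47fcbbdd3fbfcecda7ebd7255e7cefefbbfd7ddffbdfde7fa99b7ffffb7dff76c2f7edfdf4d7ffb7f94b9fdedddefeddb7e9519bf7ffeffe5befef69dffaf7ba7fa67adaff7bd53ffffab2cbcffbf53bd77ffcff1bafd7dcfd7bfbebfa7f7ffea1e7ff73fe7a6fb3de36d5b7a8b6fe1173fdffd76df6fbfce55fcfff3ffff66f9f176bdfafd69dff9ffefc95eb7bf5e7907dffef217d7fefdfbf6dff37bffef13f345efffffd7fefbffeabdebdbda71befff7bee6f6fff6067feeaf9ebfef27f7ff3dcffefe735ffd7b7ff75eddffeefef56fdbb79aebdf4eefb7f5bbffff62ceefacbafae75d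fbebffff7ef7f7fd5dab9ab13ea5fed5a7f7f6eed9cf9ffdb4f7f5e7d8fdf55dbbef5efe8ffff70dffe7bb9f6feaf1dbffedd765de1767d9daef4ffe0ff5dffdae772fee63abf7bff79ff79d7b2ffcddfbff0d67f9fff925ff9bfbbfff9fa39d8db3f9963fdebfbbfb56ff5ca9df7fd77c7cfb6b7fdaeffbd7feed3efcbddfdcfffd7fdfffe5ffae5fef1fbfb6af7fcfd58affef9ffdfd29ebffb79dff7f3fef266adbcc7b7d6ffbf7dfbe777efd5be5fffe3f9bebfaf6faf85fbefefade11ffefdefffdffbeff7d27e6fe16feaffeeff374f7e66c6fcbfbbabfddedd77fffb7f8f9ffbdbd42bfd7be7fbff3dfbf697fc6f3f79de1fd2ffbddffedbfec9def1bbf7ffffb7bb5bdcb6fddefdb5ff7cff5defffdff7e3f9ef8f77bed4f7ffeff057fad9dffe5ff7ffff89ead119e1ff5effe162fcdc7fee37f28ffcffdbedfd7ebbaff2f56f3cf5bff7ddfeffacb777ff97c77fed7ddbf46f5db7ff8cfcdefbb6dffdedf9ffffbff76ffdd7ffbb1fde9fcb7fedffd7bc347ffafd1fdbaefffdfeeb1ddc6fe72e77afadfcebff3eff36f77e1745ebfe9db7ffffefefe3d7f1f4f0ffabf1f7bdf99fd16e69df5ddee5bfeeeb73fbcf3ffb297d46ff7f6ff7f9facfbd5ef6fcdcded6fffe77fd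ff9fff3f7feb8f44eb4dad9bd6f47f77e7df36f7ffdbafff7d3abe7bbb6d5627dfff7bcf67e7feb9ea87bdffeb770ddafff6bdf5dbd5bfbf9ee7f7c8fbef1e7fe7ffdef1eb7fb7fffebd51ddbcadf7ff9efdbebb751735fa77b6ff7773e81f6f1e77fb3ffffefd777dfaf6ae7fb7f77bf77d7c73d77fdfdbf7cf5aff7e9bfbcf7ca14fffff74ffb9f6df3febb5fffffcfff73b752d7f7ef3fdfff6fadf6e77f8bae75deffdfd8effaaebeefff7f66ed7bbf5cfeee7fefbe7ffe97eefeb7fefaceddeebfcdebad7db67dfdd4f3f5bcf7377daff3bafe3dcf7bddd2ff4eff9be8fdef0f373f5fe5fd7eef39cffbfbbaf6fd34b3f7e77fd7ff6b93f2fe9012ffa2eecfffbffeaffacffa4b53bcbbd996e99b8f78efdebdf9f6fccb9faebebbbf3bf99fffb6cdf3dffffbfbfb6aadee7fdf6b7cffdfdc47fff02e47ffb7ff7ffdf46617ff5b79ddd405eedf778afff7f7e79df70ffd9f9eafff97f9cf45fd77fe7fd7f5acf8ffd93fe7da77dbdfff6d3f7fedbffffeefe65f1df0f3dfbf7f3edf8ab19f3fc7d37ef9caeea2f3d7ffbf6e1ae4bde36ffdedbed38ffffdaeeeaf7aed69ffcadff6af37aef65ddbdc43bfbda87afecfeb767fbb914fdedfdfefefff87fb9ffd3d9fb2ff9ddf6cef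b7fbfcf7ed1fffa6f96d9ded4cf5afefeffa7eafdafcfdab72fbfff2ebfbf9dfdd6dcdf5defdef3ab33f7ff7fd3b6cfffa9ebbba5fdef8c73f58d9fc3fbbf67edcfbfff6ffcdcb7b569ffbcf3edf34fbf7e705fffbf35fc119d5476dd1ffbffffeeffe8fb73f7f4fbdfd60f7f37e6fb6bbf22ddfff9febffff67edd6fb7bfcd5ddffb87efd6be7767f3d5ffdbdd7874ffebe7ff5edffd7d1ffffeeed5edadef33ff7e93b8fbfffe6e3c7f7efd6bff775bffabff93c2ddf7bbfaff7aea716bff7e1e7d69dd6e6f3ff6dfbfddfdcfdd8ffff95ca8767f7d57faf3fff43d7f7dfbbf5aef76ffca37fb9ecffafffffbed17efbfefde13afd9ed7efabfd1e2a73c7395f3c4ff4e4a6dcbfbf3bfee6effd9db9e7f7af7fbdfabf69fe485ff3b5ded7bddfff7f7d7bdfe67fefbffde90dbe93de7fedbfedf476efff77fcd7be7fe7b3f3fab7fbeb35fdaf7fafb775f3d9fff9eb8d3ddfc7b77dfef0bb7ed5feff7ebdc89a9fbfdeef7ffaefa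

theorem g4_4 : ∀ x < 17199, M4_4.testBit x = true → Nb io phi2 (s 14) (w 4) x (w 4) :=
  grown rep2 sw4 (nb4_4_0.append (nb4_4_1.append (nb4_4_2.append (nb4_4_3.append (nb4_4_4.append (nb4_4_5.append (nb4_4_6.append (nb4_4_7.append (nb4_4_8.append (nb4_4_9.append (nb4_4_10.append (nb4_4_11.append nb4_4_12)))))))))))) [nat_lit 0, nat_lit 1, nat_lit 0] (by decide +kernel)


end Cfsg.Agent.DCE.Th
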