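import Cfsg.Agent.DCE.Th.Cert

set_option autoImplicit false
set_option maxRecDepth 100000
set_option Elab.async false

namespace Cfsg.Agent.DCE.Th
open Cfsg.Agent.Comp Cfsg.Agent.DCE

/-- the representatives -/
noncomputable abbrev w : ℕ → G := wOf io (s 14) ax P2.PL

def V0 : List (List Nat) := [[14],
   [16],
   [18],
   [20]]

theorem sw0 : SWL io ax (w 0) V0 := by
  rw [w, env2.w_zero]; exact SWL.base _

def U1 : List (Nat × List Nat) :=
  [(3, [20, 15, 21, 19, 19, 14, 19]),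
   (4, [20, 15, 21, 19, 19, 14, 19]),
   (1, [17, 21, 18, 21, 15, 19, 21, 17, 21, 21]),
   (2, [17, 21, 18, 21, 15, 19, 21, 17, 21, 21]),
   (7, [17, 17, 19, 14, 19, 20, 18, 21, 17, 19]),
   (8, [18, 16, 20, 19, 21, 18, 15, 18, 16, 16])]

def V1 : List (List Nat) := [[20, 15, 21, 19, 19, 14, 19],
   [20, 15, 21, 19, 19, 14, 19],
   [17, 21, 18, 21, 15, 19, 21, 17, 21, 21],
   [17, 21, 18, 21, 15, 19, 21, 17, 21, 21],
   [17, 17, 19, 14, 19, 20, 18, 21, 17, 19],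
   [18, 16, 20, 19, 21, 18, 15, 18, 16, 16]]

theorem sw1 : SWL io ax (w 1) V1 :=
  swl_of (l := U1) facts (by decide +kernel)

def U2 : List (Nat × List Nat) :=
  [(20, [14, 21, 21, 19, 20, 15, 16, 14, 16]),
   (22, [15, 19, 14, 20, 14, 21, 21, 16, 15]),
   (23, [19, 19, 17, 20, 17, 14, 19, 14, 18]),
   (25, [21, 19, 16, 20, 20, 15, 15, 20, 15]),
   (27, [18, 17, 14, 21, 14, 21, 17, 15, 18]),
   (32, [20, 16, 14, 16, 20, 19, 19, 14, 14, 21])]

def V2 : List (List Nat) := [[14, 21, 21, 19, 20, 15, 16, 14, 16],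
   [15, 19, 14, 20, 14, 21, 21, 16, 15],
   [19, 19, 17, 20, 17, 14, 19, 14, 18],
   [21, 19, 16, 20, 20, 15, 15, 20, 15],
   [18, 17, 14, 21, 14, 21, 17, 15, 18],
   [20, 16, 14, 16, 20, 19, 19, 14, 14, 21]]

theorem sw2 : SWL io ax (w 2) V2 :=
  swl_of (l := U2) facts (by decide +kernel)

def U3 : List (Nat × List Nat) :=
  [(38, [16, 20, 16, 20, 17, 20, 17]),
   (41, [18, 18, 20, 14, 17, 18, 15, 16, 19, 16, 16]),
   (44, [15, 17, 17, 14, 18, 17, 19, 15, 16, 20, 17])]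

def V3 : List (List Nat) := [[16, 20, 16, 20, 17, 20, 17],
   [18, 18, 20, 14, 17, 18, 15, 16, 19, 16, 16],
   [15, 17, 17, 14, 18, 17, 19, 15, 16, 20, 17]]

theorem sw3 : SWL io ax (w 3) V3 :=
  swl_of (l := U3) facts (by decide +kernel)

def U4 : List (Nat × List Nat) :=
  [(58, [14, 21, 17, 21, 14, 16, 14, 19, 14, 17, 20]),
   (60, [21, 15, 20, 16, 20, 15, 20, 18, 15, 17, 14, 21])]

def V4 : List (List Nat) := [[14, 21, 17, 21, 14, 16, 14, 19, 14, 17, 20],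
   [21, 15, 20, 16, 20, 15, 20, 18, 15, 17, 14, 21]]

theorem sw4 : SWL io ax (w 4) V4 :=
  swl_of (l := U4) facts (by decide +kernel)

def U5 : List (Nat × List Nat) :=
  [(1233, [20, 18, 14, 16, 18, 21, 19, 19, 16, 21]),
   (1235, [20, 19, 19, 17, 20, 14, 14, 14, 21, 21]),
   (1249, [17, 20, 16, 18, 14, 19, 21, 19, 19, 20]),
   (1232, [21, 18, 21, 17, 20, 17, 20, 15, 21, 18, 21]),
   (1236, [21, 16, 18, 17, 18, 18, 16, 19, 16, 19, 20])]

def V5 : List (List Nat) := [[20, 18, 14, 16, 18, 21, 19, 19, 16, 21],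
   [20, 19, 19, 17, 20, 14, 14, 14, 21, 21],
   [17, 20, 16, 18, 14, 19, 21, 19, 19, 20],
   [21, 18, 21, 17, 20, 17, 20, 15, 21, 18, 21],
   [21, 16, 18, 17, 18, 18, 16, 19, 16, 19, 20]]

theorem sw5 : SWL io ax (w 5) V5 :=
  swl_of (l := U5) facts (by decide +kernel)

def U6 : List (Nat × List Nat) :=
  [(1277, [18, 15, 18, 14, 17, 14, 18, 16, 19, 17]),
   (1271, [17, 20, 18, 20, 19, 16, 15, 19, 21, 19, 20]),
   (1272, [16, 14, 19, 20, 17, 21, 21, 17, 15, 21, 18])]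

def V6 : List (List Nat) := [[18, 15, 18, 14, 17, 14, 18, 16, 19, 17],
   [17, 20, 18, 20, 19, 16, 15, 19, 21, 19, 20],
   [16, 14, 19, 20, 17, 21, 21, 17, 15, 21, 18]]

theorem sw6 : SWL io ax (w 6) V6 :=
  swl_of (l := U6) facts (by decide +kernel)

def U7 : List (Nat × List Nat) :=
  [(1539, [20, 16, 21, 16, 16, 21, 16, 16, 21, 16, 21]),
   (1542, [20, 14, 18, 16, 14, 16, 20, 16, 16, 18, 21]),
   (1560, [16, 16, 19, 15, 19, 21, 21, 16, 14, 20, 18])]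

def V7 : List (List Nat) := [[20, 16, 21, 16, 16, 21, 16, 16, 21, 16, 21],
   [20, 14, 18, 16, 14, 16, 20, 16, 16, 18, 21],
   [16, 16, 19, 15, 19, 21, 21, 16, 14, 20, 18]]

theorem sw7 : SWL io ax (w 7) V7 :=
  swl_of (l := U7) facts (by decide +kernel)

def U8 : List (Nat × List Nat) :=
  [(1688, [20, 15, 16, 19, 15, 19, 16, 21, 14, 14]),
   (1686, [15, 18, 17, 18, 18, 14, 21, 18, 15, 15, 21, 15])]

def V8 : List (List Nat) := [[20, 15, 16, 19, 15, 19, 16, 21, 14, 14],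
   [15, 18, 17, 18, 18, 14, 21, 18, 15, 15, 21, 15]]

theorem sw8 : SWL io ax (w 8) V8 :=
  swl_of (l := U8) facts (by decide +kernel)

def U9 : List (Nat × List Nat) :=
  [(1927, [16, 14, 20, 14, 16, 21, 14, 14, 17, 14, 16]),
   (1929, [19, 19, 15, 15, 19, 14, 17, 17, 17, 20, 19]),
   (2072, [18, 15, 19, 15, 16, 16, 14, 19, 15, 18, 21])]

def V9 : List (List Nat) := [[16, 14, 20, 14, 16, 21, 14, 14, 17, 14, 16],
   [19, 19, 15, 15, 19, 14, 17, 17, 17, 20, 19],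
   [18, 15, 19, 15, 16, 16, 14, 19, 15, 18, 21]]

theorem sw9 : SWL io ax (w 9) V9 :=
  swl_of (l := U9) facts (by decide +kernel)

def U10 : List (Nat × List Nat) :=
  [(2173, [18, 15, 20, 18, 16, 18, 16, 18, 16, 16]),
   (2175, [14, 19, 20, 18, 16, 14, 21, 21, 17, 21]),
   (2182, [18, 14, 20, 17, 15, 17, 15, 16, 14, 17, 15]),
   (2184, [19, 14, 19, 14, 19, 17, 14, 19, 15, 21, 19]),
   (2176, [14, 16, 14, 18, 15, 18, 18, 17, 15, 17, 18, 20])]

def V10 : List (List Nat) := [[18, 15, 20, 18, 16, 18, 16, 18, 16, 16],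
   [14, 19, 20, 18, 16, 14, 21, 21, 17, 21],
   [18, 14, 20, 17, 15, 17, 15, 16, 14, 17, 15],
   [19, 14, 19, 14, 19, 17, 14, 19, 15, 21, 19],
   [14, 16, 14, 18, 15, 18, 18, 17, 15, 17, 18, 20]]

theorem sw10 : SWL io ax (w 10) V10 :=
  swl_of (l := U10) facts (by decide +kernel)


end Cfsg.Agent.DCE.Th
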