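import Cfsg.Agent.DCE.Th.R0
import Cfsg.Agent.DCE.Th.R1
import Cfsg.Agent.DCE.Th.R2
import Cfsg.Agent.DCE.Th.R3

set_option autoImplicit false
set_option maxRecDepth 100000
set_option Elab.async false

namespace Cfsg.Agent.DCE.Th
open Cfsg.Agent.Comp Cfsg.Agent.DCE

theorem row0 : Row io phi2 (s 14) 17199 11 w (w 0) [(1, 17199)] :=
  row_of (lg := 15) (by norm_num) [(M0_1, 1, 17199)]
    (by simp only [List.forall_mem_cons]; exact ⟨g0_1, by simp⟩) (by decide +kernel)

theorem row1 : Row io phi2 (s 14) 17199 11 w (w 1) [(0, 1), (1, 78), (2, 480), (3, 2304), (4, 6144), (5, 2048), (6, 6144)] :=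
  row_of (lg := 15) (by norm_num) [(M1_0, 0, 1), (M1_1, 1, 78), (M1_2, 2, 480), (M1_3, 3, 2304), (M1_4, 4, 6144), (M1_5, 5, 2048), (M1_6, 6, 6144)]
    (by simp only [List.forall_mem_cons]; exact ⟨g1_0, g1_1, g1_2, g1_3, g1_4, g1_5, g1_6, by simp⟩) (by decide +kernel)

theorem row2 : Row io phi2 (s 14) 17199 11 w (w 2) [(1, 180), (2, 27), (3, 864), (4, 6912), (7, 2304), (8, 6912)] :=
  row_of (lg := 15) (by norm_num) [(M2_1, 1, 180), (M2_2, 2, 27), (M2_3, 3, 864), (M2_4, 4, 6912), (M2_7, 7, 2304), (M2_8, 8, 6912)]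
    (by simp only [List.forall_mem_cons]; exact ⟨g2_1, g2_2, g2_3, g2_4, g2_7, g2_8, by simp⟩) (by decide +kernel)

theorem row3 : Row io phi2 (s 14) 17199 11 w (w 3) [(1, 18), (2, 18), (3, 363), (4, 12672), (5, 144), (6, 1584), (7, 432), (8, 1296), (9, 624), (10, 48)] :=
  row_of (lg := 15) (by norm_num) [(M3_1, 1, 18), (M3_2, 2, 18), (M3_3, 3, 363), (M3_4, 4, 12672), (M3_5, 5, 144), (M3_6, 6, 1584), (M3_7, 7, 432), (M3_8, 8, 1296), (M3_9, 9, 624), (M3_10, 10, 48)]
    (by simp only [List.forall_mem_cons]; exact ⟨g3_1, g3_2, g3_3, g3_4, g3_5, g3_6, g3_7, g3_8, g3_9, g3_10, by simp⟩) (by decide +kernel)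

theorem row4 : Row io phi2 (s 14) 17199 11 w (w 4) [(1, 1), (2, 3), (3, 264), (4, 12799), (5, 152), (6, 1364), (7, 588), (8, 936), (9, 1068), (10, 24)] :=
  row_of (lg := 15) (by norm_num) [(M4_1, 1, 1), (M4_2, 2, 3), (M4_3, 3, 264), (M4_4, 4, 12799), (M4_5, 5, 152), (M4_6, 6, 1364), (M4_7, 7, 588), (M4_8, 8, 936), (M4_9, 9, 1068), (M4_10, 10, 24)]
    (by simp only [List.forall_mem_cons]; exact ⟨g4_1, g4_2, g4_3, g4_4, g4_5, g4_6, g4_7, g4_8, g4_9, g4_10, by simp⟩) (by decide +kernel)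

theorem row5 : Row io phi2 (s 14) 17199 11 w (w 5) [(1, 27), (3, 243), (4, 12312), (5, 81), (6, 810), (7, 810), (8, 2430), (9, 486)] :=
  row_of (lg := 15) (by norm_num) [(M5_1, 1, 27), (M5_3, 3, 243), (M5_4, 4, 12312), (M5_5, 5, 81), (M5_6, 6, 810), (M5_7, 7, 810), (M5_8, 8, 2430), (M5_9, 9, 486)]
    (by simp only [List.forall_mem_cons]; exact ⟨g5_1, g5_3, g5_4, g5_5, g5_6, g5_7, g5_8, g5_9, by simp⟩) (by decide +kernel)

theorem row6 : Row io phi2 (s 14) 17199 11 w (w 6) [(1, 9), (3, 297), (4, 12276), (5, 90), (6, 549), (7, 1170), (8, 1890), (9, 918)] :=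
  row_of (lg := 15) (by norm_num) [(M6_1, 1, 9), (M6_3, 3, 297), (M6_4, 4, 12276), (M6_5, 5, 90), (M6_6, 6, 549), (M6_7, 7, 1170), (M6_8, 8, 1890), (M6_9, 9, 918)]
    (by simp only [List.forall_mem_cons]; exact ⟨g6_1, g6_3, g6_4, g6_5, g6_6, g6_7, g6_8, g6_9, by simp⟩) (by decide +kernel)

theorem row7 : Row io phi2 (s 14) 17199 11 w (w 7) [(2, 21), (3, 189), (4, 12348), (5, 210), (6, 2730), (7, 189), (8, 378), (9, 1134)] :=
  row_of (lg := 15) (by norm_num) [(M7_2, 2, 21), (M7_3, 3, 189), (M7_4, 4, 12348), (M7_5, 5, 210), (M7_6, 6, 2730), (M7_7, 7, 189), (M7_8, 8, 378), (M7_9, 9, 1134)]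
    (by simp only [List.forall_mem_cons]; exact ⟨g7_2, g7_3, g7_4, g7_5, g7_6, g7_7, g7_8, g7_9, by simp⟩) (by decide +kernel)

theorem row8 : Row io phi2 (s 14) 17199 11 w (w 8) [(2, 39), (3, 351), (4, 12168), (5, 390), (6, 2730), (7, 234), (8, 585), (9, 702)] :=
  row_of (lg := 15) (by norm_num) [(M8_2, 2, 39), (M8_3, 3, 351), (M8_4, 4, 12168), (M8_5, 5, 390), (M8_6, 6, 2730), (M8_7, 7, 234), (M8_8, 8, 585), (M8_9, 9, 702)]
    (by simp only [List.forall_mem_cons]; exact ⟨g8_2, g8_3, g8_4, g8_5, g8_6, g8_7, g8_8, g8_9, by simp⟩) (by decide +kernel)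

theorem row9 : Row io phi2 (s 14) 17199 11 w (w 9) [(3, 156), (4, 12816), (5, 72), (6, 1224), (7, 648), (8, 648), (9, 1587), (10, 48)] :=
  row_of (lg := 15) (by norm_num) [(M9_3, 3, 156), (M9_4, 4, 12816), (M9_5, 5, 72), (M9_6, 6, 1224), (M9_7, 7, 648), (M9_8, 8, 648), (M9_9, 9, 1587), (M9_10, 10, 48)]
    (by simp only [List.forall_mem_cons]; exact ⟨g9_3, g9_4, g9_5, g9_6, g9_7, g9_8, g9_9, g9_10, by simp⟩) (by decide +kernel)

theorem row10 : Row io phi2 (s 14) 17199 11 w (w 10) [(3, 588), (4, 14112), (9, 2352), (10, 147)] :=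
  row_of (lg := 15) (by norm_num) [(M10_3, 3, 588), (M10_4, 4, 14112), (M10_9, 9, 2352), (M10_10, 10, 147)]
    (by simp only [List.forall_mem_cons]; exact ⟨g10_3, g10_4, g10_9, g10_10, by simp⟩) (by decide +kernel)

def rows : List (List (Nat × Nat)) :=
  [[(1, 17199)],
   [(0, 1), (1, 78), (2, 480), (3, 2304), (4, 6144), (5, 2048), (6, 6144)],
   [(1, 180), (2, 27), (3, 864), (4, 6912), (7, 2304), (8, 6912)],
   [(1, 18), (2, 18), (3, 363), (4, 12672), (5, 144), (6, 1584), (7, 432), (8, 1296), (9, 624), (10, 48)],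
   [(1, 1), (2, 3), (3, 264), (4, 12799), (5, 152), (6, 1364), (7, 588), (8, 936), (9, 1068), (10, 24)],
   [(1, 27), (3, 243), (4, 12312), (5, 81), (6, 810), (7, 810), (8, 2430), (9, 486)],
   [(1, 9), (3, 297), (4, 12276), (5, 90), (6, 549), (7, 1170), (8, 1890), (9, 918)],
   [(2, 21), (3, 189), (4, 12348), (5, 210), (6, 2730), (7, 189), (8, 378), (9, 1134)],
   [(2, 39), (3, 351), (4, 12168), (5, 390), (6, 2730), (7, 234), (8, 585), (9, 702)],
   [(3, 156), (4, 12816), (5, 72), (6, 1224), (7, 648), (8, 648), (9, 1587), (10, 48)],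
   [(3, 588), (4, 14112), (9, 2352), (10, 147)]]

theorem genK (K : Subgroup G) (hK : io.range ≤ K) (ht : s 14 ∈ K) : K = ⊤ := by
  rw [eq_top_iff, ← pres.top, gen_le]
  intro x hx
  by_cases c : x < 14
  · exact hK ⟨h x, io_h x c⟩
  · obtain rfl | rfl : x = 14 ∨ x = 15 := by omega
    exacts [ht, s15 ▸ inv_mem ht]

theorem closed : TClosed io phi2 (s 14) 17199 11 w rows :=
  ⟨tw0, rep2.bd, by norm_num, trans2, env2.w_zero, fun i hi => by
    interval_cases i
    exacts [row0, row1, row2, row3, row4, row5, row6, row7, row8, row9, row10], genK, W ax 4165, 1, uinv.trans (by rw [map_one io, mul_one])⟩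

theorem above (K : Subgroup G) (hK : io.range ≤ K) (i : ℕ) (hi : i < 11) (h0 : i ≠ 0) (hw : w i ∈ K) :
    s 14 ∈ K := by
  have : ∃ x, Nb io phi2 (s 14) (w i) x (w i) := by
    interval_cases i
    exacts [(h0 rfl).elim, ⟨_, nb1_1_0 (13, 1) (by decide +kernel)⟩,
      ⟨_, nb2_2_0 (1008, 2) (by decide +kernel)⟩,
      ⟨_, nb3_3_0 (59, 3) (by decide +kernel)⟩,
      ⟨_, nb4_4_0 (3, 4) (by decide +kernel)⟩,
      ⟨_, nb5_5_0 (4489, 5) (by decide +kernel)⟩,
      ⟨_, nb6_6_0 (24, 6) (by decide +kernel)⟩,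
      ⟨_, nb7_7_0 (2448, 7) (by decide +kernel)⟩,
      ⟨_, nb8_8_0 (273, 8) (by decide +kernel)⟩,
      ⟨_, nb9_9_0 (113, 9) (by decide +kernel)⟩,
      ⟨_, nb10_10_0 (342, 10) (by decide +kernel)⟩]
  obtain ⟨-, _, _, -, e⟩ := this
  exact (EF.mem e hK).1 hw hw

theorem index_of (ht : s 14 ∉ io.range) : io.range.index = 143127000 := by
  have := cardH.1
  have := closed.finite
  have := Fintype.ofFinite (G ⧸ io.range)
  have hne : ∀ i < 11, i ≠ 0 → w i ∉ io.range := fun i hi h0 hw => ht (above _ le_rfl i hi h0 hw)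
  have f0 : Fn io 11 w [] 0 := Fn.zero
  have f1 : Fn io 11 w [1, 0, 0, 0, 0, 0, 0, 0, 0, 0, 0] (1) :=
    closed.step hne (1) f0 (by decide +kernel)
  have f2 : Fn io 11 w [776, 1, 0, 0, 0, 0, 0, 0, 0, 0, 0] (17975) :=
    closed.step hne (776) f1 (by decide +kernel)
  have f3 : Fn io 11 w [-3871845, 854, 180, 18, 1, 27, 9, 0, 0, 0, 0] (305262981) :=
    closed.step hne (-3889044) f2 (by decide +kernel)
  have f4 : Fn io 11 w [988089570, -3560625, 181044, 55962, 35325, 49221, 32679, 49770, 60606, 28584, 24696] (5251191411843) :=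
    closed.step hne (973401624) f3 (by decide +kernel)
  have f5 : Fn io 11 w [784977273207, 1444819572, 190072008, 585039348, 633049290, 584318286, 639611802, 614851776, 632114496, 623070144, 602271936] (90316087308750339) :=
    closed.step hne (846216462582) f4 (by decide +kernel)
  have f6 : Fn io 11 w [-205715839667004, 11352752020431, 10932104044584, 10863626039028, 10853195616378, 10877573143098, 10847860039134, 10862011449828, 10840787268012, 10855137116880, 10831589670384] (1553346155057905594629) :=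
    closed.step hne (-230565291485832) f5 (by decide +kernel)
  have f7 : Fn io 11 w [170078898318270669, 186565558897777878, 186699719147908932, 186661270457454618, 186659153451884421, 186655718891604375, 186659615038932189, 186657470486102448, 186661957977265680, 186660679113619200, 186671634829723008] (26716000495663834640902071) :=
    closed.step hne (-25177083681122100) f6 (by decide +kernel)
  have f8 : Fn io 11 w [3211218812065247557938, 3210347050714899684225, 3210352364892099887460, 3210355289492475053202, 3210355039174213172697, 3210355056550475010177, 3210355242959969765115, 3210355043218079598114, 3210355343852084310246, 3210355175267965096008, 3210357448137177905112] (459488492527400056571240553345) :=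
    closed.step hne (2477764582365834216) f7 (by decide +kernel)
  have f9 : Fn io 11 w [55214897140154490682245120, 55214897140154490682245120, 55214897140154490682245120, 55214897140154490682245120, 55214897140154490682245120, 55214897140154490682245120, 55214897140154490682245120, 55214897140154490682245120, 55214897140154490682245120, 55214897140154490682245120, 55214897140154490682245120] (7902742582978891787877697290240000) :=
    closed.step hne (138214908931013259345) f8 (by decide +kernel)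
  exact closed.index (M := 55214897140154490682245120) f9 (by decide +kernel)

end Cfsg.Agent.DCE.Th
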