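import Cfsg.Agent.DCE.Th.Alph
import Cfsg.Agent.DCE.Rew

set_option autoImplicit false
set_option maxRecDepth 100000
set_option Elab.async false

namespace Cfsg.Agent.DCE.Th
open Cfsg.Agent.Comp Cfsg.Agent.DCE

def DT : List (List Nat × List (Nat × Nat × Nat × Nat)) :=
  [([15, 14], []),
   ([14, 5, 1, 14], [(0, 43, 1, 3)]),
   ([0, 14, 1, 15], [(0, 44, 0, 2)]),
   ([4, 14, 5, 15], [(0, 45, 0, 2)]),
   ([8, 14, 9, 15], [(0, 46, 0, 2)]),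
   ([10, 10, 8, 11, 11, 14, 10, 10, 9, 11, 11, 15], [(0, 51, 1, 8)]),
   ([12, 14, 12, 15], [(0, 50, 1, 3)]),
   ([13, 14, 13, 15], [(0, 50, 0, 2)]),
   ([2, 0, 4, 2, 14, 3, 5, 1, 3, 9, 15], [(5, 17, 0, 0), (6, 18, 0, 0), (7, 16, 0, 0), (8, 17, 0, 0), (9, 20, 0, 0), (9, 46, 1, 1), (8, 17, 1, 0), (7, 16, 1, 0), (6, 18, 1, 0), (8, 17, 0, 0), (9, 46, 0, 3), (8, 25, 1, 0), (6, 18, 0, 0), (8, 20, 0, 0), (7, 16, 0, 0), (7, 22, 1, 0), (7, 20, 0, 0), (9, 17, 0, 0), (8, 16, 0, 0), (7, 20, 1, 0), (6, 18, 1, 0), (9, 17, 1, 0), (6, 27, 0, 1), (8, 16, 1, 0), (9, 17, 0, 0), (7, 18, 1, 0), (8, 16, 0, 0), (5, 17, 1, 0), (7, 18, 0, 0), (6, 20, 1, 0), (5, 17, 0, 0), (3, 17, 1, 0), (6, 20, 0, 0), (5, 25, 1, 0), (3, 17, 0, 0), (4, 46, 0, 1), (4, 20, 0, 0), (6, 17, 0, 0), (9, 17, 1, 0), (8, 16, 1, 0), (7, 18, 1, 0), (9, 17, 0, 0), (7,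 43, 1, 2), (6, 17, 1, 0), (9, 17, 1, 0), (4, 20, 1, 0), (6, 17, 0, 0), (4, 46, 1, 3), (5, 20, 0, 0), (5, 25, 1, 1), (5, 17, 0, 0), (6, 20, 0, 0), (6, 46, 1, 1), (9, 17, 0, 0), (7, 20, 1, 0), (7, 46, 0, 0), (5, 17, 1, 0), (6, 43, 0, 2), (6, 18, 0, 0), (7, 16, 0, 0), (5, 17, 0, 0), (6, 18, 1, 0), (8, 20, 0, 0), (5, 17, 1, 0), (9, 17, 1, 0), (8, 20, 1, 0), (8, 25, 0, 0), (9, 20, 1, 0), (9, 46, 0, 0), (5, 17, 0, 0), (8, 17, 1, 0), (3, 17, 1, 0), (6, 18, 0, 0), (8, 17, 0, 0), (7, 16, 1, 0), (3, 17, 0, 0), (5, 17, 1, 0), (9, 46, 1, 0), (9, 20, 0, 0), (8, 17, 1, 0), (7, 16, 0, 0), (3, 17, 1, 0), (5, 17, 0, 0), (7, 16, 1, 0), (8, 17, 0, 0), (2, 18, 1, 0), (3, 17, 0, 0), (9, 20, 1, 0), (6, 18, 1, 0), (7, 16, 0, 0), (9, 20, 0, 0), (9, 46, 1, 1), (8, 17, 1, 0), (5, 17, 1, 0), (2, 18, 0, 0), (3, 17, 1, 0), (8, 17, 0, 0), (5,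 17, 0, 0), (9, 46, 0, 3), (9, 20, 1, 0), (7, 16, 1, 0), (6, 43, 1, 2), (3, 17, 0, 0), (9, 46, 0, 0), (8, 17, 1, 0), (5, 17, 1, 0), (10, 20, 0, 0), (8, 17, 0, 0), (9, 46, 0, 3), (3, 17, 1, 0), (6, 43, 0, 2), (8, 17, 1, 0), (2, 18, 1, 0), (3, 17, 0, 0), (5, 17, 0, 0), (6, 43, 1, 2), (2, 18, 0, 0), (3, 17, 1, 0), (9, 46, 1, 1), (8, 17, 0, 0), (2, 18, 1, 0), (3, 17, 0, 0), (1, 16, 1, 0), (2, 18, 0, 0), (9, 46, 0, 3), (8, 25, 1, 0), (7, 46, 1, 0), (5, 17, 1, 0), (7, 20, 0, 0), (6, 46, 0, 3), (7, 43, 0, 2), (1, 16, 0, 0), (3, 17, 1, 0), (5, 17, 0, 0), (8, 16, 0, 0), (6, 20, 1, 0), (3, 17, 0, 0), (5, 17, 1, 0), (6, 27, 0, 0), (7, 20, 1, 0), (3, 17, 1, 0), (5, 17, 0, 0), (2, 18, 1, 0), (3, 17, 0, 0), (7, 20, 0, 0), (6, 18, 1, 0), (9, 17, 0, 0), (7, 22, 1, 1), (6, 18, 0, 0), (8, 20, 0, 0), (7, 16, 0, 0), (7, 22, 1, 0), (6,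 18, 1, 0), (9, 17, 1, 0), (7, 22, 0, 0), (7, 16, 1, 0), (6, 43, 1, 2), (9, 17, 0, 0), (5, 17, 1, 0), (6, 43, 0, 2), (3, 17, 1, 0), (2, 18, 0, 0), (5, 17, 0, 0), (6, 18, 0, 0), (7, 16, 0, 0), (7, 22, 1, 0), (6, 18, 1, 0), (7, 20, 0, 0), (8, 16, 0, 0), (9, 17, 1, 0), (5, 17, 1, 0), (8, 16, 1, 0), (3, 17, 0, 0), (9, 17, 0, 0), (2, 18, 1, 0), (6, 18, 0, 0), (8, 16, 0, 0), (7, 20, 1, 0), (6, 18, 1, 0), (9, 17, 1, 0), (6, 27, 0, 1), (8, 16, 1, 0), (9, 17, 0, 0), (7, 18, 1, 0), (7, 43, 1, 2), (2, 18, 0, 0), (3, 17, 1, 0), (5, 17, 0, 0), (6, 20, 1, 0), (7, 43, 0, 2), (5, 17, 1, 0), (3, 17, 0, 0), (1, 16, 1, 0), (5, 17, 0, 0), (7, 18, 0, 0), (9, 17, 1, 0), (8, 16, 0, 0), (5, 17, 1, 0), (6, 20, 0, 0), (6, 27, 1, 1), (7, 20, 0, 0), (5, 17, 0, 0), (6, 18, 0, 0), (7, 20, 1, 0), (0, 17, 1, 0), (1, 16, 0, 0), (7, 20, 0, 0), (6,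 18, 1, 0), (9, 17, 0, 0), (7, 22, 1, 1), (6, 18, 0, 0), (8, 20, 0, 0), (7, 16, 0, 0), (7, 22, 1, 0), (6, 18, 1, 0), (9, 17, 1, 0), (7, 22, 0, 0), (8, 20, 1, 0), (6, 18, 0, 0), (5, 17, 1, 0), (8, 25, 0, 0), (9, 20, 1, 0), (9, 46, 0, 0), (5, 17, 0, 0), (8, 17, 1, 0), (7, 16, 1, 0), (6, 18, 1, 0), (8, 17, 0, 0), (9, 46, 1, 0), (6, 18, 0, 0), (9, 20, 0, 0), (9, 46, 1, 1), (5, 17, 1, 0), (8, 17, 1, 0), (7, 16, 0, 0), (3, 17, 1, 0), (5, 17, 0, 0), (8, 17, 0, 0), (9, 46, 0, 3), (9, 20, 1, 0), (8, 17, 1, 0), (7, 16, 1, 0), (6, 18, 1, 0), (9, 20, 0, 0), (3, 17, 0, 0), (7, 16, 0, 0), (0, 17, 0, 0), (1, 16, 1, 0), (6, 18, 0, 0), (7, 16, 1, 0), (8, 17, 0, 0), (9, 20, 1, 0), (6, 18, 1, 0), (7, 16, 0, 0), (0, 17, 1, 0), (6, 18, 0, 0), (9, 20, 0, 0), (9, 46, 1, 1), (8, 17, 1, 0), (7, 16, 1, 0), (6, 18, 1, 0), (8, 17, 0, 0), (9,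 46, 0, 3), (8, 25, 1, 0), (6, 18, 0, 0), (8, 20, 0, 0), (7, 16, 0, 0), (5, 17, 1, 0), (0, 17, 0, 0), (9, 17, 0, 0), (5, 17, 0, 0), (7, 16, 1, 0), (8, 20, 1, 0), (6, 18, 1, 0), (3, 17, 1, 0), (7, 16, 0, 0), (6, 18, 0, 0), (9, 17, 1, 0), (1, 16, 0, 0), (5, 17, 1, 0), (8, 20, 0, 0), (7, 16, 1, 0), (2, 18, 1, 0), (3, 17, 0, 0), (7, 16, 0, 0), (8, 20, 1, 0), (5, 17, 0, 0), (1, 16, 1, 0), (8, 25, 0, 0), (9, 20, 1, 0), (9, 46, 0, 0), (1, 16, 0, 0), (8, 17, 1, 0), (7, 16, 1, 0), (6, 18, 1, 0), (5, 17, 1, 0), (8, 17, 0, 0), (10, 20, 0, 0), (6, 18, 0, 0), (7, 16, 0, 0), (3, 17, 1, 0), (5, 17, 0, 0), (8, 17, 1, 0), (7, 16, 1, 0), (6, 18, 1, 0), (1, 16, 1, 0), (2, 18, 0, 0), (6, 18, 0, 0), (7, 16, 0, 0), (8, 17, 0, 0), (5, 17, 1, 0), (3, 17, 0, 0), (9, 46, 0, 3), (9, 20, 1, 0), (3, 17, 1, 0), (1, 16, 0, 0), (2, 18, 1, 0), (3,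 17, 0, 0), (8, 17, 1, 0), (7, 16, 1, 0), (3, 17, 1, 0), (2, 18, 0, 0), (9, 46, 0, 0), (10, 20, 0, 0), (8, 17, 0, 0), (1, 43, 0, 0), (3, 17, 0, 0), (5, 17, 0, 0), (9, 46, 0, 3), (9, 20, 1, 0), (6, 18, 1, 0), (7, 16, 0, 0), (9, 20, 0, 0), (9, 46, 1, 1), (8, 17, 1, 0), (3, 17, 1, 0), (6, 18, 0, 0), (8, 17, 0, 0), (9, 46, 0, 3), (9, 20, 1, 0), (8, 17, 1, 0), (7, 16, 1, 0), (9, 46, 0, 0), (3, 17, 0, 0), (7, 16, 0, 0), (8, 17, 0, 0), (5, 17, 1, 0), (9, 46, 1, 0), (9, 20, 0, 0), (8, 25, 1, 0), (8, 20, 0, 0), (9, 17, 0, 0), (5, 17, 0, 0), (7, 16, 1, 0), (8, 20, 1, 0), (6, 18, 1, 0), (7, 22, 0, 1), (9, 17, 1, 0), (6, 18, 0, 0), (3, 17, 1, 0), (7, 22, 1, 1), (8, 20, 0, 0), (7, 16, 0, 0), (7, 22, 1, 0), (6, 18, 1, 0), (3, 17, 0, 0), (7, 22, 0, 0), (7, 16, 1, 0), (6, 43, 1, 2), (9, 17, 0, 0), (8, 25, 1, 1), (5, 17, 1, 0), (8,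 17, 0, 0), (9, 46, 0, 0), (6, 43, 0, 2), (8, 17, 1, 0), (7, 16, 0, 0), (9, 46, 1, 0), (9, 20, 0, 0), (7, 16, 1, 0), (5, 17, 0, 0), (3, 17, 1, 0), (8, 17, 0, 0), (9, 46, 1, 1), (10, 20, 1, 0), (7, 16, 0, 0), (5, 17, 1, 0), (9, 46, 1, 0), (9, 20, 0, 0), (8, 25, 1, 0), (5, 17, 0, 0), (9, 17, 0, 0), (6, 18, 0, 0), (5, 17, 1, 0), (7, 16, 1, 0), (8, 20, 0, 0), (0, 17, 1, 0), (1, 43, 1, 0), (7, 16, 0, 0), (8, 20, 1, 0), (5, 17, 0, 0), (6, 18, 1, 0), (8, 20, 0, 0), (2, 18, 1, 0), (0, 17, 0, 0), (8, 25, 1, 1), (6, 18, 0, 0), (1, 16, 1, 0), (2, 18, 0, 0), (7, 16, 1, 0), (6, 18, 1, 0), (6, 43, 1, 2), (3, 17, 0, 0), (8, 25, 0, 1), (5, 17, 1, 0), (6, 43, 0, 2), (9, 17, 1, 0), (5, 17, 0, 0), (7, 16, 0, 0), (7, 22, 1, 0), (9, 17, 0, 0), (7, 20, 0, 0), (2, 18, 1, 0), (6, 18, 0, 0), (8, 16, 0, 0), (7, 20, 1, 0), (6, 18, 1, 0), (9,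 17, 1, 0), (6, 27, 0, 1), (8, 16, 1, 0), (9, 17, 0, 0), (7, 18, 1, 0), (8, 16, 0, 0), (5, 17, 1, 0), (7, 18, 0, 0), (6, 20, 1, 0), (5, 17, 0, 0), (3, 17, 1, 0), (6, 20, 0, 0), (5, 25, 1, 0), (3, 17, 0, 0), (4, 46, 0, 1), (4, 20, 0, 0), (6, 17, 0, 0), (9, 17, 1, 0), (8, 16, 1, 0), (7, 18, 1, 0), (9, 17, 0, 0), (7, 43, 1, 2), (6, 17, 1, 0), (9, 17, 1, 0), (4, 20, 1, 0), (6, 17, 0, 0), (4, 46, 1, 3), (5, 20, 0, 0), (5, 25, 1, 1), (5, 17, 0, 0), (6, 20, 0, 0), (6, 46, 1, 1), (9, 17, 0, 0), (7, 20, 1, 0), (7, 46, 0, 0), (5, 17, 1, 0), (6, 43, 0, 2), (6, 18, 0, 0), (7, 16, 0, 0), (3, 17, 1, 0), (1, 16, 0, 0), (8, 20, 0, 0), (7, 22, 1, 0), (9, 17, 1, 0), (7, 20, 0, 0), (5, 17, 0, 0), (9, 17, 0, 0), (8, 16, 0, 0), (6, 27, 1, 0), (3, 17, 0, 0), (8, 16, 1, 0), (7, 18, 0, 0), (9, 17, 1, 0), (8, 16, 0, 0), (3, 17, 1, 0), (6,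 20, 0, 0), (8, 16, 1, 0), (9, 17, 0, 0), (7, 18, 1, 0), (5, 25, 1, 0), (2, 18, 0, 0), (4, 46, 0, 1), (3, 17, 0, 0), (2, 18, 1, 0), (4, 20, 0, 0), (7, 18, 0, 0), (6, 17, 0, 0), (4, 20, 1, 0), (2, 18, 0, 0), (4, 46, 1, 3), (5, 20, 0, 0), (6, 17, 1, 0), (1, 48, 0, 4), (5, 18, 1, 0), (0, 17, 1, 0)]),
   ([15, 10, 10, 7, 11, 11, 5, 1, 14, 10, 10, 7, 11, 11, 5, 1, 14, 10, 10, 7, 11, 11, 5, 1, 14, 10, 10, 7, 0, 4, 7, 4, 6, 10, 9, 7, 4, 6, 8, 11, 11, 11, 9, 7, 4, 6, 8], [(6, 43, 1, 2), (12, 43, 1, 2), (18, 43, 1, 2), (0, 54, 0, 22)]),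
   ([15, 10, 10, 7, 0, 4, 7, 4, 6, 10, 9, 7, 4, 6, 8, 11, 11, 11, 9, 7, 4, 6, 8, 5, 1, 14, 10, 10, 7, 11, 11, 5, 1, 14, 10, 10, 7, 11, 11, 5, 1, 14, 10, 10, 7, 11, 11], [(23, 43, 1, 2), (29, 43, 1, 2), (35, 43, 1, 2), (0, 54, 0, 4)]),
   ([15, 10, 10, 7, 11, 11, 5, 1, 14, 10, 10, 7, 0, 4, 7, 4, 6, 10, 9, 7, 4, 6, 8, 11, 11, 11, 9, 7, 4, 6, 8, 5, 1, 14, 10, 10, 7, 11, 11, 5, 1, 14, 10, 10, 7, 11, 11], [(6, 43, 1, 2), (29, 43, 1, 2), (35, 43, 1, 2), (0, 54, 0, 10)]),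
   ([15, 0, 4, 10, 5, 1, 14, 0, 4, 10, 5, 1, 5, 1, 14, 0, 4, 10], [(4, 43, 1, 2), (10, 43, 1, 2), (0, 43, 0, 1), (2, 43, 0, 1), (6, 43, 0, 1), (0, 52, 0, 6)]),
   ([15, 0, 4, 9, 7, 5, 1, 14, 7, 5, 1, 14, 0, 4, 9, 7, 5, 1, 14, 7], [(5, 43, 1, 2), (7, 43, 1, 2), (12, 43, 1, 2), (0, 43, 0, 1), (5, 43, 0, 1), (0, 47, 0, 3)]),
   ([15, 6, 3, 0, 4, 2, 7, 5, 1, 14, 0, 4, 6, 5, 1, 14, 0, 4, 8, 3, 0, 4, 2, 7, 5, 1, 14, 0, 4, 6, 8, 4, 3, 5, 1, 2, 7], [(7, 43, 1, 2), (11, 43, 1, 2), (20, 43, 1, 2), (7, 43, 0, 1), (9, 43, 0, 1), (16, 43, 0, 1), (0, 49, 0, 9)]),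
   ([15, 0, 4, 6, 5, 1, 14, 0, 4, 8, 3, 0, 4, 2, 7, 5, 1, 14, 0, 4, 6, 8, 4, 3, 5, 1, 2, 7, 5, 1, 14, 6, 3, 0, 4, 2, 7], [(4, 43, 1, 2), (13, 43, 1, 2), (24, 43, 1, 2), (0, 43, 0, 1), (2, 43, 0, 1), (9, 43, 0, 1), (0, 49, 0, 2)]),
   ([15, 0, 4, 10, 5, 1, 5, 1, 14, 0, 4, 10, 5, 1, 14, 0, 4, 10], [(6, 43, 1, 2), (10, 43, 1, 2), (0, 43, 0, 1), (4, 43, 0, 1), (6, 43, 0, 1), (0, 52, 0, 4)]),
   ([15, 0, 4, 8, 3, 0, 4, 2, 7, 5, 1, 14, 0, 4, 6, 8, 4, 3, 5, 1, 2, 7, 5, 1, 14, 6, 3, 0, 4, 2, 7, 5, 1, 14, 0, 4, 6], [(9, 43, 1, 2), (20, 43, 1, 2), (27, 43, 1, 2), (0, 43, 0, 1), (7, 43, 0, 1), (23, 43, 0, 1), (0, 49, 0, 0)]),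
   ([15, 0, 4, 6, 8, 4, 3, 5, 1, 2, 7, 5, 1, 14, 6, 3, 0, 4, 2, 7, 5, 1, 14, 0, 4, 6, 5, 1, 14, 0, 4, 8, 3, 0, 4, 2, 7], [(11, 43, 1, 2), (18, 43, 1, 2), (22, 43, 1, 2), (0, 43, 0, 1), (16, 43, 0, 1), (18, 43, 0, 1), (0, 49, 0, 18)]),
   ([15, 10, 10, 7, 11, 11, 5, 1, 14, 10, 10, 7, 11, 11, 5, 1, 14, 10, 10, 7, 0, 4, 7, 4, 6, 10, 9, 7, 4, 6, 8, 11, 11, 11, 9, 7, 4, 6, 8, 5, 1, 14, 10, 10, 7, 11, 11], [(6, 43, 1, 2), (12, 43, 1, 2), (35, 43, 1, 2), (0, 54, 0, 16)]),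
   ([15, 7, 5, 1, 14, 0, 4, 9, 7, 5, 1, 14, 7, 5, 1, 14, 0, 4, 9, 7], [(2, 43, 1, 2), (7, 43, 1, 2), (9, 43, 1, 2), (2, 43, 0, 1), (7, 43, 0, 1), (0, 47, 0, 0)]),
   ([15, 0, 4, 10, 5, 1, 14, 0, 4, 10, 5, 1, 14, 0, 4, 10, 5, 1], [(4, 43, 1, 2), (8, 43, 1, 2), (0, 43, 0, 1), (2, 43, 0, 1), (4, 43, 0, 1), (0, 52, 0, 0)]),
   ([15, 11, 5, 1, 14, 0, 4, 10, 5, 1, 14, 11, 5, 1, 14, 0, 4, 10, 5, 1, 14, 11, 5, 1, 14, 0, 4, 10, 5, 1, 5, 1, 14, 11, 5, 1, 14, 0, 4, 10], [(2, 43, 1, 2), (6, 43, 1, 2), (8, 43, 1, 2), (12, 43, 1, 2), (14, 43, 1, 2), (20, 43, 1, 2), (22, 43, 1, 2), (2, 43, 0, 1), (6, 43, 0, 1), (10, 43, 0, 1), (16, 43, 0, 1), (0, 53, 0, 14)]),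
   ([15, 0, 4, 10, 5, 1, 14, 11, 5, 1, 14, 0, 4, 10, 5, 1, 5, 1, 14, 11, 5, 1, 14, 0, 4, 10, 5, 1, 14, 11, 5, 1, 14, 0, 4, 10, 5, 1, 14, 11], [(4, 43, 1, 2), (6, 43, 1, 2), (12, 43, 1, 2), (14, 43, 1, 2), (18, 43, 1, 2), (20, 43, 1, 2), (24, 43, 1, 2), (0, 43, 0, 1), (4, 43, 0, 1), (10, 43, 0, 1), (14, 43, 0, 1), (0, 53, 0, 8)]),
   ([15, 0, 4, 10, 5, 1, 14, 11, 5, 1, 14, 0, 4, 10, 5, 1, 14, 11, 5, 1, 14, 0, 4, 10, 5, 1, 14, 11, 5, 1, 14, 0, 4, 10, 5, 1, 5, 1, 14, 11], [(4, 43, 1, 2), (6, 43, 1, 2), (10, 43, 1, 2), (12, 43, 1, 2), (16, 43, 1, 2), (18, 43, 1, 2), (24, 43, 1, 2), (0, 43, 0, 1), (4, 43, 0, 1), (8, 43, 0, 1), (12, 43, 0, 1), (0, 53, 0, 16)]),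
   ([15, 0, 4, 10, 5, 1, 5, 1, 14, 11, 5, 1, 14, 0, 4, 10, 5, 1, 14, 11, 5, 1, 14, 0, 4, 10, 5, 1, 14, 11, 5, 1, 14, 0, 4, 10, 5, 1, 14, 11], [(6, 43, 1, 2), (8, 43, 1, 2), (12, 43, 1, 2), (14, 43, 1, 2), (18, 43, 1, 2), (20, 43, 1, 2), (24, 43, 1, 2), (0, 43, 0, 1), (6, 43, 0, 1), (10, 43, 0, 1), (14, 43, 0, 1), (0, 53, 0, 4)]),
   ([15, 11, 5, 1, 14, 0, 4, 10, 5, 1, 14, 11, 5, 1, 14, 0, 4, 10, 5, 1, 14, 11, 5, 1, 14, 0, 4, 10, 5, 1, 14, 11, 5, 1, 14, 0, 4, 10, 5, 1], [(2, 43, 1, 2), (6, 43, 1, 2), (8, 43, 1, 2), (12, 43, 1, 2), (14, 43, 1, 2), (18, 43, 1, 2), (20, 43, 1, 2), (2, 43, 0, 1), (6, 43, 0, 1), (10, 43, 0, 1), (14, 43, 0, 1), (0, 53, 0, 0)]),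
   ([15, 11, 5, 1, 14, 0, 4, 10, 5, 1, 14, 11, 5, 1, 14, 0, 4, 10, 5, 1, 5, 1, 14, 11, 5, 1, 14, 0, 4, 10, 5, 1, 14, 11, 5, 1, 14, 0, 4, 10], [(2, 43, 1, 2), (6, 43, 1, 2), (8, 43, 1, 2), (14, 43, 1, 2), (16, 43, 1, 2), (20, 43, 1, 2), (22, 43, 1, 2), (2, 43, 0, 1), (6, 43, 0, 1), (12, 43, 0, 1), (16, 43, 0, 1), (0, 53, 0, 10)]),
   ([15, 11, 5, 1, 14, 0, 4, 10, 5, 1, 5, 1, 14, 11, 5, 1, 14, 0, 4, 10, 5, 1, 14, 11, 5, 1, 14, 0, 4, 10, 5, 1, 14, 11, 5, 1, 14, 0, 4, 10], [(2, 43, 1, 2), (8, 43, 1, 2), (10, 43, 1, 2), (14, 43, 1, 2), (16, 43, 1, 2), (20, 43, 1, 2), (22, 43, 1, 2), (2, 43, 0, 1), (8, 43, 0, 1), (12, 43, 0, 1), (16, 43, 0, 1), (0, 53, 0, 6)]),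
   ([15, 0, 4, 10, 5, 1, 14, 11, 5, 1, 14, 0, 4, 10, 5, 1, 14, 11, 5, 1, 14, 0, 4, 10, 5, 1, 5, 1, 14, 11, 5, 1, 14, 0, 4, 10, 5, 1, 14, 11], [(4, 43, 1, 2), (6, 43, 1, 2), (10, 43, 1, 2), (12, 43, 1, 2), (18, 43, 1, 2), (20, 43, 1, 2), (24, 43, 1, 2), (0, 43, 0, 1), (4, 43, 0, 1), (8, 43, 0, 1), (14, 43, 0, 1), (0, 53, 0, 12)])]

theorem satT : Sat s (DT.map Prod.fst) :=
  sat_der (L := 16) (iv := iv) pres.sat DT (by decide +kernel)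

theorem s_inv : ∀ y < 16, invL iv y < 16 ∧ s (invL iv y) = (s y)⁻¹ :=
  (invOK_spec (by decide +kernel : invOK 16 iv R = true) pres.sat).1

theorem s15 : s 15 = (s 14)⁻¹ := (s_inv 14 (by norm_num)).2

theorem comm_of {a b : List ℕ} (h : (ltB 14 a && ltB 14 b &&
    (DT.map Prod.fst).contains (a ++ 14 :: (invW iv b ++ [15]))) = true) :
    io (ev ax a) * s 14 = s 14 * io (ev ax b) := by
  simp only [Bool.and_eq_true, List.contains_iff_mem] at h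
  have := satT _ h.2
  rw [ev_append, ev_cons, ev_append, ev_single, s15,
    ev_invW s_inv fun y hy => (ltB_spec h.1.2 y hy).trans (by norm_num)] at this
  rw [io_ev h.1.1, io_ev h.1.2]
  calc _ = ev s a * (s 14 * ((ev s b)⁻¹ * (s 14)⁻¹)) * (s 14 * ev s b) := by group
    _ = _ := by rw [this, one_mul]

theorem uinv : (s 14)⁻¹ = io (W ax 4165) * s 14 := by
  have := satT [14, 5, 1, 14] (by decide +kernel)
  rw [show W ax 4165 = ev ax [5, 1] from rfl, io_ev (by decide +kernel), inv_eq_iff_mul_eq_one,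
    ← this]
  simp only [ev_cons, ev_nil, mul_one, mul_assoc]

/-- the check of a relator -/
def relOK : List ℕ → Bool
  | [] => true
  | g :: l => l != [] && (g :: l).all (fun c => c % 2 == 0 && ltB 14 (wd 64 30 (c / 2))) &&
      (DT.map Prod.fst).contains
        (15 :: (wd 64 30 (g / 2) ++ l.flatMap fun c => 14 :: wd 64 30 (c / 2)))

theorem rel_of {gs : List ℕ} (h : relOK gs = true) : Rel io (s 14) ax gs := by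
  rintro g l rfl
  simp only [relOK, Bool.and_eq_true, List.contains_iff_mem, List.all_eq_true, beq_iff_eq,
    bne_iff_ne] at h
  obtain ⟨⟨h1, h2⟩, h3⟩ := h
  have k : ∀ c ∈ g :: l, io (GW ax c) = ev s (wd 64 30 (c / 2)) := fun c hc => by
    rw [GW, if_pos (h2 c hc).1, W, io_ev (h2 c hc).2]
  have := satT _ h3
  rw [ev_cons, s15, inv_mul_eq_one, ev_append] at this
  rw [List.forall_mem_cons] at k
  refine ⟨h1, this.trans ?_⟩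
  rw [k.1]
  congr 1
  have k2 := k.2
  clear k this h1 h2 h3
  induction l with
  | nil => rfl
  | cons c l ih =>
    rw [List.forall_mem_cons] at k2
    rw [List.flatMap_cons, ev_append, ih k2.2, ev_cons, ← k2.1]
    simp [uprod]

def FP1 : Nat := nat_lit 0x1000000505524553cf4ce000533cf4155555504d4004100000000000000000001000014cf49439350e4950004f55244f3d151441300c3000000534d148f4153d4000000503d43904154d4000000014544923d145410c1000000000000000000010004f55244f3d15144130004e4914515514553cf00c30000000000000000000100000000000000000001000000513d43d439351210c100000000000000000001000000000014d3453452000000000014d0490492004100000000000000000001000000000014d0490492000000000014d34534520041000000000000000000010000000148f54f5123d20000000148f54f5123d2004100000000000000000001000525134123915524940005251341239155249400410000000000000000000100000000000000000001000000000000000000011040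

def P1 : Par :=
  ⟨TT, FP1, nat_lit 10060719049430392080810148096, nat_lit 10060719049430392079753183488, nat_lit 4165, nat_lit 93514164224,
   [[nat_lit 2, nat_lit 2],
   [nat_lit 8944644318484, nat_lit 8944644318484, nat_lit 8944644318484, nat_lit 12266286734903955915092177449061546255636],
   [nat_lit 45354211114216112335482831868517312186344724, nat_lit 8944644318484, nat_lit 8944644318484, nat_lit 2522408212],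
   [nat_lit 8944644318484, nat_lit 45354211114216112335482831868517312186344724, nat_lit 8944644318484, nat_lit 2522408212]],
   [[],
   [nat_lit 1],
   [],
   [nat_lit 1, nat_lit 22866834646185234]]⟩

theorem twi {a b : ℕ} (ha : a < 64) (hb : b < 64) (h : io (ax a) * s 14 = s 14 * io (ax b)) :
    io (ax (a ^^^ 1)) * s 14 = s 14 * io (ax (b ^^^ 1)) := by
  rw [ax_inv a ha, ax_inv b hb, map_inv, map_inv, inv_mul_eq_iff_eq_mul, ← mul_assoc, h,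
    mul_inv_cancel_right]

theorem cm {a b : ℕ} (h : (decide (a < 64) && decide (b < 64) && (ltB 14 (tw2.getD a []) &&
    ltB 14 (tw2.getD b []) && (DT.map Prod.fst).contains
      (tw2.getD a [] ++ 14 :: (invW iv (tw2.getD b []) ++ [15])))) = true) :
    io (ax a) * s 14 = s 14 * io (ax b) := by
  rw [Bool.and_eq_true, Bool.and_eq_true, decide_eq_true_eq, decide_eq_true_eq] at h
  rw [ax_eq a h.1.1, ax_eq b h.1.2]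
  exact comm_of h.2

theorem env1 : Env io (s 14) ax enc P1 :=
  ⟨enc_spec.1, enc_spec.2, ax_inv, enc_one, fun d hd => by
    have := (by decide +kernel : ∀ d < 16, (kl P1.ca d, kl P1.cb d) ∈
      [(0, 0), (4, 4), (8, 8), (22, 22), (12, 13), (13, 12)]) d hd
    simp only [List.mem_cons, Prod.mk.injEq, List.not_mem_nil, or_false] at this
    rcases this with ⟨h1, h2⟩ | ⟨h1, h2⟩ | ⟨h1, h2⟩ | ⟨h1, h2⟩ | ⟨h1, h2⟩ | ⟨h1, h2⟩ <;>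
      rw [h1, h2] <;> exact cm (by decide +kernel),
    uinv, fun gs hg => rel_of ((by decide +kernel : ∀ gs ∈ P1.RL, relOK gs = true) gs hg), rfl, rfl⟩

theorem facts1 : Facts io (s 14) ax P1 10 :=
  env1.chunk [[nat_lit 0],
    [nat_lit 71],
    [nat_lit 79],
    [nat_lit 83],
    [nat_lit 87],
    [nat_lit 0],
    [nat_lit 90323596987323398, nat_lit 0, nat_lit 317222172859645616455344799764, nat_lit 2, nat_lit 4611686018432450562, nat_lit 3, nat_lit 18907912675552378748948],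
    [nat_lit 5297217, nat_lit 4, nat_lit 4611686018507620354, nat_lit 3, nat_lit 18907912675552378748948],
    [nat_lit 1517125826675304733937926, nat_lit 0, nat_lit 316990059102279607653801213972, nat_lit 6, nat_lit 4611686019850584066, nat_lit 3, nat_lit 18907912675552378748948],
    [nat_lit 1610129766252002029161998, nat_lit 0, nat_lit 317377028715186935917897334805, nat_lit 0, nat_lit 4611686018427404317]] Facts.zero rfl (by decide +kernel)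

theorem k18 : io (ax 26) * s 14 = s 14 * io (ax 30) := by
  have h1 := facts1 9 (by norm_num)
  obtain ⟨e1, e2, e3, e4, e5, e6⟩ := (by decide +kernel : fi (rc P1.FT 9) = 1 ∧ fj (rc P1.FT 9) = 1 ∧
    fe (rc P1.FT 9) = 0 ∧ fv (rc P1.FT 9) = 1 ∧ wd 64 30 (fp (rc P1.FT 9)) = tw2.getD 30 [] ∧
    wd 64 30 (fL (rc P1.FT 9)) = tw2.getD 26 [])
  rw [Fact, e1, e2, e3, e4, env1.w_one, W_one, W, W, e5, e6, ← ax_eq 30 (by norm_num),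
    ← ax_eq 26 (by norm_num)] at h1
  simpa using h1.symm

theorem k24 : io (ax 24) * s 14 = s 14 * io (ax 28) := cm (by decide +kernel)

theorem k8 : io (ax 8) * s 14 = s 14 * io (ax 8) := cm (by decide +kernel)

theorem tw0 : Tw0 io phi2 (s 14) := fun g hg => by
  have key : ∀ w ∈ W0, ∃ a < 64, ∃ b < 64, ev ax w = ax a ∧ io (ax a) * s 14 = s 14 * io (ax b) := by
    simp only [W0, List.forall_mem_cons]
    exact ⟨⟨24, by norm_num, 28, by norm_num, (ax_eq 24 (by norm_num)).symm, k24⟩,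
      ⟨8, by norm_num, 8, by norm_num, ev_single _ _, k8⟩,
      ⟨26, by norm_num, 30, by norm_num, (ax_eq 26 (by norm_num)).symm, k18⟩, by simp⟩
  refine genW_induction (p := fun g => ∃ g', io g * s 14 = s 14 * io g') ⟨1, by simp⟩ ?_ ?_
    ((stab2.2 g).mpr hg)
  · rintro w hw g ⟨g', e⟩
    obtain ⟨a, -, b, -, e1, e2⟩ := key w hw
    exact ⟨ax b * g', by rw [e1, map_mul, mul_assoc, e, ← mul_assoc, e2, map_mul, mul_assoc]⟩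
  · rintro w hw g ⟨g', e⟩
    obtain ⟨a, ha, b, hb, e1, e2⟩ := key w hw
    exact ⟨ax (b ^^^ 1) * g', by
      rw [e1, ← ax_inv a ha, map_mul, mul_assoc, e, ← mul_assoc, twi ha hb e2, map_mul, mul_assoc]⟩

def P15 : Par := { P1 with ca := nat_lit 10060719049430392096074008152, cb := nat_lit 10060719049430392100436084572 }

theorem env15 : Env io (s 14) ax enc P15 :=
  { env1 with
    kk := fun d hd => by
      have := (by decide +kernel : ∀ d < 16, (kl P15.ca d, kl P15.cb d) ∈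
        [(24, 28), (24 ^^^ 1, 28 ^^^ 1), (8, 8), (8 ^^^ 1, 8 ^^^ 1), (26, 30), (26 ^^^ 1, 30 ^^^ 1)]) d hd
      simp only [List.mem_cons, Prod.mk.injEq, List.not_mem_nil, or_false] at this
      rcases this with ⟨h1, h2⟩ | ⟨h1, h2⟩ | ⟨h1, h2⟩ | ⟨h1, h2⟩ | ⟨h1, h2⟩ | ⟨h1, h2⟩ <;> rw [h1, h2]
      exacts [k24, twi (by norm_num) (by norm_num) k24, k8, twi (by norm_num) (by norm_num) k8,
        k18, twi (by norm_num) (by norm_num) k18] }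

def KD : List Nat := [16, 17, 18, 19, 20, 21, 273810514, 323294017, 273940561, 272700737, 289427778, 324026704, 273875218, 318771777, 273748512, 288555073]

theorem kk2 : ∀ d < 16, io (ax (32 + d)) * s 14 = s 14 * io (ax (48 + d)) := fun d hd => by
  obtain ⟨h1, h2⟩ := (by decide +kernel : ∀ d < 16,
    mulK TT P15.ca (KD.getD d 0) P15.z0 = st TT (32 + d) P15.z0 ∧
    mulK TT P15.cb (KD.getD d 0) P15.z0 = st TT (48 + d) P15.z0) d hd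
  rw [env15.z0, enc_spec.2 _ (by omega), show TT = P15.TT from rfl, env15.mulK_eq, one_mul,
    one_mul] at h1 h2
  rw [← enc_spec.1 h1, ← enc_spec.1 h2]
  exact env15.kw _

end Cfsg.Agent.DCE.Th
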