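import Cfsg.Agent.DCE.Th.Main

set_option autoImplicit false
set_option maxRecDepth 100000
set_option Elab.async false

namespace Cfsg.Agent.DCE.Th
open Cfsg.Agent.Comp Cfsg.Agent.DCE

theorem _root_.Cfsg.Agent.DCE.TClosed.sizes {G H₀ : Type*} [Group G] [Group H₀] {ι : H₀ →* G}
    {φ : H₀ →* Equiv.Perm ℕ} {t : G} {n m : ℕ} {w : ℕ → G} {rows : List (List (ℕ × ℕ))}
    [Fintype (G ⧸ ι.range)] (D : TClosed ι φ t n m w rows) {v : List ℤ} {σ : ℤ}
    (h : Fn ι m w v σ) (hd : ∀ i < m, ∀ j < m, v.getD i 0 = v.getD j 0 → i = j) :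
    ∃ N : ℕ → ℕ, (∀ i < m, ∀ g k, cs ι g = cs ι (w i * ι k) → (St ι g).index = N i) ∧
      (∀ v : List ℤ, Fn ι m w v (∑ i ∈ Finset.range m, N i * v.getD i 0)) ∧
      ∀ v σ, Fn ι m w v σ → σ = ∑ i ∈ Finset.range m, N i * v.getD i 0 := by
  classical
  obtain ⟨f, hf, -⟩ := h
  have h0 : ∀ y : G ⧸ ι.range, ∃ i < m, ∃ k, y = cs ι (w i * ι k) := fun y => by
    induction y using QuotientGroup.induction_on with
    | H g =>
      obtain ⟨i, hi, k, e⟩ := D.cover g⁻¹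
      exact ⟨i, hi, k, by rw [← e, cs, inv_inv]⟩
  choose ty h1 r h2 using h0
  have h3 : ∀ i < m, ∀ k, ty (cs ι (w i * ι k)) = i := fun i hi k =>
    hd _ (h1 _) _ hi (by rw [← hf _ (h1 _) (r _), ← h2, hf i hi])
  have h4 : ∀ v : List ℤ, ∑ y, v.getD (ty y) 0 = ∑ i ∈ Finset.range m,
      ((Finset.univ.filter fun y => ty y = i).card : ℤ) * v.getD i 0 := fun v => by
    rw [← Finset.sum_fiberwise_of_maps_to (t := Finset.range m) (g := ty)
      fun y _ => Finset.mem_range.mpr (h1 y)]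
    refine Finset.sum_congr rfl fun i _ => ?_
    rw [Finset.sum_congr rfl fun y hy => by rw [(Finset.mem_filter.mp hy).2], Finset.sum_const,
      nsmul_eq_mul]
  refine ⟨fun i => (Finset.univ.filter fun y => ty y = i).card, fun i hi g k e => ?_,
    fun v => ⟨_, fun i hi k => by rw [h3 i hi], h4 v⟩, ?_⟩
  · beta_reduce
    rw [index_St, ← Set.ncard_coe_finset]
    congr 1
    ext y
    simp only [Set.mem_ofPred_eq, Finset.coe_filter, Finset.mem_univ, true_and]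
    constructor
    · rintro ⟨l, rfl⟩
      rw [cs_mul, e, ← cs_mul, mul_assoc, ← map_mul, h3 i hi]
    · rintro rfl
      exact ⟨k⁻¹ * r y, by rw [cs_mul, e, ← cs_mul, mul_assoc, ← map_mul, mul_inv_cancel_left, ← h2]⟩
  · rintro v _ ⟨f, hf, rfl⟩
    rw [← h4]
    exact Finset.sum_congr rfl fun y _ => by rw [← hf _ (h1 y) (r y), ← h2]

def NL : List Nat := [1, 17199, 45864, 2201472, 105670656, 1304576, 11741184, 5031936, 8128512, 8805888, 179712]

theorem sizes {i : ℕ} (hi : i < 11) {g : G} {k : H} (e : cs io g = cs io (w i * io k)) :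
    (St io g).index = NL.getD i 0 := by
  have := Fintype.ofFinite (G ⧸ io.range)
  have hne : ∀ i < 11, i ≠ 0 → w i ∉ io.range := fun i hi h0 hw => u_not (above _ le_rfl i hi h0 hw)
  have f0 : Fn io 11 w [] 0 := Fn.zero
  have f1 : Fn io 11 w [1, 0, 0, 0, 0, 0, 0, 0, 0, 0, 0] 1 :=
    closed.step hne 1 f0 (by decide +kernel)
  have f2 : Fn io 11 w [0, 1, 0, 0, 0, 0, 0, 0, 0, 0, 0] 17199 :=
    closed.step hne 0 f1 (by decide +kernel)
  have f3 : Fn io 11 w [17199, 78, 180, 18, 1, 27, 9, 0, 0, 0, 0] 295805601 :=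
    closed.step hne 0 f2 (by decide +kernel)
  have f4 : Fn io 11 w [1341522, 267891, 41364, 41994, 34549, 28269, 25695, 49770, 60606, 28584, 24696] 5087560531599 :=
    closed.step hne 0 f3 (by decide +kernel)
  obtain ⟨N, h1, h2, h3⟩ := closed.sizes f4 (by decide +kernel)
  have h4 : ∀ v v' : List ℤ, stepB 0 11 rows v 0 0 v' 0 = true →
      (17199 : ℕ) * ∑ i ∈ Finset.range 11, N i * v.getD i 0 + 0 = ∑ i ∈ Finset.range 11, N i * v'.getD i 0 :=
    fun v v' hB => h3 _ _ (closed.step hne 0 (h2 v) (by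
      simp only [stepB, Bool.and_eq_true] at hB ⊢
      exact ⟨hB.1, beq_self_eq_true _⟩))
  have k10 := h3 _ _ f1
  have k0 := h4 [1, 0, 0, 0, 0, 0, 0, 0, 0, 0, 0] [0, 1, 0, 0, 0, 0, 0, 0, 0, 0, 0] (by decide +kernel)
  have k1 := h4 [0, 1, 0, 0, 0, 0, 0, 0, 0, 0, 0] [17199, 78, 180, 18, 1, 27, 9, 0, 0, 0, 0] (by decide +kernel)
  have k2 := h4 [0, 0, 1, 0, 0, 0, 0, 0, 0, 0, 0] [0, 480, 27, 18, 3, 0, 0, 21, 39, 0, 0] (by decide +kernel)
  have k3 := h4 [0, 0, 0, 1, 0, 0, 0, 0, 0, 0, 0] [0, 2304, 864, 363, 264, 243, 297, 189, 351, 156, 588] (by decide +kernel)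
  have k4 := h4 [0, 0, 0, 0, 1, 0, 0, 0, 0, 0, 0] [0, 6144, 6912, 12672, 12799, 12312, 12276, 12348, 12168, 12816, 14112] (by decide +kernel)
  have k5 := h4 [0, 0, 0, 0, 0, 1, 0, 0, 0, 0, 0] [0, 2048, 0, 144, 152, 81, 90, 210, 390, 72, 0] (by decide +kernel)
  have k6 := h4 [0, 0, 0, 0, 0, 0, 1, 0, 0, 0, 0] [0, 6144, 0, 1584, 1364, 810, 549, 2730, 2730, 1224, 0] (by decide +kernel)
  have k7 := h4 [0, 0, 0, 0, 0, 0, 0, 1, 0, 0, 0] [0, 0, 2304, 432, 588, 810, 1170, 189, 234, 648, 0] (by decide +kernel)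
  have k8 := h4 [0, 0, 0, 0, 0, 0, 0, 0, 1, 0, 0] [0, 0, 6912, 1296, 936, 2430, 1890, 378, 585, 648, 0] (by decide +kernel)
  have k9 := h4 [0, 0, 0, 0, 0, 0, 0, 0, 0, 1, 0] [0, 0, 0, 624, 1068, 486, 918, 1134, 702, 1587, 2352] (by decide +kernel)
  simp only [Finset.sum_range_succ, Finset.range_zero, Finset.sum_empty, List.getD_cons_zero,
    List.getD_cons_succ, Nat.cast_ofNat] at k0 k1 k2 k3 k4 k5 k6 k7 k8 k9 k10
  rw [h1 i hi g k e, ← Nat.cast_inj (R := ℤ)]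
  interval_cases i <;> simp only [NL, List.getD_cons_zero, List.getD_cons_succ, Nat.cast_ofNat,
    Nat.cast_one] <;> linarith

/-- the check of a stabiliser chain -/
noncomputable def lowB (V : List (List ℕ)) : List (List (List ℕ) × List ℕ × ℕ × ℕ) → Bool
  | [] => true
  | e :: lv => orbGe 819 10 T (e.1.map (subst V)) e.2.1 e.2.2.1 e.2.2.2 &&
      lv.all (fun f => invS T (f.1.map (subst V)) (pt e.2.2.1)) && lowB V lv

theorem subst_mem {X : Type*} [Group X] (s : ℕ → X) (V : List (List ℕ)) (v : List ℕ) :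
    ev s (subst V v) ∈ genW s V := by
  rw [ev_subst]
  refine ev_mem fun x _ => ?_
  rcases getD_mem V x [] with e | e
  · rw [e]; exact one_mem _
  · exact ev_mem_genW e

theorem low_of {V : List (List ℕ)} (lv : List (List (List ℕ) × List ℕ × ℕ × ℕ))
    (K : Subgroup (Equiv.Perm ℕ)) [Finite K]
    (hK : ∀ e ∈ lv, genW (sig T) (e.1.map (subst V)) ≤ K) (h : lowB V lv = true) :
    (lv.map (·.2.2.2)).prod ≤ Nat.card K := by
  induction lv generalizing K with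
  | nil => exact Nat.card_pos
  | cons e lv ih =>
    simp only [lowB, Bool.and_eq_true, List.all_eq_true] at h
    rw [List.forall_mem_cons] at hK
    have : Finite (K ⊓ MulAction.stabilizer (Equiv.Perm ℕ) e.2.2.1 : Subgroup _) :=
      Finite.of_injective _ (Subgroup.inclusion_injective inf_le_left)
    refine card_ge_step (inf_le_left (b := MulAction.stabilizer (Equiv.Perm ℕ) e.2.2.1))
      (fun g hg => hg.2) ((le_ncard_of_orbGe ok (by norm_num) h.1.1).trans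
        (Set.ncard_le_ncard ?_ (Set.finite_range _))) (ih _ (fun f hf g hg =>
          ⟨hK.2 f hf hg, fix_of_invS ok (h.1.2 f hf) hg⟩) h.2)
    rintro _ ⟨g, rfl⟩
    exact ⟨⟨g, hK.1 g.2⟩, rfl⟩

theorem St_of {i : ℕ} (hi : i < 11) {V : List (List ℕ)} (hV : SWL io ax (w i) V)
    (lv : List (List (List ℕ) × List ℕ × ℕ × ℕ)) (h : (V.all (ltB 22) && lowB V lv &&
      decide (634023936 ≤ (lv.map (·.2.2.2)).prod * NL.getD i 0)) = true) :
    St io (w i) = genW ax V := by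
  have := cardH.1
  simp only [Bool.and_eq_true, List.all_eq_true, decide_eq_true_eq] at h
  have := ok.finite V
  have h1 := low_of lv (genW (sig T) V) (fun e _ => genW_le.mpr fun u hu => by
    obtain ⟨v, -, rfl⟩ := List.mem_map.mp hu
    exact subst_mem _ _ _) h.1.2
  rw [← repx.card_genW cardH.2.2 fun u hu => ltB_spec (h.1.1 u hu)] at h1
  have h2 := (St io (w i)).card_mul_index
  rw [sizes hi (k := 1) (by rw [map_one, mul_one]), cardH.2.1] at h2
  refine (Subgroup.eq_of_le_of_card_ge (genW_le.mpr fun u hu => mem_St.mpr (hV u hu)) ?_).symm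
  have h3 : 0 < NL.getD i 0 := Nat.pos_of_ne_zero fun e => by rw [e] at h2; omega
  exact (Nat.le_of_mul_le_mul_right (h2.le.trans h.2) h3).trans h1

theorem St1 : St io (w 1) = genW ax V1 :=
  St_of (by norm_num) sw1 [([[4], [0, 2], [0, 4]], [0, 0, 1, 0, 2, 0, 1, 0, 2, 0, 1, 0, 0, 2, 0, 0, 0, 0], 1, 768), ([[0], [2], [4, 0, 2, 4, 4, 0, 2, 4], [4, 0, 2, 5, 2, 4, 4, 0, 5]], [0, 1, 2, 3, 2, 3, 2], 51, 48)] (by decide +kernel)

theorem St2 : St io (w 2) = genW ax V2 :=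
  St_of (by norm_num) sw2 [([[0], [1], [2], [3], [5]], [0, 1, 2, 3, 4, 0, 2, 1, 4, 0, 4, 1, 0], 1, 512), ([[1, 4, 2], [5, 5, 1, 3]], [0, 1, 0, 1, 0, 1, 0], 8, 27)] (by decide +kernel)

theorem St3 : St io (w 3) = genW ax V3 :=
  St_of (by norm_num) sw3 [([[0], [1], [2]], [0, 1, 2, 0, 1, 2, 0, 1, 0, 2, 1, 0], 5, 288)] (by decide +kernel)

theorem St4 : St io (w 4) = genW ax V4 :=
  St_of (by norm_num) sw4 [([[0], [1]], [0, 1, 0], 1, 6)] (by decide +kernel)

theorem St5 : St io (w 5) = genW ax V5 :=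
  St_of (by norm_num) sw5 [([[0], [1], [2]], [0, 1, 2, 1, 2, 0, 2, 1, 2, 1, 2, 2, 1], 2, 243), ([[3]], [0], 0, 2)] (by decide +kernel)

theorem St6 : St io (w 6) = genW ax V6 :=
  St_of (by norm_num) sw6 [([[0], [1], [2]], [0, 1, 2, 0, 1, 2, 0, 1], 2, 54)] (by decide +kernel)

theorem St7 : St io (w 7) = genW ax V7 :=
  St_of (by norm_num) sw7 [([[0], [1], [2]], [0, 1, 2, 0, 1, 2, 0, 1, 0, 1, 1], 1, 126)] (by decide +kernel)

theorem St8 : St io (w 8) = genW ax V8 :=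
  St_of (by norm_num) sw8 [([[0], [1]], [0, 1, 0, 0, 1, 0, 0, 1, 0, 1, 0, 1], 2, 78)] (by decide +kernel)

theorem St9 : St io (w 9) = genW ax V9 :=
  St_of (by norm_num) sw9 [([[0], [1], [2]], [0, 1, 2, 1, 2, 1, 2, 1, 2], 1, 72)] (by decide +kernel)

theorem St10 : St io (w 10) = genW ax V10 :=
  St_of (by norm_num) sw10 [([[0], [1], [2], [3]], [0, 1, 2, 3, 0, 1, 3, 2, 3, 1, 0, 3, 2], 1, 588), ([[4, 2, 4, 2], [2, 0, 2, 4, 1]], [0, 1, 1], 0, 6)] (by decide +kernel)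


end Cfsg.Agent.DCE.Th
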